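import Cfsg.Agent.Lib.Helper40.Fi.F22P14080
set_option autoImplicit false
set_option maxRecDepth 100000
namespace Cfsg.Agent.Lib.Helper40.PE.F22P14080
noncomputable def pt0_p : ℕ → Bool := fun i => (P.ptOK F22.B) (Nat.add 0 i)
theorem pt0_c0 : allB (fun i => pt0_p (Nat.add 0 i)) 250 = true := by decide +kernel
theorem pt0_c1 : allB (fun i => pt0_p (Nat.add 250 i)) 250 = true := by decide +kernel
theorem pt0_c2 : allB (fun i => pt0_p (Nat.add 500 i)) 250 = true := by decide +kernel
theorem pt0_c3 : allB (fun i => pt0_p (Nat.add 750 i)) 250 = true := by decide +kernel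
theorem pt0_c4 : allB (fun i => pt0_p (Nat.add 1000 i)) 250 = true := by decide +kernel
theorem pt0_c5 : allB (fun i => pt0_p (Nat.add 1250 i)) 250 = true := by decide +kernel
theorem pt0_c6 : allB (fun i => pt0_p (Nat.add 1500 i)) 250 = true := by decide +kernel
theorem pt0_c7 : allB (fun i => pt0_p (Nat.add 1750 i)) 250 = true := by decide +kernel
theorem pt0_c8 : allB (fun i => pt0_p (Nat.add 2000 i)) 250 = true := by decide +kernel
theorem pt0_c9 : allB (fun i => pt0_p (Nat.add 2250 i)) 250 = true := by decide +kernel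
theorem pt0_c10 : allB (fun i => pt0_p (Nat.add 2500 i)) 250 = true := by decide +kernel
theorem pt0_c11 : allB (fun i => pt0_p (Nat.add 2750 i)) 250 = true := by decide +kernel
theorem pt0_c12 : allB (fun i => pt0_p (Nat.add 3000 i)) 250 = true := by decide +kernel
theorem pt0_c13 : allB (fun i => pt0_p (Nat.add 3250 i)) 250 = true := by decide +kernel
theorem pt0_c14 : allB (fun i => pt0_p (Nat.add 3500 i)) 20 = true := by decide +kernel
theorem pt0_a0 : ∀ u < 0, pt0_p u = true := allB_base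
theorem pt0_a1 : ∀ u < 250, pt0_p u = true := allB_extend (p := pt0_p) pt0_a0 pt0_c0
theorem pt0_a2 : ∀ u < 500, pt0_p u = true := allB_extend (p := pt0_p) pt0_a1 pt0_c1
theorem pt0_a3 : ∀ u < 750, pt0_p u = true := allB_extend (p := pt0_p) pt0_a2 pt0_c2
theorem pt0_a4 : ∀ u < 1000, pt0_p u = true := allB_extend (p := pt0_p) pt0_a3 pt0_c3
theorem pt0_a5 : ∀ u < 1250, pt0_p u = true := allB_extend (p := pt0_p) pt0_a4 pt0_c4
theorem pt0_a6 : ∀ u < 1500, pt0_p u = true := allB_extend (p := pt0_p) pt0_a5 pt0_c5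
theorem pt0_a7 : ∀ u < 1750, pt0_p u = true := allB_extend (p := pt0_p) pt0_a6 pt0_c6
theorem pt0_a8 : ∀ u < 2000, pt0_p u = true := allB_extend (p := pt0_p) pt0_a7 pt0_c7
theorem pt0_a9 : ∀ u < 2250, pt0_p u = true := allB_extend (p := pt0_p) pt0_a8 pt0_c8
theorem pt0_a10 : ∀ u < 2500, pt0_p u = true := allB_extend (p := pt0_p) pt0_a9 pt0_c9
theorem pt0_a11 : ∀ u < 2750, pt0_p u = true := allB_extend (p := pt0_p) pt0_a10 pt0_c10
theorem pt0_a12 : ∀ u < 3000, pt0_p u = true := allB_extend (p := pt0_p) pt0_a11 pt0_c11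
theorem pt0_a13 : ∀ u < 3250, pt0_p u = true := allB_extend (p := pt0_p) pt0_a12 pt0_c12
theorem pt0_a14 : ∀ u < 3500, pt0_p u = true := allB_extend (p := pt0_p) pt0_a13 pt0_c13
theorem pt0_a15 : ∀ u < 3520, pt0_p u = true := allB_extend (p := pt0_p) pt0_a14 pt0_c14
theorem pt0 : ∀ u, 0 ≤ u → u < 3520 → (P.ptOK F22.B) u = true := by
  intro u h1 h2
  have h3 := pt0_a15 (u - 0) (by omega)
  have e : Nat.add 0 (u - 0) = u := by show 0 + (u - 0) = u; omega
  unfold pt0_p at h3
  rw [e] at h3; exact h3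
end Cfsg.Agent.Lib.Helper40.PE.F22P14080
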