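import Cfsg.Agent.Lib.Helper40.Fi.F22P14080
set_option autoImplicit false
set_option maxRecDepth 100000
namespace Cfsg.Agent.Lib.Helper40.PE.F22P14080
noncomputable def pt1_p : ℕ → Bool := fun i => (P.ptOK F22.B) (Nat.add 3520 i)
theorem pt1_c0 : allB (fun i => pt1_p (Nat.add 0 i)) 250 = true := by decide +kernel
theorem pt1_c1 : allB (fun i => pt1_p (Nat.add 250 i)) 250 = true := by decide +kernel
theorem pt1_c2 : allB (fun i => pt1_p (Nat.add 500 i)) 250 = true := by decide +kernel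
theorem pt1_c3 : allB (fun i => pt1_p (Nat.add 750 i)) 250 = true := by decide +kernel
theorem pt1_c4 : allB (fun i => pt1_p (Nat.add 1000 i)) 250 = true := by decide +kernel
theorem pt1_c5 : allB (fun i => pt1_p (Nat.add 1250 i)) 250 = true := by decide +kernel
theorem pt1_c6 : allB (fun i => pt1_p (Nat.add 1500 i)) 250 = true := by decide +kernel
theorem pt1_c7 : allB (fun i => pt1_p (Nat.add 1750 i)) 250 = true := by decide +kernel
theorem pt1_c8 : allB (fun i => pt1_p (Nat.add 2000 i)) 250 = true := by decide +kernel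
theorem pt1_c9 : allB (fun i => pt1_p (Nat.add 2250 i)) 250 = true := by decide +kernel
theorem pt1_c10 : allB (fun i => pt1_p (Nat.add 2500 i)) 250 = true := by decide +kernel
theorem pt1_c11 : allB (fun i => pt1_p (Nat.add 2750 i)) 250 = true := by decide +kernel
theorem pt1_c12 : allB (fun i => pt1_p (Nat.add 3000 i)) 250 = true := by decide +kernel
theorem pt1_c13 : allB (fun i => pt1_p (Nat.add 3250 i)) 250 = true := by decide +kernel
theorem pt1_c14 : allB (fun i => pt1_p (Nat.add 3500 i)) 20 = true := by decide +kernel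
theorem pt1_a0 : ∀ u < 0, pt1_p u = true := allB_base
theorem pt1_a1 : ∀ u < 250, pt1_p u = true := allB_extend (p := pt1_p) pt1_a0 pt1_c0
theorem pt1_a2 : ∀ u < 500, pt1_p u = true := allB_extend (p := pt1_p) pt1_a1 pt1_c1
theorem pt1_a3 : ∀ u < 750, pt1_p u = true := allB_extend (p := pt1_p) pt1_a2 pt1_c2
theorem pt1_a4 : ∀ u < 1000, pt1_p u = true := allB_extend (p := pt1_p) pt1_a3 pt1_c3
theorem pt1_a5 : ∀ u < 1250, pt1_p u = true := allB_extend (p := pt1_p) pt1_a4 pt1_c4
theorem pt1_a6 : ∀ u < 1500, pt1_p u = true := allB_extend (p := pt1_p) pt1_a5 pt1_c5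
theorem pt1_a7 : ∀ u < 1750, pt1_p u = true := allB_extend (p := pt1_p) pt1_a6 pt1_c6
theorem pt1_a8 : ∀ u < 2000, pt1_p u = true := allB_extend (p := pt1_p) pt1_a7 pt1_c7
theorem pt1_a9 : ∀ u < 2250, pt1_p u = true := allB_extend (p := pt1_p) pt1_a8 pt1_c8
theorem pt1_a10 : ∀ u < 2500, pt1_p u = true := allB_extend (p := pt1_p) pt1_a9 pt1_c9
theorem pt1_a11 : ∀ u < 2750, pt1_p u = true := allB_extend (p := pt1_p) pt1_a10 pt1_c10
theorem pt1_a12 : ∀ u < 3000, pt1_p u = true := allB_extend (p := pt1_p) pt1_a11 pt1_c11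
theorem pt1_a13 : ∀ u < 3250, pt1_p u = true := allB_extend (p := pt1_p) pt1_a12 pt1_c12
theorem pt1_a14 : ∀ u < 3500, pt1_p u = true := allB_extend (p := pt1_p) pt1_a13 pt1_c13
theorem pt1_a15 : ∀ u < 3520, pt1_p u = true := allB_extend (p := pt1_p) pt1_a14 pt1_c14
theorem pt1 : ∀ u, 3520 ≤ u → u < 7040 → (P.ptOK F22.B) u = true := by
  intro u h1 h2
  have h3 := pt1_a15 (u - 3520) (by omega)
  have e : Nat.add 3520 (u - 3520) = u := by show 3520 + (u - 3520) = u; omega
  unfold pt1_p at h3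
  rw [e] at h3; exact h3
end Cfsg.Agent.Lib.Helper40.PE.F22P14080
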