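import Cfsg.Agent.Lib.Helper40.Fi.F22P14080
set_option autoImplicit false
set_option maxRecDepth 100000
namespace Cfsg.Agent.Lib.Helper40.PE.F22P14080
noncomputable def pt3_p : ℕ → Bool := fun i => (P.ptOK F22.B) (Nat.add 10560 i)
theorem pt3_c0 : allB (fun i => pt3_p (Nat.add 0 i)) 250 = true := by decide +kernel
theorem pt3_c1 : allB (fun i => pt3_p (Nat.add 250 i)) 250 = true := by decide +kernel
theorem pt3_c2 : allB (fun i => pt3_p (Nat.add 500 i)) 250 = true := by decide +kernel
theorem pt3_c3 : allB (fun i => pt3_p (Nat.add 750 i)) 250 = true := by decide +kernel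
theorem pt3_c4 : allB (fun i => pt3_p (Nat.add 1000 i)) 250 = true := by decide +kernel
theorem pt3_c5 : allB (fun i => pt3_p (Nat.add 1250 i)) 250 = true := by decide +kernel
theorem pt3_c6 : allB (fun i => pt3_p (Nat.add 1500 i)) 250 = true := by decide +kernel
theorem pt3_c7 : allB (fun i => pt3_p (Nat.add 1750 i)) 250 = true := by decide +kernel
theorem pt3_c8 : allB (fun i => pt3_p (Nat.add 2000 i)) 250 = true := by decide +kernel
theorem pt3_c9 : allB (fun i => pt3_p (Nat.add 2250 i)) 250 = true := by decide +kernel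
theorem pt3_c10 : allB (fun i => pt3_p (Nat.add 2500 i)) 250 = true := by decide +kernel
theorem pt3_c11 : allB (fun i => pt3_p (Nat.add 2750 i)) 250 = true := by decide +kernel
theorem pt3_c12 : allB (fun i => pt3_p (Nat.add 3000 i)) 250 = true := by decide +kernel
theorem pt3_c13 : allB (fun i => pt3_p (Nat.add 3250 i)) 250 = true := by decide +kernel
theorem pt3_c14 : allB (fun i => pt3_p (Nat.add 3500 i)) 20 = true := by decide +kernel
theorem pt3_a0 : ∀ u < 0, pt3_p u = true := allB_base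
theorem pt3_a1 : ∀ u < 250, pt3_p u = true := allB_extend (p := pt3_p) pt3_a0 pt3_c0
theorem pt3_a2 : ∀ u < 500, pt3_p u = true := allB_extend (p := pt3_p) pt3_a1 pt3_c1
theorem pt3_a3 : ∀ u < 750, pt3_p u = true := allB_extend (p := pt3_p) pt3_a2 pt3_c2
theorem pt3_a4 : ∀ u < 1000, pt3_p u = true := allB_extend (p := pt3_p) pt3_a3 pt3_c3
theorem pt3_a5 : ∀ u < 1250, pt3_p u = true := allB_extend (p := pt3_p) pt3_a4 pt3_c4
theorem pt3_a6 : ∀ u < 1500, pt3_p u = true := allB_extend (p := pt3_p) pt3_a5 pt3_c5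
theorem pt3_a7 : ∀ u < 1750, pt3_p u = true := allB_extend (p := pt3_p) pt3_a6 pt3_c6
theorem pt3_a8 : ∀ u < 2000, pt3_p u = true := allB_extend (p := pt3_p) pt3_a7 pt3_c7
theorem pt3_a9 : ∀ u < 2250, pt3_p u = true := allB_extend (p := pt3_p) pt3_a8 pt3_c8
theorem pt3_a10 : ∀ u < 2500, pt3_p u = true := allB_extend (p := pt3_p) pt3_a9 pt3_c9
theorem pt3_a11 : ∀ u < 2750, pt3_p u = true := allB_extend (p := pt3_p) pt3_a10 pt3_c10
theorem pt3_a12 : ∀ u < 3000, pt3_p u = true := allB_extend (p := pt3_p) pt3_a11 pt3_c11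
theorem pt3_a13 : ∀ u < 3250, pt3_p u = true := allB_extend (p := pt3_p) pt3_a12 pt3_c12
theorem pt3_a14 : ∀ u < 3500, pt3_p u = true := allB_extend (p := pt3_p) pt3_a13 pt3_c13
theorem pt3_a15 : ∀ u < 3520, pt3_p u = true := allB_extend (p := pt3_p) pt3_a14 pt3_c14
theorem pt3 : ∀ u, 10560 ≤ u → u < 14080 → (P.ptOK F22.B) u = true := by
  intro u h1 h2
  have h3 := pt3_a15 (u - 10560) (by omega)
  have e : Nat.add 10560 (u - 10560) = u := by show 10560 + (u - 10560) = u; omega
  unfold pt3_p at h3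
  rw [e] at h3; exact h3
end Cfsg.Agent.Lib.Helper40.PE.F22P14080
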