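import Cfsg.Agent.Lib.Helper40.Fi.F22P14080o
import Cfsg.Agent.Lib.Helper40.Fi.F22P14080c0
import Cfsg.Agent.Lib.Helper40.Fi.F22P14080c1
import Cfsg.Agent.Lib.Helper40.Fi.F22P14080c2
import Cfsg.Agent.Lib.Helper40.Fi.F22P14080c3
import Cfsg.Agent.Lib.Helper40.PresLower
set_option autoImplicit false
set_option maxRecDepth 100000
namespace Cfsg.Agent.Lib.Helper40.PE.F22P14080
theorem good : P.Good F22.B := by
  refine ⟨fun x hx => ?_, F22.B_letters, F22.B_kk⟩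
  have hx' : x < 14080 := hx
  by_cases h0 : x < 3520
  · exact pt0 x (Nat.zero_le _) h0
  by_cases h1 : x < 7040
  · exact pt1 x (by omega) h1
  by_cases h2 : x < 10560
  · exact pt2 x (by omega) h2
  · exact pt3 x (by omega) hx'
def Lv0T_0 : BT ℕ := .node (.node (.node (.node (.node (.node (.leaf 0x1) (.leaf 0x1b31bf4d51)) (.node (.leaf 0x1600d3c4f8) (.leaf 0x2032e29e32))) (.node (.node (.leaf 0x1370654229) (.leaf 0x1d623d1364)) (.node (.leaf 0x19114c48c2) (.leaf 0x0)))) (.node (.node (.node (.leaf 0x1040310104) (.leaf 0x1c61fed02f)) (.node (.leaf 0x17611106b5) (.leaf 0x0))) (.node (.node (.leaf 0x14109c037a) (.leaf 0x1e6286578a)) (.node (.leaf 0x1a31848ae2) (.leaf 0x0))))) (.node (.node (.node (.node (.leaf 0xd00168081) (.leaf 0x1b61de8e9e)) (.node (.leaf 0x1750f005cb) (.leaf 0x0))) (.node (.node (.leaf 0x142080c2cd) (.leaf 0x1e025e5516)) (.node (.leaf 0x196168c9bc) (.leaf 0x0)))) (.node (.node (.node (.leaf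 0x125049818e) (.leaf 0x1d621b918f)) (.node (.leaf 0x18213047ba) (.leaf 0x0))) (.node (.node (.leaf 0x1510b70432) (.leaf 0x1f12b7da37)) (.node (.leaf 0x1b61a2cc11) (.leaf 0x0)))))) (.node (.node (.node (.node (.node (.leaf 0xb700a4041) (.leaf 0x1b61cf8dfe)) (.node (.leaf 0x1630e1855b) (.leaf 0x2112ff6177))) (.node (.node (.leaf 0x142071c277) (.leaf 0x1d624f9444)) (.node (.leaf 0x19615a894c) (.leaf 0x0)))) (.node (.node (.node (.leaf 0x11503dc149) (.leaf 0x1c720d90e3)) (.node (.leaf 0x18511fc733) (.leaf 0x0))) (.node (.node (.leaf 0x1520a883d2) (.leaf 0x1e32985871)) (.node (.leaf 0x1a61938b7b) (.leaf 0x0))))) (.node (.node (.node (.node (.leaf 0xf702400c2) (.leaf 0x1c51ef0f99)) (.node (.leaf 0x175101c643) (.leaf 0x0))) (.node (.node (.leaf 0x14208d431f) (.leaf 0x1e62721689)) (.node (.leaf 0x1911784a69) (.leaf 0x0)))) (.node (.node (.node (.leaf 0x12705701d8) (.leaf 0x1c122dd29f)) (.node (.leaf 0x18513ec834)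 (.leaf 0x0))) (.node (.node (.leaf 0x1600c50495) (.leaf 0x1f12c69ba1)) (.node (.leaf 0x1b61b18cd4) (.leaf 0x0))))))
def Lv0T_1 : BT ℕ := .node (.node (.node (.node (.node (.node (.leaf 0x930050021) (.leaf 0x1b61c8cdbf)) (.node (.leaf 0x1650da052a) (.leaf 0x2002ee1f1e))) (.node (.node (.leaf 0x13306bc24f) (.leaf 0x1d024753f3)) (.node (.leaf 0x1901548909) (.leaf 0x0)))) (.node (.node (.node (.leaf 0x102036c125) (.leaf 0x1c420750a5)) (.node (.leaf 0x181119c700) (.leaf 0x0))) (.node (.node (.leaf 0x1500a243a5) (.leaf 0x1e728e57e9)) (.node (.leaf 0x1a518d0b44) (.leaf 0x0))))) (.node (.node (.node (.node (.leaf 0xf401d40a1) (.leaf 0x1b41e70f16)) (.node (.leaf 0x1760f9c609) (.leaf 0x0))) (.node (.node (.leaf 0x143086c2f5) (.leaf 0x1e32665590)) (.node (.leaf 0x1971708a11) (.leaf 0x0)))) (.node (.node (.node (.leaf 0x124051c1b5) (.leaf 0x1c5223d1ff)) (.node (.leaf 0x18513607ec) (.leaf 0x0))) (.node (.node (.leaf 0x1800be0461)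 (.leaf 0x1f32bc5b1f)) (.node (.leaf 0x1a41aa0c69) (.leaf 0x0)))))) (.node (.node (.node (.node (.node (.leaf 0x1170104061) (.leaf 0x1b61d74e52)) (.node (.leaf 0x1650ea0597) (.leaf 0x0))) (.node (.node (.leaf 0x13207942a1) (.leaf 0x1d425714a9)) (.node (.leaf 0x1901624984) (.leaf 0x0)))) (.node (.node (.node (.leaf 0x117043416a) (.leaf 0x1c6214d13c)) (.node (.leaf 0x18112a0789) (.leaf 0x0))) (.node (.node (.leaf 0x1520afc401) (.leaf 0x1f32a21903)) (.node (.leaf 0x1a619b0bc0) (.leaf 0x0))))) (.node (.node (.node (.node (.leaf 0x12002a40e2) (.leaf 0x1c31f5cfdc)) (.node (.leaf 0x1831084675) (.leaf 0x0))) (.node (.node (.leaf 0x141094c34c) (.leaf 0x1e127b56e3)) (.node (.leaf 0x1a517e0aab) (.leaf 0x0)))) (.node (.node (.node (.leaf 0x12505e01ff) (.leaf 0x1d52351315)) (.node (.leaf 0x183146087e) (.leaf 0x0))) (.node (.node (.leaf 0x1610cb04c4) (.leaf 0x1f12d35c81)) (.node (.leaf 0x1b61b7cd10) (.leaf 0x0))))))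
def Lv0T_2 : BT ℕ := .node (.node (.node (.node (.node (.node (.leaf 0x760028011) (.leaf 0x1b11c5cda3)) (.node (.leaf 0x1640d7050e) (.leaf 0x2032e91ecb))) (.node (.node (.leaf 0x130068423b) (.leaf 0x1d624413d0)) (.node (.leaf 0x19214fc8db) (.leaf 0x0)))) (.node (.node (.node (.leaf 0x1040338114) (.leaf 0x1c22041083)) (.node (.leaf 0x17611586d5) (.leaf 0x0))) (.node (.node (.leaf 0x15409f0391) (.leaf 0x1e628a57b4)) (.node (.leaf 0x1a7189cb20) (.leaf 0x0))))) (.node (.node (.node (.node (.leaf 0xe301a8091) (.leaf 0x1b51e28ed4)) (.node (.leaf 0x1770f545e7) (.leaf 0x0))) (.node (.node (.leaf 0x14008382df) (.leaf 0x1d7260952b)) (.node (.leaf 0x19316d49e8) (.leaf 0x0)))) (.node (.node (.node (.leaf 0x11704e01a3) (.leaf 0x1d621fd1c1)) (.node (.leaf 0x18313307d2) (.leaf 0x0))) (.node (.node (.leaf 0x1550ba0448) (.leaf 0x1f32b4da9e)) (.node (.leaf 0x1a61a58c35) (.leaf 0x0)))))) (.node (.node (.node (.node (.node (.leaf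 0xc700d8051) (.leaf 0x1b31d40e2b)) (.node (.leaf 0x1660e58577) (.leaf 0x2173072250))) (.node (.node (.leaf 0x132075428a) (.leaf 0x1d02539476)) (.node (.leaf 0x19615e0965) (.leaf 0x0)))) (.node (.node (.node (.leaf 0x111040c15a) (.leaf 0x1c2211d115)) (.node (.leaf 0x184125075c) (.leaf 0x0))) (.node (.node (.leaf 0x1510ac03e9) (.leaf 0x1e729d58bc)) (.node (.leaf 0x1a61974b9f) (.leaf 0x0))))) (.node (.node (.node (.node (.leaf 0x10102700d2) (.leaf 0x1c61f24fbb)) (.node (.leaf 0x1751054661) (.leaf 0x0))) (.node (.node (.leaf 0x140090c334) (.leaf 0x1e627716bd)) (.node (.leaf 0x1a317b4a93) (.leaf 0x0)))) (.node (.node (.node (.leaf 0x12205ac1eb) (.leaf 0x1d623192e9)) (.node (.leaf 0x182142c859) (.leaf 0x0))) (.node (.node (.leaf 0x1640c7c4a9) (.leaf 0x1f32cddc27)) (.node (.leaf 0x1b51b44cf3) (.leaf 0x0))))))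
def Lv0T_3 : BT ℕ := .node (.node (.node (.node (.node (.node (.leaf 0xa10080031) (.leaf 0x1b61cc0dde)) (.node (.leaf 0x1750dd853f) (.leaf 0x2022f45fc0))) (.node (.node (.leaf 0x13706e8261) (.leaf 0x1d724a9417)) (.node (.leaf 0x1931584935) (.leaf 0x0)))) (.node (.node (.node (.leaf 0x105039c136) (.leaf 0x1c020a10c6)) (.node (.leaf 0x18311d071e) (.leaf 0x0))) (.node (.node (.leaf 0x1520a583be) (.leaf 0x1e1293982d)) (.node (.leaf 0x1a51904b5f) (.leaf 0x0))))) (.node (.node (.node (.node (.leaf 0xe402040b1) (.leaf 0x1c71eacf47)) (.node (.leaf 0x1730ff062e) (.leaf 0x0))) (.node (.node (.leaf 0x14208a0309) (.leaf 0x1d026cd607)) (.node (.leaf 0x1a2174ca3d) (.leaf 0x0)))) (.node (.node (.node (.leaf 0x124054c1c7) (.leaf 0x1c3228d250)) (.node (.leaf 0x19513b480f) (.leaf 0x0))) (.node (.node (.leaf 0x1670c1447b) (.leaf 0x1f12c19b60)) (.node (.leaf 0x1d61ad8c99) (.leaf 0x0)))))) (.node (.node (.node (.node (.node (.leaf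 0xd70138071) (.leaf 0x1b41db4e76)) (.node (.leaf 0x1740ed45b3) (.leaf 0x0))) (.node (.node (.leaf 0x13207d82b8) (.leaf 0x1d6259d4cf)) (.node (.leaf 0x1a1165c9a4) (.leaf 0x0)))) (.node (.node (.node (.leaf 0x117046817b) (.leaf 0x1c6217d164)) (.node (.leaf 0x18512c87a1) (.leaf 0x0))) (.node (.node (.leaf 0x1600b34419) (.leaf 0x1f02a8d97c)) (.node (.leaf 0x1a619e8bde) (.leaf 0x0))))) (.node (.node (.node (.node (.leaf 0xf702cc0f3) (.leaf 0x1c61f95001)) (.node (.leaf 0x17110d0695) (.leaf 0x0))) (.node (.node (.leaf 0x1410984362) (.leaf 0x1e42831763)) (.node (.leaf 0x1a51818ac8) (.leaf 0x0)))) (.node (.node (.node (.leaf 0x1240624215) (.leaf 0x1d62385331)) (.node (.leaf 0x190149c8ab) (.leaf 0x0))) (.node (.node (.leaf 0x1650cf04dc) (.leaf 0x2072d81cf0)) (.node (.leaf 0x1b41bbcd33) (.leaf 0x0))))))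
def Lv0T_4 : BT ℕ := .node (.node (.node (.node (.node (.node (.leaf 0x560014009) (.leaf 0x1b71c38d87)) (.node (.leaf 0x1630d4c501) (.leaf 0x2012e51e5f))) (.node (.node (.leaf 0x1300674233) (.leaf 0x1d72409385)) (.node (.leaf 0x19614d88cd) (.leaf 0x0)))) (.node (.node (.node (.leaf 0x107032410c) (.leaf 0x1c1201d05d)) (.node (.leaf 0x17611306c5) (.leaf 0x0))) (.node (.node (.leaf 0x15709d4386) (.leaf 0x1e328857a1)) (.node (.leaf 0x1a11878b03) (.leaf 0x0))))) (.node (.node (.node (.node (.leaf 0x107017c089) (.leaf 0x1c51e10ebe)) (.node (.leaf 0x1750f1c5d6) (.leaf 0x0))) (.node (.node (.leaf 0x14208282d6) (.leaf 0x1e625fd522)) (.node (.leaf 0x19616b09cf) (.leaf 0x0)))) (.node (.node (.node (.leaf 0x14204bc198) (.leaf 0x1c321d91a2)) (.node (.leaf 0x186131c7c7) (.leaf 0x0))) (.node (.node (.leaf 0x1530b8443d) (.leaf 0x1f32b09a6c)) (.node (.leaf 0x1a61a40c1e) (.leaf 0x0)))))) (.node (.node (.node (.node (.node (.leaf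 0xb100c4049) (.leaf 0x1b51d24e17)) (.node (.leaf 0x1610e4456c) (.leaf 0x210303a205))) (.node (.node (.leaf 0x140073c27f) (.leaf 0x1d6251d460)) (.node (.leaf 0x19515c8958) (.leaf 0x0)))) (.node (.node (.node (.leaf 0x11403f4151) (.leaf 0x1c620fd0fa)) (.node (.leaf 0x185121c741) (.leaf 0x0))) (.node (.node (.leaf 0x1540aa03dd) (.leaf 0x1e129ad893)) (.node (.leaf 0x1a01958b8d) (.leaf 0x0))))) (.node (.node (.node (.node (.leaf 0xf102580ca) (.leaf 0x1c61f08fa8)) (.node (.leaf 0x1721040650) (.leaf 0x0))) (.node (.node (.leaf 0x15208f032a) (.leaf 0x1e3274169a)) (.node (.leaf 0x1a5179ca81) (.leaf 0x0)))) (.node (.node (.node (.leaf 0x137058c1e3) (.leaf 0x1d223092dc)) (.node (.leaf 0x1851408848) (.leaf 0x0))) (.node (.node (.leaf 0x1650c6049e) (.leaf 0x1f02c9dbcf)) (.node (.leaf 0x1b31b30ce4) (.leaf 0x0))))))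
def Lv0T_5 : BT ℕ := .node (.node (.node (.node (.node (.node (.leaf 0xa70068029) (.leaf 0x1b51cacdd3)) (.node (.leaf 0x1650db8535) (.leaf 0x2052f05f50))) (.node (.node (.leaf 0x13406cc258) (.leaf 0x1d42499404)) (.node (.leaf 0x195156891f) (.leaf 0x0)))) (.node (.node (.node (.leaf 0x104037c12e) (.leaf 0x1c620850af)) (.node (.leaf 0x18011bc711) (.leaf 0x0))) (.node (.node (.leaf 0x1570a383b0) (.leaf 0x1e72909802)) (.node (.leaf 0x1a118ecb52) (.leaf 0x0))))) (.node (.node (.node (.node (.leaf 0xe701e80a9) (.leaf 0x1b61e8cf2b)) (.node (.leaf 0x1720fd461f) (.leaf 0x0))) (.node (.node (.leaf 0x14708842fe) (.leaf 0x1d626ad5ec)) (.node (.leaf 0x1921730a28) (.leaf 0x0)))) (.node (.node (.node (.leaf 0x12205301bf) (.leaf 0x1c1226922d)) (.node (.leaf 0x19513907fd) (.leaf 0x0))) (.node (.node (.leaf 0x1500c0046f) (.leaf 0x1f32bedb41)) (.node (.leaf 0x1a31ab4c7a) (.leaf 0x0)))))) (.node (.node (.node (.node (.node (.leaf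 0xc70120069) (.leaf 0x1c01d94e6b)) (.node (.leaf 0x1760eb85a5) (.leaf 0x0))) (.node (.node (.leaf 0x16207b42ad) (.leaf 0x1d325814ba)) (.node (.leaf 0x193163c991) (.leaf 0x0)))) (.node (.node (.node (.leaf 0x1240450173) (.leaf 0x1c6216914d)) (.node (.leaf 0x18012b8797) (.leaf 0x0))) (.node (.node (.leaf 0x1500b1c40f) (.leaf 0x1f32a5d942)) (.node (.leaf 0x1b519dcbd5) (.leaf 0x0))))) (.node (.node (.node (.node (.leaf 0xf502b40ea) (.leaf 0x1c51f78fef)) (.node (.leaf 0x17610a0684) (.leaf 0x0))) (.node (.node (.leaf 0x1400960356) (.leaf 0x1e327e16fd)) (.node (.leaf 0x1a21800abb) (.leaf 0x0)))) (.node (.node (.node (.leaf 0x13405fc20b) (.leaf 0x1d02365324)) (.node (.leaf 0x1931480898) (.leaf 0x0))) (.node (.node (.leaf 0x1650ccc4d1) (.leaf 0x2032d69ce4)) (.node (.leaf 0x1b61b98d20) (.leaf 0x0))))))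
def Lv0T_6 : BT ℕ := .node (.node (.node (.node (.node (.node (.leaf 0x83003c019) (.leaf 0x1b51c74db0)) (.node (.leaf 0x1720d8c51f) (.leaf 0x2012ebdefb))) (.node (.node (.leaf 0x13106a0247) (.leaf 0x1d3245d3e1)) (.node (.leaf 0x195151c8eb) (.leaf 0x0)))) (.node (.node (.node (.leaf 0x101035811c) (.leaf 0x1c32055091)) (.node (.leaf 0x17611786e9) (.leaf 0x0))) (.node (.node (.leaf 0x1500a0c39c) (.leaf 0x1e728bd7cc)) (.node (.leaf 0x1a518b8b37) (.leaf 0x0))))) (.node (.node (.node (.node (.leaf 0xe701bc099) (.leaf 0x1b71e4cef2)) (.node (.leaf 0x1710f7c5fb) (.leaf 0x0))) (.node (.node (.leaf 0x14208542eb) (.leaf 0x1e7263955f)) (.node (.leaf 0x19616ec9fb) (.leaf 0x0)))) (.node (.node (.node (.leaf 0x12705001ac) (.leaf 0x1d322191e9)) (.node (.leaf 0x19513447e2) (.leaf 0x0))) (.node (.node (.leaf 0x1530bc0454) (.leaf 0x1f32b71ab6)) (.node (.leaf 0x1a31a7cc4e) (.leaf 0x0)))))) (.node (.node (.node (.node (.node (.leaf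 0xc400e8059) (.leaf 0x1b61d5ce3e)) (.node (.leaf 0x1960e7c587) (.leaf 0x0))) (.node (.node (.leaf 0x1310770295) (.leaf 0x1d62551493)) (.node (.leaf 0x190160c977) (.leaf 0x0)))) (.node (.node (.node (.leaf 0x1140420162) (.leaf 0x1c6212d126)) (.node (.leaf 0x1811278772) (.leaf 0x0))) (.node (.node (.leaf 0x1550ad83f2) (.leaf 0x1f62a018f6)) (.node (.leaf 0x1a61994baf) (.leaf 0x0))))) (.node (.node (.node (.node (.leaf 0xf702840da) (.leaf 0x1c21f48fd2)) (.node (.leaf 0x173106c66a) (.leaf 0x0))) (.node (.node (.leaf 0x147092c33e) (.leaf 0x1e3278d6d0)) (.node (.leaf 0x1a517c8a9e) (.leaf 0x0)))) (.node (.node (.node (.leaf 0x12405c01f5) (.leaf 0x1d52339300)) (.node (.leaf 0x1b2144886e) (.leaf 0x0))) (.node (.node (.leaf 0x1620c944b6) (.leaf 0x1f32d05c53)) (.node (.leaf 0x1b61b60d00) (.leaf 0x0))))))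
def Lv0T_7 : BT ℕ := .node (.node (.node (.node (.node (.node (.leaf 0xb70094039) (.leaf 0x1b61cd8dec)) (.node (.leaf 0x1600e00551) (.leaf 0x2102fa6089))) (.node (.node (.leaf 0x13706fc26a) (.leaf 0x1d324cd42c)) (.node (.leaf 0x1961598940) (.leaf 0x0)))) (.node (.node (.node (.leaf 0x10303bc140) (.leaf 0x1c020b90d2)) (.node (.leaf 0x18611e4728) (.leaf 0x0))) (.node (.node (.leaf 0x1550a6c3c9) (.leaf 0x1e32961856)) (.node (.leaf 0x1a6191cb6c) (.leaf 0x0))))) (.node (.node (.node (.node (.leaf 0xf7021c0b9) (.leaf 0x1b71ec8f61)) (.node (.leaf 0x1761004638) (.leaf 0x0))) (.node (.node (.leaf 0x14008bc312) (.leaf 0x20526f5650)) (.node (.leaf 0x1961764a4f) (.leaf 0x0)))) (.node (.node (.node (.leaf 0x12105641d0) (.leaf 0x1c722ad26e)) (.node (.leaf 0x18313cc821) (.leaf 0x0))) (.node (.node (.leaf 0x1640c34488) (.leaf 0x1f12c45b7c)) (.node (.leaf 0x1a11af4caf) (.leaf 0x0)))))) (.node (.node (.node (.node (.node (.leaf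 0xd4014c079) (.leaf 0x1b61dc8e86)) (.node (.leaf 0x1700ef05c2) (.leaf 0x0))) (.node (.node (.leaf 0x14707f02c2) (.leaf 0x1d725b54eb)) (.node (.leaf 0x1a316709ae) (.leaf 0x0)))) (.node (.node (.node (.leaf 0x1130488185) (.leaf 0x1d621a9186)) (.node (.leaf 0x18112e47ac) (.leaf 0x0))) (.node (.node (.leaf 0x1510b54423) (.leaf 0x1e12ab19d7)) (.node (.leaf 0x1b61a10bf8) (.leaf 0x0))))) (.node (.node (.node (.node (.leaf 0x10202fc0fc) (.leaf 0x1c31fb1012)) (.node (.leaf 0x17510e86a4) (.leaf 0x0))) (.node (.node (.leaf 0x17109a036e) (.leaf 0x1e32841774)) (.node (.leaf 0x1a61830ad6) (.leaf 0x0)))) (.node (.node (.node (.leaf 0x1200648220) (.leaf 0x1d623a9347)) (.node (.leaf 0x19314b08b6) (.leaf 0x0))) (.node (.node (.leaf 0x1640d1c4ea) (.leaf 0x1f12dd1d99)) (.node (.leaf 0x1b01bdcd44) (.leaf 0x0))))))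
def Lv0T_8 : BT ℕ := .node (.node (.node (.node (.node (.node (.leaf 0x42000c005) (.leaf 0x1b31c14d65)) (.node (.leaf 0x1630d444fd) (.leaf 0x2012e41e4f))) (.node (.node (.leaf 0x132066422f) (.leaf 0x1d723f1371)) (.node (.leaf 0x19514d08c7) (.leaf 0x0)))) (.node (.node (.node (.leaf 0x101031c108) (.leaf 0x1c61ff9037)) (.node (.leaf 0x17311246c0) (.leaf 0x0))) (.node (.node (.leaf 0x15709cc381) (.leaf 0x1e72875798)) (.node (.leaf 0x1a01860aee) (.leaf 0x0))))) (.node (.node (.node (.node (.leaf 0xd00174085) (.leaf 0x1b31df4ea6)) (.node (.leaf 0x1760f085d1) (.leaf 0x0))) (.node (.node (.leaf 0x140081c2d2) (.leaf 0x1e525f951d)) (.node (.leaf 0x1a116a89ca) (.leaf 0x0)))) (.node (.node (.node (.leaf 0x14704a8194) (.leaf 0x1c621c5194)) (.node (.leaf 0x18013147c2) (.leaf 0x0))) (.node (.node (.leaf 0x1500b7c438) (.leaf 0x1f32af5a5c)) (.node (.leaf 0x1b41a34c15) (.leaf 0x0)))))) (.node (.node (.node (.node (.node (.leaf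 0xb700b0045) (.leaf 0x1b31d00e04)) (.node (.leaf 0x1610e2c562) (.leaf 0x21230121a6))) (.node (.node (.leaf 0x142072c27b) (.leaf 0x1d6250544c)) (.node (.leaf 0x19115bc953) (.leaf 0x0)))) (.node (.node (.node (.leaf 0x11403e414d) (.leaf 0x1c620e50eb)) (.node (.leaf 0x186120c73b) (.leaf 0x0))) (.node (.node (.leaf 0x1570a943d7) (.leaf 0x1e62999882)) (.node (.leaf 0x1a61948b86) (.leaf 0x0))))) (.node (.node (.node (.node (.leaf 0xf2024c0c6) (.leaf 0x1c61ef8fa0)) (.node (.leaf 0x1721034649) (.leaf 0x0))) (.node (.node (.leaf 0x14408e0323) (.leaf 0x1e62731694)) (.node (.leaf 0x1a11794a7a) (.leaf 0x0)))) (.node (.node (.node (.leaf 0x135057c1dd) (.leaf 0x1d622f92cf)) (.node (.leaf 0x18613f883d) (.leaf 0x0))) (.node (.node (.leaf 0x1660c5849a) (.leaf 0x1f12c7dbb6)) (.node (.leaf 0x1b11b28cda) (.leaf 0x0))))))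
def Lv0T_9 : BT ℕ := .node (.node (.node (.node (.node (.node (.leaf 0x970058025) (.leaf 0x1b21ca0dca)) (.node (.leaf 0x1710dac52e) (.leaf 0x2072eedf39))) (.node (.node (.leaf 0x13506c0253) (.leaf 0x1d624853fd)) (.node (.leaf 0x1961554911) (.leaf 0x0)))) (.node (.node (.node (.leaf 0x1050374129) (.leaf 0x1c620790a9)) (.node (.leaf 0x18211ac709) (.leaf 0x0))) (.node (.node (.leaf 0x1570a2c3aa) (.leaf 0x1e628fd7fa)) (.node (.leaf 0x1a618d8b4a) (.leaf 0x0))))) (.node (.node (.node (.node (.leaf 0xe401dc0a5) (.leaf 0x1b31e78f1c)) (.node (.leaf 0x1760fb4613) (.leaf 0x0))) (.node (.node (.leaf 0x142087c2fa) (.leaf 0x1e72671594)) (.node (.leaf 0x191171ca1f) (.leaf 0x0)))) (.node (.node (.node (.leaf 0x12705201b9) (.leaf 0x1c7224d211)) (.node (.leaf 0x186136c7f1) (.leaf 0x0))) (.node (.node (.leaf 0x1530bec466) (.leaf 0x1f62bd9b30)) (.node (.leaf 0x1a61aa8c71) (.leaf 0x0)))))) (.node (.node (.node (.node (.node (.leaf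 0xc20114065) (.leaf 0x1b61d84e64)) (.node (.leaf 0x1710eac59f) (.leaf 0x0))) (.node (.node (.leaf 0x14407a42a7) (.leaf 0x1d625794b4)) (.node (.leaf 0x196162c98b) (.leaf 0x0)))) (.node (.node (.node (.leaf 0x117044016f) (.leaf 0x1c6215d147)) (.node (.leaf 0x18112ac790) (.leaf 0x0))) (.node (.node (.leaf 0x1670b0c408) (.leaf 0x1e72a35907)) (.node (.leaf 0x1b619c0bce) (.leaf 0x0))))) (.node (.node (.node (.node (.leaf 0xf402a00e6) (.leaf 0x1c51f6cfe6)) (.node (.leaf 0x180109067a) (.leaf 0x0))) (.node (.node (.leaf 0x1430954351) (.leaf 0x1e327c96f2)) (.node (.leaf 0x1a617f0ab1) (.leaf 0x0)))) (.node (.node (.node (.leaf 0x12705ec204) (.leaf 0x1d3235931b)) (.node (.leaf 0x194147488f) (.leaf 0x0))) (.node (.node (.leaf 0x1630cbc4cb) (.leaf 0x1f22d55cb8)) (.node (.leaf 0x1b61b88d15) (.leaf 0x0))))))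
def Lv0T_10 : BT ℕ := .node (.node (.node (.node (.node (.node (.leaf 0x860034015) (.leaf 0x1b51c68dab)) (.node (.leaf 0x1610d80518) (.leaf 0x2032ea9ee2))) (.node (.node (.leaf 0x1340690241) (.leaf 0x1d024513db)) (.node (.leaf 0x19015088e4) (.leaf 0x0)))) (.node (.node (.node (.leaf 0x1170340118) (.leaf 0x1c5204d08c)) (.node (.leaf 0x17611686df) (.leaf 0x0))) (.node (.node (.leaf 0x1510a00397) (.leaf 0x1e028b97c7)) (.node (.leaf 0x1a118b0b2e) (.leaf 0x0))))) (.node (.node (.node (.node (.leaf 0xe701b0095) (.leaf 0x1b71e38ee3)) (.node (.leaf 0x1770f685f1) (.leaf 0x0))) (.node (.node (.leaf 0x14408442e5) (.leaf 0x1d7262153e)) (.node (.leaf 0x19516e09f1) (.leaf 0x0)))) (.node (.node (.node (.leaf 0x12104fc1a8) (.leaf 0x1c122091c8)) (.node (.leaf 0x181133c7dd) (.leaf 0x0))) (.node (.node (.leaf 0x1530bb444f) (.leaf 0x1f32b5daaa)) (.node (.leaf 0x1a71a68c41) (.leaf 0x0)))))) (.node (.node (.node (.node (.node (.leaf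 0xc400e0055) (.leaf 0x1b51d50e35)) (.node (.leaf 0x1730e6c57e) (.leaf 0x22230da3c9))) (.node (.node (.leaf 0x1310764290) (.leaf 0x1d02545485)) (.node (.leaf 0x19215f8970) (.leaf 0x0)))) (.node (.node (.node (.leaf 0x115041815e) (.leaf 0x1c42129121)) (.node (.leaf 0x1801264768) (.leaf 0x0))) (.node (.node (.leaf 0x1500acc3ee) (.leaf 0x1e029ed8cd)) (.node (.leaf 0x1a11988ba7) (.leaf 0x0))))) (.node (.node (.node (.node (.leaf 0x10402780d6) (.leaf 0x1c21f3cfc9)) (.node (.leaf 0x1811060665) (.leaf 0x0))) (.node (.node (.leaf 0x1550920339) (.leaf 0x1e7277d6c7)) (.node (.leaf 0x1a317c0a9a) (.leaf 0x0)))) (.node (.node (.node (.leaf 0x12705b01ef) (.leaf 0x1d623292f2)) (.node (.leaf 0x184143c863) (.leaf 0x0))) (.node (.node (.leaf 0x1620c884af) (.leaf 0x1f12cedc34)) (.node (.leaf 0x1b61b50cfb) (.leaf 0x0))))))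
def Lv0T_11 : BT ℕ := .node (.node (.node (.node (.node (.node (.leaf 0xa7008c035) (.leaf 0x1b01cccde6)) (.node (.leaf 0x1620df0548) (.leaf 0x2122f9a082))) (.node (.node (.leaf 0x13706f0265) (.leaf 0x1d624b541f)) (.node (.leaf 0x190159093b) (.leaf 0x0)))) (.node (.node (.node (.leaf 0x10403a813b) (.leaf 0x1c320ad0cc)) (.node (.leaf 0x18011dc723) (.leaf 0x0))) (.node (.node (.leaf 0x1530a643c4) (.leaf 0x1e3294d843)) (.node (.leaf 0x1a61910b67) (.leaf 0x0))))) (.node (.node (.node (.node (.leaf 0xe702100b5) (.leaf 0x1e11ebcf5d)) (.node (.leaf 0x1700ffc633) (.leaf 0x0))) (.node (.node (.leaf 0x14008b030e) (.leaf 0x1e026e9631)) (.node (.leaf 0x1c61760a4b) (.leaf 0x0)))) (.node (.node (.node (.leaf 0x12405541cc) (.leaf 0x1c322a1262)) (.node (.leaf 0x18113bc817) (.leaf 0x0))) (.node (.node (.leaf 0x1620c24482) (.leaf 0x1f32c35b72)) (.node (.leaf 0x1a31ae0c9e) (.leaf 0x0)))))) (.node (.node (.node (.node (.node (.leaf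 0xd40140075) (.leaf 0x1b31dbce7c)) (.node (.leaf 0x1710ee45bc) (.leaf 0x0))) (.node (.node (.leaf 0x14507ec2be) (.leaf 0x1d025b14e6)) (.node (.leaf 0x1a5166c9aa) (.leaf 0x0)))) (.node (.node (.node (.leaf 0x1140478181) (.leaf 0x1c3219117b)) (.node (.leaf 0x18612d47a6) (.leaf 0x0))) (.node (.node (.leaf 0x1500b3c41d) (.leaf 0x1e32aa19cb)) (.node (.leaf 0x1a619f8be8) (.leaf 0x0))))) (.node (.node (.node (.node (.leaf 0xf402e40f7) (.leaf 0x1c01fa500c)) (.node (.leaf 0x17310dc69c) (.leaf 0x0))) (.node (.node (.leaf 0x1400994368) (.leaf 0x1e6283976e)) (.node (.leaf 0x1a51824acd) (.leaf 0x0)))) (.node (.node (.node (.leaf 0x121063421b) (.leaf 0x1d5239d342)) (.node (.leaf 0x19614a48af) (.leaf 0x0))) (.node (.node (.leaf 0x1670d0c4e3) (.leaf 0x2002dadd33)) (.node (.leaf 0x1b41bccd39) (.leaf 0x0))))))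
def Lv0T_12 : BT ℕ := .node (.node (.node (.node (.node (.node (.leaf 0x67001c00d) (.leaf 0x1b11c48d91)) (.node (.leaf 0x1650d58505) (.leaf 0x2032e7deb4))) (.node (.node (.leaf 0x137067c237) (.leaf 0x1d224393c6)) (.node (.leaf 0x19214f08d6) (.leaf 0x0)))) (.node (.node (.node (.leaf 0x1020334110) (.leaf 0x1c02031070)) (.node (.leaf 0x17611446cc) (.leaf 0x0))) (.node (.node (.leaf 0x15409e038b) (.leaf 0x1e528a17af)) (.node (.leaf 0x1a61894b18) (.leaf 0x0))))) (.node (.node (.node (.node (.leaf 0xd7019808d) (.leaf 0x1b61e14ec2)) (.node (.leaf 0x1740f3c5de) (.leaf 0x0))) (.node (.node (.leaf 0x147082c2da) (.leaf 0x1e725fd526)) (.node (.leaf 0x1a616c89df) (.leaf 0x0)))) (.node (.node (.node (.leaf 0x11204cc19e) (.leaf 0x1d621f11bd)) (.node (.leaf 0x18313287ce) (.leaf 0x0))) (.node (.node (.leaf 0x1550b8c441) (.leaf 0x1f32b35a87)) (.node (.leaf 0x1a61a4cc29) (.leaf 0x0)))))) (.node (.node (.node (.node (.node (.leaf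 0xc600d404d) (.leaf 0x1b61d30e21)) (.node (.leaf 0x1630e4c571) (.leaf 0x2113052223))) (.node (.node (.leaf 0x1370744283) (.leaf 0x1d12529468)) (.node (.leaf 0x19615d4960) (.leaf 0x0)))) (.node (.node (.node (.leaf 0x11403fc156) (.leaf 0x1c62109102)) (.node (.leaf 0x182123874d) (.leaf 0x0))) (.node (.node (.leaf 0x1540ab03e3) (.leaf 0x1e629bd89d)) (.node (.leaf 0x1a11968b97) (.leaf 0x0))))) (.node (.node (.node (.node (.leaf 0xf202640ce) (.leaf 0x1c31f1cfb4)) (.node (.leaf 0x171104c657) (.leaf 0x0))) (.node (.node (.leaf 0x14308fc330) (.leaf 0x1e6275d6ad)) (.node (.leaf 0x1a117aca8b) (.leaf 0x0)))) (.node (.node (.node (.leaf 0x121059c1e7) (.leaf 0x1d423152e5)) (.node (.leaf 0x181141c84f) (.leaf 0x0))) (.node (.node (.leaf 0x1650c744a4) (.leaf 0x1f32cc9c0d)) (.node (.leaf 0x1b31b3cced) (.leaf 0x0))))))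
def Lv0T_13 : BT ℕ := .node (.node (.node (.node (.node (.node (.leaf 0xa3007002d) (.leaf 0x1b31cb4dd8)) (.node (.leaf 0x1760dc853a) (.leaf 0x2012f35fa1))) (.node (.node (.leaf 0x13106dc25d) (.leaf 0x1d6249d409)) (.node (.leaf 0x192157892b) (.leaf 0x0)))) (.node (.node (.node (.leaf 0x1040388132) (.leaf 0x1c620910bb)) (.node (.leaf 0x18011c8718) (.leaf 0x0))) (.node (.node (.leaf 0x1520a483b7) (.leaf 0x1e3292181a)) (.node (.leaf 0x1a518f8b5a) (.leaf 0x0))))) (.node (.node (.node (.node (.leaf 0x11401f80ad) (.leaf 0x1b71e98f35)) (.node (.leaf 0x1710fe4627) (.leaf 0x0))) (.node (.node (.leaf 0x1470890303) (.leaf 0x1d326b95f4)) (.node (.leaf 0x1941740a32) (.leaf 0x0)))) (.node (.node (.node (.leaf 0x12005401c3) (.leaf 0x1c62281248)) (.node (.leaf 0x1851394801) (.leaf 0x0))) (.node (.node (.leaf 0x1670c0c476) (.leaf 0x1f32c05b4d)) (.node (.leaf 0x1a31ac4c87) (.leaf 0x0)))))) (.node (.node (.node (.node (.node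 (.leaf 0xd3013006d) (.leaf 0x1c61da8e72)) (.node (.leaf 0x1740ec45ad) (.leaf 0x0))) (.node (.node (.leaf 0x13307cc2b3) (.leaf 0x1d525994ca)) (.node (.leaf 0x1951644999) (.leaf 0x0)))) (.node (.node (.node (.leaf 0x1150460177) (.leaf 0x1c5217915f)) (.node (.leaf 0x18612c079c) (.leaf 0x0))) (.node (.node (.leaf 0x1500b28413) (.leaf 0x1f72a69946)) (.node (.leaf 0x1b619e0bd9) (.leaf 0x0))))) (.node (.node (.node (.node (.leaf 0xf702c00ef) (.leaf 0x1c31f80ff4)) (.node (.leaf 0x18610b468a) (.leaf 0x0))) (.node (.node (.leaf 0x142097435c) (.leaf 0x1e327f9713)) (.node (.leaf 0x1a1180cac0) (.leaf 0x0)))) (.node (.node (.node (.leaf 0x152060c211) (.leaf 0x1d6237132a)) (.node (.leaf 0x19114908a3) (.leaf 0x0))) (.node (.node (.leaf 0x1660cd84d6) (.leaf 0x2002d7dcec)) (.node (.leaf 0x1b61ba4d28) (.leaf 0x0))))))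
def Lv0T_14 : BT ℕ := .node (.node (.node (.node (.node (.node (.leaf 0x96004801d) (.leaf 0x1b61c7cdb7)) (.node (.leaf 0x1630d98524) (.leaf 0x2012ed1f10))) (.node (.node (.leaf 0x13306ac24b) (.leaf 0x1d624693e7)) (.node (.leaf 0x19115388fb) (.leaf 0x0)))) (.node (.node (.node (.leaf 0x107035c120) (.leaf 0x1c2206909c)) (.node (.leaf 0x17311886f3) (.leaf 0x0))) (.node (.node (.leaf 0x1550a183a0) (.leaf 0x1e328d17d9)) (.node (.leaf 0x1a618c0b3d) (.leaf 0x0))))) (.node (.node (.node (.node (.leaf 0xf301cc09d) (.leaf 0x1b11e60f03)) (.node (.leaf 0x1750f8c603) (.leaf 0x0))) (.node (.node (.leaf 0x14308602f1) (.leaf 0x1d12649563)) (.node (.leaf 0x19616fca07) (.leaf 0x0)))) (.node (.node (.node (.leaf 0x12205101b1) (.leaf 0x1d322291ed)) (.node (.leaf 0x19113547e6) (.leaf 0x0))) (.node (.node (.leaf 0x1530bd045a) (.leaf 0x1f02badae2)) (.node (.leaf 0x1a21a90c5f) (.leaf 0x0)))))) (.node (.node (.node (.node (.node (.leaf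 0xc400f405d) (.leaf 0x1b61d68e44)) (.node (.leaf 0x1610e9058d) (.leaf 0x0))) (.node (.node (.leaf 0x134078429b) (.leaf 0x1d32559499)) (.node (.leaf 0x196161497e) (.leaf 0x0)))) (.node (.node (.node (.leaf 0x1140430166) (.leaf 0x1c22145132)) (.node (.leaf 0x186128477a) (.leaf 0x0))) (.node (.node (.leaf 0x1570aec3f9) (.leaf 0x1f62a158ff)) (.node (.leaf 0x1a619a0bb4) (.leaf 0x0))))) (.node (.node (.node (.node (.leaf 0xf202900de) (.leaf 0x1c51f54fd7)) (.node (.leaf 0x175107466e) (.leaf 0x0))) (.node (.node (.leaf 0x142093c346) (.leaf 0x1e627a16db)) (.node (.leaf 0x1a317d8aa5) (.leaf 0x0)))) (.node (.node (.node (.leaf 0x12205d01fb) (.leaf 0x1d5234530c)) (.node (.leaf 0x1861454875) (.leaf 0x0))) (.node (.node (.leaf 0x1640ca04bc) (.leaf 0x1f02d19c63)) (.node (.leaf 0x1b51b70d08) (.leaf 0x0))))))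
def Lv0T_15 : BT ℕ := .node (.node (.node (.node (.node (.node (.leaf 0xb3009c03d) (.leaf 0x1b01ce8df7)) (.node (.leaf 0x1660e08556) (.leaf 0x2152fb208d))) (.node (.node (.leaf 0x144070c271) (.leaf 0x1d324dd435)) (.node (.leaf 0x19515a0946) (.leaf 0x0)))) (.node (.node (.node (.leaf 0x11403cc144) (.leaf 0x1c620c90dc)) (.node (.leaf 0x18111f072e) (.leaf 0x0))) (.node (.node (.leaf 0x1530a783cd) (.leaf 0x1e12971860)) (.node (.leaf 0x1a0192cb75) (.leaf 0x0))))) (.node (.node (.node (.node (.leaf 0xe702340bd) (.leaf 0x1b01edcf72)) (.node (.leaf 0x171101063e) (.leaf 0x0))) (.node (.node (.leaf 0x14708c4317) (.leaf 0x1e5271567d)) (.node (.leaf 0x1931770a58) (.leaf 0x0)))) (.node (.node (.node (.leaf 0x125056c1d4) (.leaf 0x1d722bd284)) (.node (.leaf 0x18513d4828) (.leaf 0x0))) (.node (.node (.leaf 0x1610c44490) (.leaf 0x1f72c55b93)) (.node (.leaf 0x1b01b10ccd) (.leaf 0x0)))))) (.node (.node (.node (.node (.node (.leaf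 0x103015c07d) (.leaf 0x1c51de4e9a)) (.node (.leaf 0x1730ef85c7) (.leaf 0x0))) (.node (.node (.leaf 0x14707fc2c7) (.leaf 0x1d325c94f8)) (.node (.leaf 0x19616809b6) (.leaf 0x0)))) (.node (.node (.node (.leaf 0x117048c189) (.leaf 0x1d621b518b)) (.node (.leaf 0x18612f07b4) (.leaf 0x0))) (.node (.node (.leaf 0x1540b60429) (.leaf 0x1f72cb1a1a)) (.node (.leaf 0x1a71a14bfc) (.leaf 0x0))))) (.node (.node (.node (.node (.leaf 0x1010308100) (.leaf 0x1c61fd101e)) (.node (.leaf 0x17511006ac) (.leaf 0x0))) (.node (.node (.leaf 0x14309ac373) (.leaf 0x1e32855782)) (.node (.leaf 0x1a51840adc) (.leaf 0x0)))) (.node (.node (.node (.leaf 0x1340650225) (.leaf 0x1d723bd356)) (.node (.leaf 0x19314b88ba) (.leaf 0x0))) (.node (.node (.leaf 0x1610d2c4f2) (.leaf 0x2032e0de11)) (.node (.leaf 0x1b61becd4b) (.leaf 0x0))))))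
def Lv0T_16 : BT ℕ := .node (.node (.node (.node (.node (.node (.leaf 0x200004003) (.leaf 0x1b31bfcd56)) (.node (.leaf 0x1600d404fa) (.leaf 0x2012e35e43))) (.node (.node (.leaf 0x134065c22c) (.leaf 0x1d323dd368)) (.node (.leaf 0x19614c48c4) (.leaf 0x0)))) (.node (.node (.node (.leaf 0x1040314106) (.leaf 0x1c31ff1032)) (.node (.leaf 0x17011206bd) (.leaf 0x0))) (.node (.node (.leaf 0x14609c437c) (.leaf 0x1e3286d78e)) (.node (.leaf 0x1a41858aeb) (.leaf 0x0))))) (.node (.node (.node (.node (.leaf 0xd70168083) (.leaf 0x1b31decea1)) (.node (.leaf 0x1710f085cf) (.leaf 0x0))) (.node (.node (.leaf 0x14208142d0) (.leaf 0x1e625e551b)) (.node (.leaf 0x1a516a89c7) (.leaf 0x0)))) (.node (.node (.node (.leaf 0x11204a0192) (.leaf 0x1c621c1191)) (.node (.leaf 0x180130c7bd) (.leaf 0x0))) (.node (.node (.leaf 0x1530b74435) (.leaf 0x1f12cb1a39)) (.node (.leaf 0x1b61a34c13) (.leaf 0x0)))))) (.node (.node (.node (.node (.node (.leaf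 0x10700ac043) (.leaf 0x1b01cfce01)) (.node (.leaf 0x1660e1c55e) (.leaf 0x210300a19a))) (.node (.node (.leaf 0x1320724279) (.leaf 0x1d324fd447)) (.node (.leaf 0x19515b494f) (.leaf 0x0)))) (.node (.node (.node (.leaf 0x11403e014b) (.leaf 0x1c620dd0e6)) (.node (.leaf 0x1851208739) (.leaf 0x0))) (.node (.node (.leaf 0x1540a903d5) (.leaf 0x1e3299187d)) (.node (.leaf 0x1a6193cb7e) (.leaf 0x0))))) (.node (.node (.node (.node (.leaf 0xf202480c4) (.leaf 0x1c11ef8f9e)) (.node (.leaf 0x1751024645) (.leaf 0x0))) (.node (.node (.leaf 0x15708dc321) (.leaf 0x1e6272568c)) (.node (.leaf 0x190178ca70) (.leaf 0x0)))) (.node (.node (.node (.leaf 0x12405781db) (.leaf 0x1c022e52a6)) (.node (.leaf 0x18413f883b) (.leaf 0x0))) (.node (.node (.leaf 0x1630c54498) (.leaf 0x1f12c71baa)) (.node (.leaf 0x1b51b1ccd7) (.leaf 0x0))))))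
def Lv0T_17 : BT ℕ := .node (.node (.node (.node (.node (.node (.leaf 0x970054023) (.leaf 0x1b51c94dc2)) (.node (.leaf 0x1660da452c) (.leaf 0x2032ee9f35))) (.node (.node (.leaf 0x13506bc251) (.leaf 0x1d324793f6)) (.node (.leaf 0x193155090e) (.leaf 0x0)))) (.node (.node (.node (.leaf 0x1010374127) (.leaf 0x1c620750a7)) (.node (.leaf 0x18411a4703) (.leaf 0x0))) (.node (.node (.leaf 0x1540a283a8) (.leaf 0x1e128f17f0)) (.node (.leaf 0x1a118d8b48) (.leaf 0x0))))) (.node (.node (.node (.node (.leaf 0xe201d80a3) (.leaf 0x1b61e70f18)) (.node (.leaf 0x1750fa860d) (.leaf 0x0))) (.node (.node (.leaf 0x14108742f7) (.leaf 0x1e0266d592)) (.node (.leaf 0x1931710a15) (.leaf 0x0)))) (.node (.node (.node (.leaf 0x127051c1b7) (.leaf 0x1c7223d201)) (.node (.leaf 0x181136c7ef) (.leaf 0x0))) (.node (.node (.leaf 0x1530be4463) (.leaf 0x1f32bd1b2b)) (.node (.leaf 0x1a31aa4c6c) (.leaf 0x0)))))) (.node (.node (.node (.node (.node (.leaf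 0xc7010c063) (.leaf 0x1b61d78e55)) (.node (.leaf 0x1660ea4599) (.leaf 0x0))) (.node (.node (.leaf 0x131079c2a5) (.leaf 0x1d325754ac)) (.node (.leaf 0x1931628988) (.leaf 0x0)))) (.node (.node (.node (.leaf 0x127043c16d) (.leaf 0x1c6215113f)) (.node (.leaf 0x18312a478c) (.leaf 0x0))) (.node (.node (.leaf 0x1620b04406) (.leaf 0x1f72a21905)) (.node (.leaf 0x1a619b8bcb) (.leaf 0x0))))) (.node (.node (.node (.node (.leaf 0xf7029c0e4) (.leaf 0x1c61f64fdf)) (.node (.leaf 0x186108c678) (.leaf 0x0))) (.node (.node (.leaf 0x143095034f) (.leaf 0x1e327c16e8)) (.node (.leaf 0x1a317ecaae) (.leaf 0x0)))) (.node (.node (.node (.leaf 0x12705e4201) (.leaf 0x1d02355318)) (.node (.leaf 0x1871468885) (.leaf 0x0))) (.node (.node (.leaf 0x1610cb84c8) (.leaf 0x1f72d3dc9e)) (.node (.leaf 0x1b11b88d13) (.leaf 0x0))))))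
def Lv0T_18 : BT ℕ := .node (.node (.node (.node (.node (.node (.leaf 0x840034013) (.leaf 0x1b61c5cda5)) (.node (.leaf 0x1610d78513) (.leaf 0x2002e99ed2))) (.node (.node (.leaf 0x134068823e) (.leaf 0x1d624453d3)) (.node (.leaf 0x19614fc8dd) (.leaf 0x0)))) (.node (.node (.node (.leaf 0x1120340116) (.leaf 0x1c62041085)) (.node (.leaf 0x1a111646dd) (.leaf 0x0))) (.node (.node (.leaf 0x15209f8394) (.leaf 0x1e628ad7b9)) (.node (.leaf 0x1a318a4b24) (.leaf 0x0))))) (.node (.node (.node (.node (.leaf 0xe401ac093) (.leaf 0x1b51e38ee1)) (.node (.leaf 0x1720f5c5ec) (.leaf 0x0))) (.node (.node (.leaf 0x144083c2e2) (.leaf 0x1d72619539)) (.node (.leaf 0x19116dc9ed) (.leaf 0x0)))) (.node (.node (.node (.leaf 0x11104f41a5) (.leaf 0x1c322011c3)) (.node (.leaf 0x18513347d7) (.leaf 0x0))) (.node (.node (.leaf 0x1510bac44c) (.leaf 0x1f32b55aa3)) (.node (.leaf 0x1a51a68c3f) (.leaf 0x0)))))) (.node (.node (.node (.node (.node (.leaf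 0xc300dc053) (.leaf 0x1b61d48e2e)) (.node (.leaf 0x1660e6057a) (.leaf 0x22230de3c7))) (.node (.node (.leaf 0x132075c28d) (.leaf 0x1d52541482)) (.node (.leaf 0x19015ec96c) (.leaf 0x0)))) (.node (.node (.node (.leaf 0x113041015c) (.leaf 0x1c6211d117)) (.node (.leaf 0x181125c763) (.leaf 0x0))) (.node (.node (.leaf 0x1530ac43ec) (.leaf 0x1e729dd8c1)) (.node (.leaf 0x1a31980ba2) (.leaf 0x0))))) (.node (.node (.node (.node (.leaf 0x10702700d4) (.leaf 0x1c51f30fc3)) (.node (.leaf 0x1761058663) (.leaf 0x0))) (.node (.node (.leaf 0x1450914336) (.leaf 0x1e5277d6c5)) (.node (.leaf 0x1a517b8a96) (.leaf 0x0)))) (.node (.node (.node (.leaf 0x12705ac1ed) (.leaf 0x1d623252ed)) (.node (.leaf 0x1961438861) (.leaf 0x0))) (.node (.node (.leaf 0x1670c804ab) (.leaf 0x1f72ce1c2b)) (.node (.leaf 0x1b11b50cf9) (.leaf 0x0))))))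
def Lv0T_19 : BT ℕ := .node (.node (.node (.node (.node (.node (.leaf 0xa70084033) (.leaf 0x1b51cc8de4)) (.node (.leaf 0x1640de4543) (.leaf 0x2022f75ffc))) (.node (.node (.leaf 0x13706ec263) (.leaf 0x1d624ad41a)) (.node (.leaf 0x1961588937) (.leaf 0x0)))) (.node (.node (.node (.leaf 0x10703a0138) (.leaf 0x1c320a50c9)) (.node (.leaf 0x18511d4721) (.leaf 0x0))) (.node (.node (.leaf 0x1510a603c1) (.leaf 0x1e6294583f)) (.node (.leaf 0x1a21910b65) (.leaf 0x0))))) (.node (.node (.node (.node (.leaf 0xe402080b3) (.leaf 0x1b71eb0f49)) (.node (.leaf 0x1700ff8631) (.leaf 0x0))) (.node (.node (.leaf 0x14208a830c) (.leaf 0x1d726d160e)) (.node (.leaf 0x1971750a3f) (.leaf 0x0)))) (.node (.node (.node (.leaf 0x127054c1c9) (.leaf 0x1c72295258)) (.node (.leaf 0x19113b4812) (.leaf 0x0))) (.node (.node (.leaf 0x1640c1c47f) (.leaf 0x1f12c2db6d)) (.node (.leaf 0x1a61adcc9b) (.leaf 0x0)))))) (.node (.node (.node (.node (.node (.leaf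 0xd7013c073) (.leaf 0x1b61db4e78)) (.node (.leaf 0x1710edc5b8) (.leaf 0x0))) (.node (.node (.leaf 0x13607e42bb) (.leaf 0x1d625a54d4)) (.node (.leaf 0x1a6165c9a7) (.leaf 0x0)))) (.node (.node (.node (.leaf 0x114047017e) (.leaf 0x1c62185169)) (.node (.leaf 0x18312d07a3) (.leaf 0x0))) (.node (.node (.leaf 0x1630b3441b) (.leaf 0x1f22a8d97e)) (.node (.leaf 0x1a519f4be5) (.leaf 0x0))))) (.node (.node (.node (.node (.leaf 0xf402d80f5) (.leaf 0x1c61f99004)) (.node (.leaf 0x17310d4699) (.leaf 0x0))) (.node (.node (.leaf 0x151098c366) (.leaf 0x1e32835766)) (.node (.leaf 0x1a6181caca) (.leaf 0x0)))) (.node (.node (.node (.leaf 0x122062c218) (.leaf 0x1d6239133a)) (.node (.leaf 0x19314a08ad) (.leaf 0x0))) (.node (.node (.leaf 0x1650d004e0) (.leaf 0x2012da1d31)) (.node (.leaf 0x1b61bbcd35) (.leaf 0x0))))))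
def Lv0T_20 : BT ℕ := .node (.node (.node (.node (.node (.node (.leaf 0x64001800b) (.leaf 0x1b71c3cd8a)) (.node (.leaf 0x1650d50503) (.leaf 0x2022e75e8e))) (.node (.node (.leaf 0x134067c235) (.leaf 0x1d02419391)) (.node (.leaf 0x19514e48d0) (.leaf 0x0)))) (.node (.node (.node (.leaf 0x102032c10e) (.leaf 0x1c72025066)) (.node (.leaf 0x176113c6c9) (.leaf 0x0))) (.node (.node (.leaf 0x15009dc388) (.leaf 0x1e328917a9)) (.node (.leaf 0x1a61888b0e) (.leaf 0x0))))) (.node (.node (.node (.node (.leaf 0xd7018408b) (.leaf 0x1c61e10ec0)) (.node (.leaf 0x1770f305da) (.leaf 0x0))) (.node (.node (.leaf 0x14708282d8) (.leaf 0x1e425f9524)) (.node (.leaf 0x1a616c09dd) (.leaf 0x0)))) (.node (.node (.node (.leaf 0x11404c419b) (.leaf 0x1c321e11a7)) (.node (.leaf 0x18013247cb) (.leaf 0x0))) (.node (.node (.leaf 0x1560b8843f) (.leaf 0x1f62b2da82)) (.node (.leaf 0x1a21a4cc27) (.leaf 0x0)))))) (.node (.node (.node (.node (.node (.leaf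 0xb400c804b) (.leaf 0x1b21d30e1f)) (.node (.leaf 0x1630e4856f) (.leaf 0x217303a207))) (.node (.node (.leaf 0x1370740281) (.leaf 0x1d32521463)) (.node (.leaf 0x19215d495e) (.leaf 0x0)))) (.node (.node (.node (.leaf 0x11703f4153) (.leaf 0x1c321010fd)) (.node (.leaf 0x184122c746) (.leaf 0x0))) (.node (.node (.leaf 0x1540aa83e0) (.leaf 0x1e329b5898)) (.node (.leaf 0x1a51960b92) (.leaf 0x0))))) (.node (.node (.node (.node (.leaf 0xf7025c0cc) (.leaf 0x1c31f14fae)) (.node (.leaf 0x1701048655) (.leaf 0x0))) (.node (.node (.leaf 0x14108f832c) (.leaf 0x1e627556a5)) (.node (.leaf 0x1a217a4a83) (.leaf 0x0)))) (.node (.node (.node (.leaf 0x12205941e5) (.leaf 0x1d623092de)) (.node (.leaf 0x185141084c) (.leaf 0x0))) (.node (.node (.leaf 0x1650c684a0) (.leaf 0x1f52cadbde)) (.node (.leaf 0x1b51b34ce8) (.leaf 0x0))))))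
def Lv0T_21 : BT ℕ := .node (.node (.node (.node (.node (.node (.leaf 0xa7006c02b) (.leaf 0x1b01cb0dd5)) (.node (.leaf 0x1730dc0537) (.leaf 0x2022f11f5f))) (.node (.node (.leaf 0x13406d425b) (.leaf 0x1d62499406)) (.node (.leaf 0x196156c922) (.leaf 0x0)))) (.node (.node (.node (.leaf 0x1350380130) (.leaf 0x1c420910b9)) (.node (.leaf 0x18211c0713) (.leaf 0x0))) (.node (.node (.leaf 0x1570a403b3) (.leaf 0x1e1291580b)) (.node (.leaf 0x1a618ecb54) (.leaf 0x0))))) (.node (.node (.node (.node (.leaf 0xe401ec0ab) (.leaf 0x1b31e90f2e)) (.node (.leaf 0x1740fdc622) (.leaf 0x0))) (.node (.node (.leaf 0x1470888300) (.leaf 0x1d326b15ef)) (.node (.leaf 0x1921738a2d) (.leaf 0x0)))) (.node (.node (.node (.leaf 0x12205381c1) (.leaf 0x1c0227923b)) (.node (.leaf 0x19313907ff) (.leaf 0x0))) (.node (.node (.leaf 0x1560c04471) (.leaf 0x1f62bfdb48)) (.node (.leaf 0x1b31abcc85) (.leaf 0x0)))))) (.node (.node (.node (.node (.node (.leaf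 0xd6012c06b) (.leaf 0x1c51da8e6f)) (.node (.leaf 0x1770ebc5a8) (.leaf 0x0))) (.node (.node (.leaf 0x13107c42b0) (.leaf 0x1d325894bf)) (.node (.leaf 0x1961640994) (.leaf 0x0)))) (.node (.node (.node (.leaf 0x1220458175) (.leaf 0x1c6216d150)) (.node (.leaf 0x18312bc79a) (.leaf 0x0))) (.node (.node (.leaf 0x1610b20411) (.leaf 0x1f02a65944)) (.node (.leaf 0x1b119d8bd7) (.leaf 0x0))))) (.node (.node (.node (.node (.leaf 0xf702b80ec) (.leaf 0x1c01f7cff1)) (.node (.leaf 0x18510a8687) (.leaf 0x0))) (.node (.node (.leaf 0x144096c359) (.leaf 0x1e727ed70b)) (.node (.leaf 0x1a61800abd) (.leaf 0x0)))) (.node (.node (.node (.leaf 0x122060420d) (.leaf 0x1d32369327)) (.node (.leaf 0x192148889c) (.leaf 0x0))) (.node (.node (.leaf 0x1630cd44d3) (.leaf 0x2032d71cea)) (.node (.leaf 0x1b61ba0d26) (.leaf 0x0))))))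
def Lv0T_22 : BT ℕ := .node (.node (.node (.node (.node (.node (.leaf 0x92004801b) (.leaf 0x1b11c7cdb5)) (.node (.leaf 0x1610d94521) (.leaf 0x2012ec5f04))) (.node (.node (.leaf 0x13106a8249) (.leaf 0x1d524653e4)) (.node (.leaf 0x192152c8f1) (.leaf 0x0)))) (.node (.node (.node (.leaf 0x105035811e) (.leaf 0x1c5205d094)) (.node (.leaf 0x17611846f0) (.leaf 0x0))) (.node (.node (.leaf 0x1530a1039e) (.leaf 0x1e328c97d2)) (.node (.leaf 0x1a118c0b3b) (.leaf 0x0))))) (.node (.node (.node (.node (.leaf 0xe101c409b) (.leaf 0x1b31e58efe)) (.node (.leaf 0x1700f88600) (.leaf 0x0))) (.node (.node (.leaf 0x141085c2ee) (.leaf 0x1e32641561)) (.node (.leaf 0x19416fca05) (.leaf 0x0)))) (.node (.node (.node (.leaf 0x12705081af) (.leaf 0x1d722211eb)) (.node (.leaf 0x19313507e4) (.leaf 0x0))) (.node (.node (.leaf 0x1630bc8458) (.leaf 0x1f12ba1ad0)) (.node (.leaf 0x1a31a84c53) (.leaf 0x0)))))) (.node (.node (.node (.node (.node (.leaf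 0xc100f005b) (.leaf 0x1b21d68e42)) (.node (.leaf 0x1630e84589) (.leaf 0x0))) (.node (.node (.leaf 0x1350778297) (.leaf 0x1d02555496)) (.node (.leaf 0x193161097b) (.leaf 0x0)))) (.node (.node (.node (.leaf 0x1110428164) (.leaf 0x1c6213912e)) (.node (.leaf 0x1821284778) (.leaf 0x0))) (.node (.node (.leaf 0x1540ae43f6) (.leaf 0x1f62a058f8)) (.node (.leaf 0x1a119a0bb2) (.leaf 0x0))))) (.node (.node (.node (.node (.leaf 0xf702880dc) (.leaf 0x1c61f48fd4)) (.node (.leaf 0x176107066c) (.leaf 0x0))) (.node (.node (.leaf 0x1420934342) (.leaf 0x1e627996d8)) (.node (.leaf 0x1a017d4aa1) (.leaf 0x0)))) (.node (.node (.node (.leaf 0x12205c81f8) (.leaf 0x1d6233d303)) (.node (.leaf 0x186144c870) (.leaf 0x0))) (.node (.node (.leaf 0x1610c9c4b9) (.leaf 0x1f72d09c57)) (.node (.leaf 0x1b61b6cd04) (.leaf 0x0))))))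
def Lv0T_23 : BT ℕ := .node (.node (.node (.node (.node (.node (.leaf 0xb7009803b) (.leaf 0x1b61cdcdef)) (.node (.leaf 0x1630e04554) (.leaf 0x2112fae08b))) (.node (.node (.leaf 0x134070426d) (.leaf 0x1d724d5431)) (.node (.leaf 0x193159c942) (.leaf 0x0)))) (.node (.node (.node (.leaf 0x10403c0142) (.leaf 0x1c320bd0d5)) (.node (.leaf 0x18511e872a) (.leaf 0x0))) (.node (.node (.leaf 0x1500a743cb) (.leaf 0x1e6296985b)) (.node (.leaf 0x1a51928b73) (.leaf 0x0))))) (.node (.node (.node (.node (.leaf 0xe402280bb) (.leaf 0x1b11ed4f6b)) (.node (.leaf 0x175100863a) (.leaf 0x0))) (.node (.node (.leaf 0x14408c0315) (.leaf 0x20726f9652)) (.node (.leaf 0x196176ca55) (.leaf 0x0)))) (.node (.node (.node (.leaf 0x123056c1d2) (.leaf 0x1d122b9282)) (.node (.leaf 0x18613d0824) (.leaf 0x0))) (.node (.node (.leaf 0x1610c3c48d) (.leaf 0x1f62c51b90)) (.node (.leaf 0x1a01afccb6) (.leaf 0x0)))))) (.node (.node (.node (.node (.node (.leaf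 0xd1015407b) (.leaf 0x1b31dd0e8b)) (.node (.leaf 0x1700ef45c4) (.leaf 0x0))) (.node (.node (.leaf 0x14707f42c4) (.leaf 0x1d325c14f1)) (.node (.leaf 0x19516749b0) (.leaf 0x0)))) (.node (.node (.node (.leaf 0x1170488187) (.leaf 0x1d521b9188)) (.node (.leaf 0x18612e47ae) (.leaf 0x0))) (.node (.node (.leaf 0x1540b58426) (.leaf 0x1f72c95a18)) (.node (.leaf 0x1a51a14bfa) (.leaf 0x0))))) (.node (.node (.node (.node (.leaf 0x10403000fe) (.leaf 0x1c61fc101a)) (.node (.leaf 0x17510f46a7) (.leaf 0x0))) (.node (.node (.leaf 0x14309a8371) (.leaf 0x1e32849779)) (.node (.leaf 0x1a61834ad8) (.leaf 0x0)))) (.node (.node (.node (.leaf 0x126064c223) (.leaf 0x1d323b534b)) (.node (.leaf 0x19614b48b8) (.leaf 0x0))) (.node (.node (.leaf 0x1640d244ed) (.leaf 0x1f22dd9da0)) (.node (.leaf 0x1b61be4d47) (.leaf 0x0))))))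
def Lv0T_24 : BT ℕ := .node (.node (.node (.node (.node (.node (.leaf 0x530010007) (.leaf 0x1b71c2cd7f)) (.node (.leaf 0x1660d484ff) (.leaf 0x2012e49e56))) (.node (.node (.leaf 0x132066c231) (.leaf 0x1d72401380)) (.node (.leaf 0x19114d88cb) (.leaf 0x0)))) (.node (.node (.node (.leaf 0x100032410a) (.leaf 0x1c1200103c)) (.node (.leaf 0x17611286c2) (.leaf 0x0))) (.node (.node (.leaf 0x15609d0383) (.leaf 0x1e3287d79c)) (.node (.leaf 0x1a31870afc) (.leaf 0x0))))) (.node (.node (.node (.node (.leaf 0xd70174087) (.leaf 0x1c61e04ebc)) (.node (.leaf 0x1750f145d4) (.leaf 0x0))) (.node (.node (.leaf 0x14308202d4) (.leaf 0x1e625e951f)) (.node (.leaf 0x19516ac9cc) (.leaf 0x0)))) (.node (.node (.node (.leaf 0x11204b0196) (.leaf 0x1c621d519f)) (.node (.leaf 0x18313187c5) (.leaf 0x0))) (.node (.node (.leaf 0x1500b8043a) (.leaf 0x1f32b01a67)) (.node (.leaf 0x1a61a3cc1a) (.leaf 0x0)))))) (.node (.node (.node (.node (.node (.leaf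 0xe10194047) (.leaf 0x1b31d08e09)) (.node (.leaf 0x1660e2c564) (.leaf 0x214302a1dc))) (.node (.node (.leaf 0x141073427d) (.leaf 0x1d1250d451)) (.node (.leaf 0x19615bc955) (.leaf 0x0)))) (.node (.node (.node (.leaf 0x11103ec14f) (.leaf 0x1c620f10f4)) (.node (.leaf 0x185121473e) (.leaf 0x0))) (.node (.node (.leaf 0x1500a9c3da) (.leaf 0x1e129a1887)) (.node (.leaf 0x1a51950b8a) (.leaf 0x0))))) (.node (.node (.node (.node (.leaf 0xf402500c8) (.leaf 0x1c51f04fa6)) (.node (.leaf 0x170103c64e) (.leaf 0x0))) (.node (.node (.leaf 0x14208e8326) (.leaf 0x1e32739697)) (.node (.leaf 0x1a31798a7e) (.leaf 0x0)))) (.node (.node (.node (.leaf 0x12205841e1) (.leaf 0x1d522fd2d4)) (.node (.leaf 0x1831400841) (.leaf 0x0))) (.node (.node (.leaf 0x1630c5c49c) (.leaf 0x1f02c89bbf)) (.node (.leaf 0x1b31b2ccdf) (.leaf 0x0))))))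
def Lv0T_25 : BT ℕ := .node (.node (.node (.node (.node (.node (.leaf 0xa50068027) (.leaf 0x1b61ca0dcc)) (.node (.leaf 0x1650db0530) (.leaf 0x2072ef5f40))) (.node (.node (.leaf 0x13706c4255) (.leaf 0x1d6248d400)) (.node (.leaf 0x1961560919) (.leaf 0x0)))) (.node (.node (.node (.leaf 0x114048812b) (.leaf 0x1c220850ad)) (.node (.leaf 0x18111b470e) (.leaf 0x0))) (.node (.node (.leaf 0x1520a343ae) (.leaf 0x1e729017fd)) (.node (.leaf 0x1a518e4b4d) (.leaf 0x0))))) (.node (.node (.node (.node (.leaf 0xe001e80a7) (.leaf 0x1b71e80f23)) (.node (.leaf 0x1770fcc61a) (.leaf 0x0))) (.node (.node (.leaf 0x14708802fc) (.leaf 0x1d726815a2)) (.node (.leaf 0x196171ca21) (.leaf 0x0)))) (.node (.node (.node (.leaf 0x12405281bc) (.leaf 0x1c7225d220)) (.node (.leaf 0x19613807fa) (.leaf 0x0))) (.node (.node (.leaf 0x1510bf846a) (.leaf 0x1f12be1b35)) (.node (.leaf 0x1a61ab0c77) (.leaf 0x0)))))) (.node (.node (.node (.node (.node (.leaf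 0xc4011c067) (.leaf 0x1c31d90e69)) (.node (.leaf 0x1740eb05a2) (.leaf 0x0))) (.node (.node (.leaf 0x13307ac2ab) (.leaf 0x1d0257d4b7)) (.node (.leaf 0x195163098e) (.leaf 0x0)))) (.node (.node (.node (.leaf 0x1270448171) (.leaf 0x1c4216914b)) (.node (.leaf 0x18312b0793) (.leaf 0x0))) (.node (.node (.leaf 0x1510b1440b) (.leaf 0x1e72a45918)) (.node (.leaf 0x1b619ccbd2) (.leaf 0x0))))) (.node (.node (.node (.node (.leaf 0x12402ac0e8) (.leaf 0x1c61f70fe9)) (.node (.leaf 0x175109467c) (.leaf 0x0))) (.node (.node (.leaf 0x1450958354) (.leaf 0x1e327d56fa)) (.node (.leaf 0x1a517f4ab5) (.leaf 0x0)))) (.node (.node (.node (.leaf 0x12405f4207) (.leaf 0x1d52361322)) (.node (.leaf 0x191147c895) (.leaf 0x0))) (.node (.node (.leaf 0x1600cc84ce) (.leaf 0x2012d65ce2)) (.node (.leaf 0x1b51b94d1d) (.leaf 0x0))))))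
def Lv0T_26 : BT ℕ := .node (.node (.node (.node (.node (.node (.leaf 0x860038017) (.leaf 0x1b61c6cdad)) (.node (.leaf 0x1630d8451d) (.leaf 0x2012eb5ef4))) (.node (.node (.leaf 0x1320698244) (.leaf 0x1d324553de)) (.node (.leaf 0x19215148e8) (.leaf 0x0)))) (.node (.node (.node (.leaf 0x114034811a) (.leaf 0x1c0205108e)) (.node (.leaf 0x17611706e4) (.leaf 0x0))) (.node (.node (.leaf 0x1530a0439a) (.leaf 0x1e728b97c9)) (.node (.leaf 0x1a318b4b33) (.leaf 0x0))))) (.node (.node (.node (.node (.leaf 0xe201b8097) (.leaf 0x1b71e48eef)) (.node (.leaf 0x1720f705f6) (.leaf 0x0))) (.node (.node (.leaf 0x144084c2e8) (.leaf 0x1e3263155d)) (.node (.leaf 0x19216ec9f9) (.leaf 0x0)))) (.node (.node (.node (.leaf 0x12504fc1aa) (.leaf 0x1c122111cf)) (.node (.leaf 0x186133c7df) (.leaf 0x0))) (.node (.node (.leaf 0x1530bbc452) (.leaf 0x1f32b69ab3)) (.node (.leaf 0x1a61a78c4b) (.leaf 0x0)))))) (.node (.node (.node (.node (.node (.leaf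 0xc700e4057) (.leaf 0x1b61d54e38)) (.node (.leaf 0x1610e70580) (.leaf 0x22030ea3ce))) (.node (.node (.leaf 0x130076c293) (.leaf 0x1d32549488)) (.node (.leaf 0x1951600973) (.leaf 0x0)))) (.node (.node (.node (.leaf 0x114041c160) (.leaf 0x1c62129123)) (.node (.leaf 0x183126876c) (.leaf 0x0))) (.node (.node (.leaf 0x1530ad03f0) (.leaf 0x1e229f58ec)) (.node (.leaf 0x1a61988ba9) (.leaf 0x0))))) (.node (.node (.node (.node (.leaf 0xf202840d8) (.leaf 0x1c61f3cfcb)) (.node (.leaf 0x1701068667) (.leaf 0x0))) (.node (.node (.leaf 0x147092433b) (.leaf 0x1e327856cb)) (.node (.leaf 0x1a617c4a9c) (.leaf 0x0)))) (.node (.node (.node (.leaf 0x12705b81f2) (.leaf 0x1d623312f9)) (.node (.leaf 0x1831440866) (.leaf 0x0))) (.node (.node (.leaf 0x1670c8c4b1) (.leaf 0x1f12cf5c3d)) (.node (.leaf 0x1b51b5ccfe) (.leaf 0x0))))))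
def Lv0T_27 : BT ℕ := .node (.node (.node (.node (.node (.node (.leaf 0xb50094037) (.leaf 0x1b41cd8dea)) (.node (.leaf 0x1630df854d) (.leaf 0x2112fa2084))) (.node (.node (.leaf 0x14706f8268) (.leaf 0x1d624c1428)) (.node (.leaf 0x193159493e) (.leaf 0x0)))) (.node (.node (.node (.leaf 0x10403b013e) (.leaf 0x1c520b50cf)) (.node (.leaf 0x18311e0726) (.leaf 0x0))) (.node (.node (.leaf 0x1530a683c6) (.leaf 0x1e32955848)) (.node (.leaf 0x1a2191cb6a) (.leaf 0x0))))) (.node (.node (.node (.node (.leaf 0xe702140b7) (.leaf 0x1e71ec0f5f)) (.node (.leaf 0x1731000636) (.leaf 0x0))) (.node (.node (.leaf 0x14308b4310) (.leaf 0x1e726ed633)) (.node (.leaf 0x1c41760a4d) (.leaf 0x0)))) (.node (.node (.node (.leaf 0x124055c1ce) (.leaf 0x1c122a9267)) (.node (.leaf 0x18313c081b) (.leaf 0x0))) (.node (.node (.leaf 0x1640c2c485) (.leaf 0x1f62c3db77)) (.node (.leaf 0x1a71ae8ca5) (.leaf 0x0)))))) (.node (.node (.node (.node (.node (.leaf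 0xd10148077) (.leaf 0x1b61dc4e83)) (.node (.leaf 0x1730ee85bf) (.leaf 0x0))) (.node (.node (.leaf 0x14707ec2c0) (.leaf 0x1d725b14e8)) (.node (.leaf 0x1a3166c9ac) (.leaf 0x0)))) (.node (.node (.node (.leaf 0x1110480183) (.leaf 0x1d621a1182)) (.node (.leaf 0x18512d87a9) (.leaf 0x0))) (.node (.node (.leaf 0x1600b4441f) (.leaf 0x1e12aa99d0)) (.node (.leaf 0x1b61a08bf6) (.leaf 0x0))))) (.node (.node (.node (.node (.leaf 0xf202f40fa) (.leaf 0x1c31fa900f)) (.node (.leaf 0x17510e06a0) (.leaf 0x0))) (.node (.node (.leaf 0x146099836c) (.leaf 0x1e0283d771)) (.node (.leaf 0x1a61828ad0) (.leaf 0x0)))) (.node (.node (.node (.leaf 0x124064021e) (.leaf 0x1d623a1344)) (.node (.leaf 0x19014ac8b3) (.leaf 0x0))) (.node (.node (.leaf 0x1620d144e7) (.leaf 0x2022dadd35)) (.node (.leaf 0x1b61bd0d3c) (.leaf 0x0))))))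
def Lv0T_28 : BT ℕ := .node (.node (.node (.node (.node (.node (.leaf 0x74002400f) (.leaf 0x1b31c54d9e)) (.node (.leaf 0x1620d6850b) (.leaf 0x2012e89ec4))) (.node (.node (.leaf 0x1350680239) (.leaf 0x1d424413ce)) (.node (.leaf 0x19614f08d8) (.leaf 0x0)))) (.node (.node (.node (.leaf 0x1070334112) (.leaf 0x1c1203907c)) (.node (.leaf 0x18311546d3) (.leaf 0x0))) (.node (.node (.leaf 0x15409e838e) (.leaf 0x1e728a17b1)) (.node (.leaf 0x1a5189cb1e) (.leaf 0x0))))) (.node (.node (.node (.node (.leaf 0xd7019c08f) (.leaf 0x1b41e24ed0)) (.node (.leaf 0x1740f485e2) (.leaf 0x0))) (.node (.node (.leaf 0x14508342dd) (.leaf 0x1d72605528)) (.node (.leaf 0x19116cc9e1) (.leaf 0x0)))) (.node (.node (.node (.leaf 0x11104d41a1) (.leaf 0x1d521fd1bf)) (.node (.leaf 0x186132c7d0) (.leaf 0x0))) (.node (.node (.leaf 0x1550b94445) (.leaf 0x1f32b41a95)) (.node (.leaf 0x1a41a58c33) (.leaf 0x0)))))) (.node (.node (.node (.node (.node (.leaf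 0xc000d804f) (.leaf 0x1b01d3ce28)) (.node (.leaf 0x1600e54574) (.leaf 0x210305a236))) (.node (.node (.leaf 0x137074c286) (.leaf 0x1d3253146f)) (.node (.leaf 0x19215e0963) (.leaf 0x0)))) (.node (.node (.node (.leaf 0x1140404158) (.leaf 0x1c12111107)) (.node (.leaf 0x1821244754) (.leaf 0x0))) (.node (.node (.leaf 0x1520ab83e6) (.leaf 0x1e629d18b9)) (.node (.leaf 0x1a61968b99) (.leaf 0x0))))) (.node (.node (.node (.node (.leaf 0xf202680d0) (.leaf 0x1c11f24fb9)) (.node (.leaf 0x173105065c) (.leaf 0x0))) (.node (.node (.leaf 0x1520904332) (.leaf 0x1e327656b1)) (.node (.leaf 0x1a317b0a8f) (.leaf 0x0)))) (.node (.node (.node (.leaf 0x12005a41e9) (.leaf 0x1d623152e7)) (.node (.leaf 0x1811424854) (.leaf 0x0))) (.node (.node (.leaf 0x1600c784a6) (.leaf 0x1f12cd1c13)) (.node (.leaf 0x1b61b40cf0) (.leaf 0x0))))))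
def Lv0T_29 : BT ℕ := .node (.node (.node (.node (.node (.node (.leaf 0xa3007802f) (.leaf 0x1b51cbcddb)) (.node (.leaf 0x1700dcc53c) (.leaf 0x2012f3dfaa))) (.node (.node (.leaf 0x13306e025f) (.leaf 0x1d524a9415)) (.node (.leaf 0x1901580932) (.leaf 0x0)))) (.node (.node (.node (.leaf 0x1020390134) (.leaf 0x1c620950be)) (.node (.leaf 0x18111cc71a) (.leaf 0x0))) (.node (.node (.leaf 0x1520a503bb) (.leaf 0x1e1292981f)) (.node (.leaf 0x1a618fcb5c) (.leaf 0x0))))) (.node (.node (.node (.node (.leaf 0xe502000af) (.leaf 0x1c31ea4f45)) (.node (.leaf 0x1710fec62b) (.leaf 0x0))) (.node (.node (.leaf 0x1440898306) (.leaf 0x1d126c5600)) (.node (.leaf 0x1931744a35) (.leaf 0x0)))) (.node (.node (.node (.leaf 0x12305441c5) (.leaf 0x1c6228524b)) (.node (.leaf 0x1861398804) (.leaf 0x0))) (.node (.node (.leaf 0x1610c14479) (.leaf 0x1f72c0db59)) (.node (.leaf 0x1a11accc8c) (.leaf 0x0)))))) (.node (.node (.node (.node (.node (.leaf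 0xd4013406f) (.leaf 0x1c11dace74)) (.node (.leaf 0x1720ecc5b1) (.leaf 0x0))) (.node (.node (.leaf 0x13307d02b5) (.leaf 0x1d725994cc)) (.node (.leaf 0x19516509a2) (.leaf 0x0)))) (.node (.node (.node (.leaf 0x1150464179) (.leaf 0x1c72179161)) (.node (.leaf 0x18312c479e) (.leaf 0x0))) (.node (.node (.leaf 0x1530b2c417) (.leaf 0x1f12a8197a)) (.node (.leaf 0x1a519e4bdb) (.leaf 0x0))))) (.node (.node (.node (.node (.leaf 0xf202c80f1) (.leaf 0x1c61f8cff8)) (.node (.leaf 0x17410c468e) (.leaf 0x0))) (.node (.node (.leaf 0x142097c35f) (.leaf 0x1e1280971f)) (.node (.leaf 0x1a6180cac2) (.leaf 0x0)))) (.node (.node (.node (.leaf 0x1220614213) (.leaf 0x1d6237932d)) (.node (.leaf 0x19014988a8) (.leaf 0x0))) (.node (.node (.leaf 0x1660cdc4d9) (.leaf 0x2012d85cee)) (.node (.leaf 0x1b61bb0d2c) (.leaf 0x0))))))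
def Lv0T_30 : BT ℕ := .node (.node (.node (.node (.node (.node (.leaf 0x96004c01f) (.leaf 0x1b51c88dbd)) (.node (.leaf 0x1630d9c526) (.leaf 0x2032ed9f17))) (.node (.node (.leaf 0x13506b024d) (.leaf 0x1d524713f0)) (.node (.leaf 0x1921540902) (.leaf 0x0)))) (.node (.node (.node (.leaf 0x1070364123) (.leaf 0x1c6206909e)) (.node (.leaf 0x18411946fb) (.leaf 0x0))) (.node (.node (.leaf 0x1550a203a3) (.leaf 0x1e128e17e5)) (.node (.leaf 0x1a318ccb40) (.leaf 0x0))))) (.node (.node (.node (.node (.leaf 0xf701cc09f) (.leaf 0x1b11e68f0a)) (.node (.leaf 0x1730f98606) (.leaf 0x0))) (.node (.node (.leaf 0x14008682f3) (.leaf 0x1d02659571)) (.node (.leaf 0x1951708a0f) (.leaf 0x0)))) (.node (.node (.node (.leaf 0x12305181b3) (.leaf 0x1c422351f4)) (.node (.leaf 0x18513587e8) (.leaf 0x0))) (.node (.node (.leaf 0x1860bdc45f) (.leaf 0x1f22bb9af0)) (.node (.leaf 0x1a61a90c61) (.leaf 0x0)))))) (.node (.node (.node (.node (.node (.leaf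 0xc700fc05f) (.leaf 0x1b41d74e50)) (.node (.leaf 0x1620e98592) (.leaf 0x0))) (.node (.node (.leaf 0x132078c29e) (.leaf 0x1d3256149e)) (.node (.leaf 0x1951618981) (.leaf 0x0)))) (.node (.node (.node (.leaf 0x1170430168) (.leaf 0x1c4214d13a)) (.node (.leaf 0x1841298783) (.leaf 0x0))) (.node (.node (.leaf 0x1520af43fd) (.leaf 0x1f62a11901)) (.node (.leaf 0x1a519acbbd) (.leaf 0x0))))) (.node (.node (.node (.node (.leaf 0xf502980e0) (.leaf 0x1c01f58fd9)) (.node (.leaf 0x175107c673) (.leaf 0x0))) (.node (.node (.leaf 0x1420944349) (.leaf 0x1e627ad6df)) (.node (.leaf 0x1a617dcaa8) (.leaf 0x0)))) (.node (.node (.node (.leaf 0x12005d81fd) (.leaf 0x1d6234930f)) (.node (.leaf 0x186145c87b) (.leaf 0x0))) (.node (.node (.leaf 0x1640ca84bf) (.leaf 0x1f22d21c6f)) (.node (.leaf 0x1b21b7cd0e) (.leaf 0x0))))))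
def Lv0T_31 : BT ℕ := .node (.node (.node (.node (.node (.node (.leaf 0xb400a003f) (.leaf 0x1b61cf0dfa)) (.node (.leaf 0x1630e0c558) (.leaf 0x2112fbe08f))) (.node (.node (.leaf 0x1320714273) (.leaf 0x1d324e543a)) (.node (.leaf 0x19115a894a) (.leaf 0x0)))) (.node (.node (.node (.leaf 0x10103d8147) (.leaf 0x1c520d90e1)) (.node (.leaf 0x18611f0730) (.leaf 0x0))) (.node (.node (.leaf 0x1510a803cf) (.leaf 0x1e1297d86c)) (.node (.leaf 0x1a41938b79) (.leaf 0x0))))) (.node (.node (.node (.node (.leaf 0xe2023c0c0) (.leaf 0x1c31eecf94)) (.node (.leaf 0x1761010640) (.leaf 0x0))) (.node (.node (.leaf 0x14708cc31a) (.leaf 0x1e62719680)) (.node (.leaf 0x1971778a5f) (.leaf 0x0)))) (.node (.node (.node (.leaf 0x131057c1d6) (.leaf 0x1f122d529d)) (.node (.leaf 0x18113e482f) (.leaf 0x0))) (.node (.node (.leaf 0x1600c4c493) (.leaf 0x1f72c5db98)) (.node (.leaf 0x1b31b14cd1) (.leaf 0x0)))))) (.node (.node (.node (.node (.node (.leaf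 0x107015c07f) (.leaf 0x1c31de0e9c)) (.node (.leaf 0x1760efc5c9) (.leaf 0x0))) (.node (.node (.leaf 0x14408042ca) (.leaf 0x1e325d9514)) (.node (.leaf 0x19516889b9) (.leaf 0x0)))) (.node (.node (.node (.leaf 0x114049418c) (.leaf 0x1d221b918d)) (.node (.leaf 0x18112fc7b7) (.leaf 0x0))) (.node (.node (.leaf 0x1510b6842e) (.leaf 0x1f12bf1a35)) (.node (.leaf 0x1a31a1cc00) (.leaf 0x0))))) (.node (.node (.node (.node (.leaf 0x105030c102) (.leaf 0x1c31fd5021)) (.node (.leaf 0x17211106b3) (.leaf 0x0))) (.node (.node (.leaf 0x14309b4376) (.leaf 0x1e3285d785)) (.node (.leaf 0x1a01844adf) (.leaf 0x0)))) (.node (.node (.node (.leaf 0x1370650227) (.leaf 0x1d623c535b)) (.node (.leaf 0x19514bc8be) (.leaf 0x0))) (.node (.node (.leaf 0x1610d344f5) (.leaf 0x2012e19e1e)) (.node (.leaf 0x1b01bf0d4e) (.leaf 0x0))))))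
def Lv0T_32 : BT ℕ := .node (.node (.node (.node (.node (.node (.leaf 0x150000002) (.leaf 0x1b61bf8d54)) (.node (.leaf 0x1630d3c4f9) (.leaf 0x2012e2de35))) (.node (.node (.leaf 0x137065822a) (.leaf 0x1d323d5366)) (.node (.leaf 0x19514c48c3) (.leaf 0x0)))) (.node (.node (.node (.leaf 0x1070310105) (.leaf 0x1c71fed030)) (.node (.leaf 0x17611146b7) (.leaf 0x0))) (.node (.node (.leaf 0x14109c437b) (.leaf 0x1e6286978c)) (.node (.leaf 0x1a61850ae8) (.leaf 0x0))))) (.node (.node (.node (.node (.leaf 0xd20168082) (.leaf 0x1b71de8e9f)) (.node (.leaf 0x1760f045cd) (.leaf 0x0))) (.node (.node (.leaf 0x14108102cf) (.leaf 0x1e025e9517)) (.node (.leaf 0x1a6169c9c6) (.leaf 0x0)))) (.node (.node (.node (.leaf 0x114049c18f) (.leaf 0x1c521c1190)) (.node (.leaf 0x18513047bb) (.leaf 0x0))) (.node (.node (.leaf 0x1500b74434) (.leaf 0x2012e55a38)) (.node (.leaf 0x1b51a34c12) (.leaf 0x0)))))) (.node (.node (.node (.node (.node (.leaf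 0x10600ac042) (.leaf 0x1b71cf8dff)) (.node (.leaf 0x1650e1855c) (.leaf 0x211300218c))) (.node (.node (.leaf 0x1440720278) (.leaf 0x1d724f9445)) (.node (.leaf 0x19315b494e) (.leaf 0x0)))) (.node (.node (.node (.leaf 0x11703dc14a) (.leaf 0x1c020dd0e5)) (.node (.leaf 0x18611fc734) (.leaf 0x0))) (.node (.node (.leaf 0x1550a883d3) (.leaf 0x1e6298d87b)) (.node (.leaf 0x1a0193cb7d) (.leaf 0x0))))) (.node (.node (.node (.node (.leaf 0xf402440c3) (.leaf 0x1c61ef4f9b)) (.node (.leaf 0x1711024644) (.leaf 0x0))) (.node (.node (.leaf 0x15408d8320) (.leaf 0x1e0272568b)) (.node (.leaf 0x1971784a6a) (.leaf 0x0)))) (.node (.node (.node (.leaf 0x12705741d9) (.leaf 0x1c722dd2a0)) (.node (.leaf 0x18613ec835) (.leaf 0x0))) (.node (.node (.leaf 0x1630c50496) (.leaf 0x1f02c6dba5)) (.node (.leaf 0x1b11b1ccd6) (.leaf 0x0))))))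
def Lv0T_33 : BT ℕ := .node (.node (.node (.node (.node (.node (.leaf 0x960054022) (.leaf 0x1b11c94dc1)) (.node (.leaf 0x1700da852b) (.leaf 0x2012ee5f23))) (.node (.node (.leaf 0x13406bc250) (.leaf 0x1d624753f4)) (.node (.leaf 0x193154890a) (.leaf 0x0)))) (.node (.node (.node (.leaf 0x1010370126) (.leaf 0x1c520750a6)) (.node (.leaf 0x18711a0701) (.leaf 0x0))) (.node (.node (.leaf 0x1570a243a6) (.leaf 0x1e328ed7ed)) (.node (.leaf 0x1a618d4b46) (.leaf 0x0))))) (.node (.node (.node (.node (.leaf 0xe001d80a2) (.leaf 0x1b51e70f17)) (.node (.leaf 0x1710fa860c) (.leaf 0x0))) (.node (.node (.leaf 0x145086c2f6) (.leaf 0x1e72665591)) (.node (.leaf 0x196170ca13) (.leaf 0x0)))) (.node (.node (.node (.leaf 0x125051c1b6) (.leaf 0x1c6223d200)) (.node (.leaf 0x18613607ed) (.leaf 0x0))) (.node (.node (.leaf 0x1500be4462) (.leaf 0x1f62bcdb29)) (.node (.leaf 0x1a61aa0c6a) (.leaf 0x0)))))) (.node (.node (.node (.node (.node (.leaf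 0xc2010c062) (.leaf 0x1b01d78e54)) (.node (.leaf 0x1640ea4598) (.leaf 0x0))) (.node (.node (.leaf 0x13207982a2) (.leaf 0x1d625714aa)) (.node (.leaf 0x1931624985) (.leaf 0x0)))) (.node (.node (.node (.leaf 0x114043816c) (.leaf 0x1c0215113e)) (.node (.leaf 0x18012a478b) (.leaf 0x0))) (.node (.node (.leaf 0x1510b00405) (.leaf 0x1f32a2d904)) (.node (.leaf 0x1a019b8bca) (.leaf 0x0))))) (.node (.node (.node (.node (.leaf 0xf4029c0e3) (.leaf 0x1c11f64fde)) (.node (.leaf 0x1851084677) (.leaf 0x0))) (.node (.node (.leaf 0x140095034e) (.leaf 0x1e327b96e4)) (.node (.leaf 0x1a617e0aac) (.leaf 0x0)))) (.node (.node (.node (.leaf 0x12705e0200) (.leaf 0x1d62351316)) (.node (.leaf 0x1831468884) (.leaf 0x0))) (.node (.node (.leaf 0x1620cb44c5) (.leaf 0x1f32d39c9b)) (.node (.leaf 0x1b61b80d11) (.leaf 0x0))))))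
def Lv0T_34 : BT ℕ := .node (.node (.node (.node (.node (.node (.leaf 0x770028012) (.leaf 0x1b51c5cda4)) (.node (.leaf 0x1620d74511) (.leaf 0x2012e95ece))) (.node (.node (.leaf 0x137068423c) (.leaf 0x1d024453d2)) (.node (.leaf 0x19514fc8dc) (.leaf 0x0)))) (.node (.node (.node (.leaf 0x1070338115) (.leaf 0x1c52041084)) (.node (.leaf 0x1a611646dc) (.leaf 0x0))) (.node (.node (.leaf 0x15209f4393) (.leaf 0x1e328a97b6)) (.node (.leaf 0x1a618a0b22) (.leaf 0x0))))) (.node (.node (.node (.node (.leaf 0xe701a8092) (.leaf 0x1b61e28ed5)) (.node (.leaf 0x1740f585e9) (.leaf 0x0))) (.node (.node (.leaf 0x14708382e0) (.leaf 0x1d32619538)) (.node (.leaf 0x19616d89ea) (.leaf 0x0)))) (.node (.node (.node (.leaf 0x11404e41a4) (.leaf 0x1d721fd1c2)) (.node (.leaf 0x18313347d6) (.leaf 0x0))) (.node (.node (.leaf 0x1520ba844a) (.leaf 0x1f72b4da9f)) (.node (.leaf 0x1a41a64c3c) (.leaf 0x0)))))) (.node (.node (.node (.node (.node (.leaf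 0xd0012c052) (.leaf 0x1b11d48e2d)) (.node (.leaf 0x1630e5c578) (.leaf 0x21230ae2cd))) (.node (.node (.leaf 0x134075828b) (.leaf 0x1d42541481)) (.node (.leaf 0x19615e4967) (.leaf 0x0)))) (.node (.node (.node (.leaf 0x110041015b) (.leaf 0x1c5211d116)) (.node (.leaf 0x182125475f) (.leaf 0x0))) (.node (.node (.leaf 0x1500ac43eb) (.leaf 0x1e129dd8c0)) (.node (.leaf 0x1a61978ba0) (.leaf 0x0))))) (.node (.node (.node (.node (.leaf 0xf4026c0d3) (.leaf 0x1c11f30fc2)) (.node (.leaf 0x180105c662) (.leaf 0x0))) (.node (.node (.leaf 0x1510910335) (.leaf 0x1e327756bf)) (.node (.leaf 0x1a317b8a95) (.leaf 0x0)))) (.node (.node (.node (.leaf 0x12505ac1ec) (.leaf 0x1d3231d2eb)) (.node (.leaf 0x186142c85a) (.leaf 0x0))) (.node (.node (.leaf 0x1610c804aa) (.leaf 0x1f12ce1c2a)) (.node (.leaf 0x1b61b44cf4) (.leaf 0x0))))))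
def Lv0T_35 : BT ℕ := .node (.node (.node (.node (.node (.node (.leaf 0xa30084032) (.leaf 0x1b41cc8de3)) (.node (.leaf 0x1670de0541) (.leaf 0x2012f4dfc8))) (.node (.node (.leaf 0x13506ec262) (.leaf 0x1d024ad419)) (.node (.leaf 0x1951584936) (.leaf 0x0)))) (.node (.node (.node (.leaf 0x107039c137) (.leaf 0x1c620a10c7)) (.node (.leaf 0x18311d4720) (.leaf 0x0))) (.node (.node (.leaf 0x1510a5c3c0) (.leaf 0x1e0293d831)) (.node (.leaf 0x1a61904b60) (.leaf 0x0))))) (.node (.node (.node (.node (.leaf 0xe702040b2) (.leaf 0x1b11eb0f48)) (.node (.leaf 0x1710ff462f) (.leaf 0x0))) (.node (.node (.leaf 0x14108a430b) (.leaf 0x1d126d160d)) (.node (.leaf 0x1961750a3e) (.leaf 0x0)))) (.node (.node (.node (.leaf 0x125054c1c8) (.leaf 0x1c32295257)) (.node (.leaf 0x19613b4811) (.leaf 0x0))) (.node (.node (.leaf 0x1670c1847d) (.leaf 0x1f32c1db64)) (.node (.leaf 0x1d71ad8c9a) (.leaf 0x0)))))) (.node (.node (.node (.node (.node (.leaf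 0xd3013c072) (.leaf 0x1b51db4e77)) (.node (.leaf 0x1720ed85b6) (.leaf 0x0))) (.node (.node (.leaf 0x13307e02b9) (.leaf 0x1d325a14d1)) (.node (.leaf 0x19616549a5) (.leaf 0x0)))) (.node (.node (.node (.leaf 0x114046c17d) (.leaf 0x1c32181166)) (.node (.leaf 0x18612cc7a2) (.leaf 0x0))) (.node (.node (.leaf 0x1560b3041a) (.leaf 0x1f52a8997d)) (.node (.leaf 0x1a419f4be4) (.leaf 0x0))))) (.node (.node (.node (.node (.leaf 0xf702d40f4) (.leaf 0x1c01f99003)) (.node (.leaf 0x17010d4698) (.leaf 0x0))) (.node (.node (.leaf 0x1430988365) (.leaf 0x1e62831764)) (.node (.leaf 0x1a61818ac9) (.leaf 0x0)))) (.node (.node (.node (.leaf 0x1220628217) (.leaf 0x1d6238d338)) (.node (.leaf 0x193149c8ac) (.leaf 0x0))) (.node (.node (.leaf 0x1650cf84de) (.leaf 0x2002d9dd30)) (.node (.leaf 0x1b51bbcd34) (.leaf 0x0))))))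
def Lv0T_36 : BT ℕ := .node (.node (.node (.node (.node (.node (.leaf 0x61001800a) (.leaf 0x1b31c3cd89)) (.node (.leaf 0x1630d50502) (.leaf 0x2012e61e67))) (.node (.node (.leaf 0x1330674234) (.leaf 0x1d1241538d)) (.node (.leaf 0x19114e48cf) (.leaf 0x0)))) (.node (.node (.node (.leaf 0x104032810d) (.leaf 0x1c12025065)) (.node (.leaf 0x17311386c7) (.leaf 0x0))) (.node (.node (.leaf 0x15409d8387) (.leaf 0x1e3288d7a8)) (.node (.leaf 0x1a61884b0a) (.leaf 0x0))))) (.node (.node (.node (.node (.leaf 0xd4018408a) (.leaf 0x1c31e08ebf)) (.node (.leaf 0x1750f245d8) (.leaf 0x0))) (.node (.node (.leaf 0x14508282d7) (.leaf 0x1e32601523)) (.node (.leaf 0x19316b49d1) (.leaf 0x0)))) (.node (.node (.node (.leaf 0x11704c0199) (.leaf 0x1c721d91a3)) (.node (.leaf 0x18113207c8) (.leaf 0x0))) (.node (.node (.leaf 0x1550b8443e) (.leaf 0x1f32b29a7b)) (.node (.leaf 0x1a21a48c24) (.leaf 0x0)))))) (.node (.node (.node (.node (.node (.leaf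 0xb700c404a) (.leaf 0x1b61d24e18)) (.node (.leaf 0x1600e4856e) (.leaf 0x212303a206))) (.node (.node (.leaf 0x1350740280) (.leaf 0x1d7251d461)) (.node (.leaf 0x19615c8959) (.leaf 0x0)))) (.node (.node (.node (.leaf 0x11503f4152) (.leaf 0x1c720fd0fb)) (.node (.leaf 0x1801224743) (.leaf 0x0))) (.node (.node (.leaf 0x1570aa43de) (.leaf 0x1e629b1896)) (.node (.leaf 0x1a31960b91) (.leaf 0x0))))) (.node (.node (.node (.node (.leaf 0xf1025c0cb) (.leaf 0x1c31f10faa)) (.node (.leaf 0x1711044653) (.leaf 0x0))) (.node (.node (.leaf 0x15408f432b) (.leaf 0x1e6274d69f)) (.node (.leaf 0x1a617a0a82) (.leaf 0x0)))) (.node (.node (.node (.leaf 0x12405901e4) (.leaf 0x1d523092dd)) (.node (.leaf 0x186140c84a) (.leaf 0x0))) (.node (.node (.leaf 0x1610c6849f) (.leaf 0x1f02ca9bd9)) (.node (.leaf 0x1b31b34ce7) (.leaf 0x0))))))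
def Lv0T_37 : BT ℕ := .node (.node (.node (.node (.node (.node (.leaf 0xa6006c02a) (.leaf 0x1b61cacdd4)) (.node (.leaf 0x1660db8536) (.leaf 0x2002f11f5e))) (.node (.node (.leaf 0x13206d025a) (.leaf 0x1d52499405)) (.node (.leaf 0x1961568920) (.leaf 0x0)))) (.node (.node (.node (.leaf 0x137038012f) (.leaf 0x1c620890b1)) (.node (.leaf 0x18311bc712) (.leaf 0x0))) (.node (.node (.leaf 0x1540a3c3b2) (.leaf 0x1e32911808)) (.node (.leaf 0x1a518ecb53) (.leaf 0x0))))) (.node (.node (.node (.node (.leaf 0x11101f00aa) (.leaf 0x1b71e8cf2c)) (.node (.leaf 0x1710fd8621) (.leaf 0x0))) (.node (.node (.leaf 0x14008882ff) (.leaf 0x1d726ad5ed)) (.node (.leaf 0x1961730a29) (.leaf 0x0)))) (.node (.node (.node (.leaf 0x12405341c0) (.leaf 0x1c7226922e)) (.node (.leaf 0x196138c7fe) (.leaf 0x0))) (.node (.node (.leaf 0x1520c04470) (.leaf 0x1f12bf9b45)) (.node (.leaf 0x1b61ac0c84) (.leaf 0x0)))))) (.node (.node (.node (.node (.node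 (.leaf 0xc4012406a) (.leaf 0x1c61d9ce6e)) (.node (.leaf 0x1770eb85a6) (.leaf 0x0))) (.node (.node (.leaf 0x13207c02ae) (.leaf 0x1d625854bd)) (.node (.leaf 0x195163c992) (.leaf 0x0)))) (.node (.node (.node (.leaf 0x1110454174) (.leaf 0x1c0216d14f)) (.node (.leaf 0x18312b8798) (.leaf 0x0))) (.node (.node (.leaf 0x1530b1c410) (.leaf 0x1f72a5d943)) (.node (.leaf 0x1b619d8bd6) (.leaf 0x0))))) (.node (.node (.node (.node (.leaf 0xf702b40eb) (.leaf 0x1c61f78ff0)) (.node (.leaf 0x18610a8686) (.leaf 0x0))) (.node (.node (.leaf 0x1450964357) (.leaf 0x1e327ed70a)) (.node (.leaf 0x1a51800abc) (.leaf 0x0)))) (.node (.node (.node (.leaf 0x137060020c) (.leaf 0x1d62365325)) (.node (.leaf 0x1941484899) (.leaf 0x0))) (.node (.node (.leaf 0x1660cd04d2) (.leaf 0x2012d6dce9)) (.node (.leaf 0x1b51ba0d25) (.leaf 0x0))))))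
def Lv0T_38 : BT ℕ := .node (.node (.node (.node (.node (.node (.leaf 0x87004001a) (.leaf 0x1b61c78db2)) (.node (.leaf 0x1740d90520) (.leaf 0x2002ec1eff))) (.node (.node (.leaf 0x13206a4248) (.leaf 0x1d224653e3)) (.node (.leaf 0x19015208ec) (.leaf 0x0)))) (.node (.node (.node (.leaf 0x104035811d) (.leaf 0x1c1205d093)) (.node (.leaf 0x173117c6eb) (.leaf 0x0))) (.node (.node (.leaf 0x1530a0c39d) (.leaf 0x1e628c57d0)) (.node (.leaf 0x1a618bcb39) (.leaf 0x0))))) (.node (.node (.node (.node (.leaf 0xe401c009a) (.leaf 0x1b11e54ef7)) (.node (.leaf 0x1710f845fd) (.leaf 0x0))) (.node (.node (.leaf 0x14108582ed) (.leaf 0x1e1263d560)) (.node (.leaf 0x19216f8a01) (.leaf 0x0)))) (.node (.node (.node (.leaf 0x12405041ae) (.leaf 0x1d622211ea)) (.node (.leaf 0x196134c7e3) (.leaf 0x0))) (.node (.node (.leaf 0x1560bc4457) (.leaf 0x1f12b85abd)) (.node (.leaf 0x1a71a7cc4f) (.leaf 0x0)))))) (.node (.node (.node (.node (.node (.leaf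 0xf700ec05a) (.leaf 0x1b31d60e40)) (.node (.leaf 0x1930e80588) (.leaf 0x0))) (.node (.node (.leaf 0x1300774296) (.leaf 0x1d72551494)) (.node (.leaf 0x193160c978) (.leaf 0x0)))) (.node (.node (.node (.leaf 0x1120424163) (.leaf 0x1c32131128)) (.node (.leaf 0x1861278773) (.leaf 0x0))) (.node (.node (.leaf 0x1570ae03f4) (.leaf 0x1f329fd8f7)) (.node (.leaf 0x1a61998bb0) (.leaf 0x0))))) (.node (.node (.node (.node (.leaf 0xf402880db) (.leaf 0x1c51f48fd3)) (.node (.leaf 0x175106c66b) (.leaf 0x0))) (.node (.node (.leaf 0x1440930340) (.leaf 0x1e627956d7)) (.node (.leaf 0x1a617c8a9f) (.leaf 0x0)))) (.node (.node (.node (.leaf 0x12205c41f7) (.leaf 0x1d62339301)) (.node (.leaf 0x182144c86f) (.leaf 0x0))) (.node (.node (.leaf 0x1610c984b8) (.leaf 0x1f12d09c56)) (.node (.leaf 0x1b31b68d02) (.leaf 0x0))))))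
def Lv0T_39 : BT ℕ := .node (.node (.node (.node (.node (.node (.leaf 0xb6009803a) (.leaf 0x1b01cdcdee)) (.node (.leaf 0x1630e00552) (.leaf 0x2112faa08a))) (.node (.node (.leaf 0x134070026c) (.leaf 0x1d624d5430)) (.node (.leaf 0x190159c941) (.leaf 0x0)))) (.node (.node (.node (.leaf 0x10703bc141) (.leaf 0x1c620b90d3)) (.node (.leaf 0x18311e8729) (.leaf 0x0))) (.node (.node (.leaf 0x1560a703ca) (.leaf 0x1e72961857)) (.node (.leaf 0x1a61920b6e) (.leaf 0x0))))) (.node (.node (.node (.node (.leaf 0xe702240ba) (.leaf 0x1b11ed0f65)) (.node (.leaf 0x1731008639) (.leaf 0x0))) (.node (.node (.leaf 0x14708bc313) (.leaf 0x20226f9651)) (.node (.leaf 0x1931768a51) (.leaf 0x0)))) (.node (.node (.node (.leaf 0x12305681d1) (.leaf 0x1c022b5274)) (.node (.leaf 0x18513cc822) (.leaf 0x0))) (.node (.node (.leaf 0x1620c3848b) (.leaf 0x1f32c49b80)) (.node (.leaf 0x1a71af4cb0) (.leaf 0x0)))))) (.node (.node (.node (.node (.node (.leaf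 0xd2015007a) (.leaf 0x1b31dcce88)) (.node (.leaf 0x1730ef05c3) (.leaf 0x0))) (.node (.node (.leaf 0x14007f42c3) (.leaf 0x1d625bd4ef)) (.node (.leaf 0x19116749af) (.leaf 0x0)))) (.node (.node (.node (.leaf 0x1150488186) (.leaf 0x1d521b5187)) (.node (.leaf 0x18512e47ad) (.leaf 0x0))) (.node (.node (.leaf 0x1570b54424) (.leaf 0x1e02ab59db)) (.node (.leaf 0x1b21a10bf9) (.leaf 0x0))))) (.node (.node (.node (.node (.leaf 0x10702fc0fd) (.leaf 0x1c51fc1019)) (.node (.leaf 0x17310f46a6) (.leaf 0x0))) (.node (.node (.leaf 0x14109a436f) (.leaf 0x1e62845777)) (.node (.leaf 0x1a01834ad7) (.leaf 0x0)))) (.node (.node (.node (.leaf 0x1230648221) (.leaf 0x1d323ad349)) (.node (.leaf 0x19514b08b7) (.leaf 0x0))) (.node (.node (.leaf 0x1620d204ec) (.leaf 0x1f72dd1d9a)) (.node (.leaf 0x1b61bdcd45) (.leaf 0x0))))))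
def Lv0T_40 : BT ℕ := .node (.node (.node (.node (.node (.node (.leaf 0x43000c006) (.leaf 0x1b61c18d6a)) (.node (.leaf 0x1650d444fe) (.leaf 0x2072e41e50))) (.node (.node (.leaf 0x1340668230) (.leaf 0x1d123f9375)) (.node (.leaf 0x19614d48c9) (.leaf 0x0)))) (.node (.node (.node (.leaf 0x1000320109) (.leaf 0x1c31ffd039)) (.node (.leaf 0x17511246c1) (.leaf 0x0))) (.node (.node (.leaf 0x15009d0382) (.leaf 0x1e6287979a)) (.node (.leaf 0x1a1186caf7) (.leaf 0x0))))) (.node (.node (.node (.node (.leaf 0xd20174086) (.leaf 0x1b11df8ea9)) (.node (.leaf 0x1730f145d3) (.leaf 0x0))) (.node (.node (.leaf 0x143081c2d3) (.leaf 0x1e525fd51e)) (.node (.leaf 0x19416ac9cb) (.leaf 0x0)))) (.node (.node (.node (.leaf 0x11404ac195) (.leaf 0x1c321c9196)) (.node (.leaf 0x18313147c3) (.leaf 0x0))) (.node (.node (.leaf 0x1530b7c439) (.leaf 0x1f62afda65)) (.node (.leaf 0x1a31a38c16) (.leaf 0x0)))))) (.node (.node (.node (.node (.node (.leaf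 0xb100b8046) (.leaf 0x1b61d04e07)) (.node (.leaf 0x1650e2c563) (.leaf 0x21730121a7))) (.node (.node (.leaf 0x130073027c) (.leaf 0x1d3250944e)) (.node (.leaf 0x19515bc954) (.leaf 0x0)))) (.node (.node (.node (.leaf 0x11203e814e) (.leaf 0x1c320e90ed)) (.node (.leaf 0x181121473d) (.leaf 0x0))) (.node (.node (.leaf 0x1540a983d9) (.leaf 0x1e3299d884)) (.node (.leaf 0x1a41950b89) (.leaf 0x0))))) (.node (.node (.node (.node (.leaf 0xf7024c0c7) (.leaf 0x1c21f04fa5)) (.node (.leaf 0x171103864c) (.leaf 0x0))) (.node (.node (.leaf 0x14208e4325) (.leaf 0x1e62735695)) (.node (.leaf 0x1a01798a7d) (.leaf 0x0)))) (.node (.node (.node (.leaf 0x12405801de) (.leaf 0x1d122fd2d3)) (.node (.leaf 0x18613fc83f) (.leaf 0x0))) (.node (.node (.leaf 0x1600c5c49b) (.leaf 0x1f12c85bbc)) (.node (.leaf 0x1b01b2ccde) (.leaf 0x0))))))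
def Lv0T_41 : BT ℕ := .node (.node (.node (.node (.node (.node (.leaf 0xa10068026) (.leaf 0x1b51ca0dcb)) (.node (.leaf 0x1630db052f) (.leaf 0x2002ef5f3f))) (.node (.node (.leaf 0x13706c0254) (.leaf 0x1d324893ff)) (.node (.leaf 0x1921560918) (.leaf 0x0)))) (.node (.node (.node (.leaf 0x107037412a) (.leaf 0x1c3207d0ab)) (.node (.leaf 0x18211b070c) (.leaf 0x0))) (.node (.node (.leaf 0x1540a303ac) (.leaf 0x1e329017fc)) (.node (.leaf 0x1a318e4b4c) (.leaf 0x0))))) (.node (.node (.node (.node (.leaf 0xe201e00a6) (.leaf 0x1b61e80f22)) (.node (.leaf 0x1700fc4617) (.leaf 0x0))) (.node (.node (.leaf 0x14508802fb) (.leaf 0x1d72679597)) (.node (.leaf 0x195171ca20) (.leaf 0x0)))) (.node (.node (.node (.leaf 0x12705241ba) (.leaf 0x1c1225d21f)) (.node (.leaf 0x18613787f8) (.leaf 0x0))) (.node (.node (.leaf 0x1560bf0468) (.leaf 0x1f32bddb32)) (.node (.leaf 0x1a31aacc73) (.leaf 0x0)))))) (.node (.node (.node (.node (.node (.leaf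 0xd2018c066) (.leaf 0x1b31d88e66)) (.node (.leaf 0x1770eac5a0) (.leaf 0x0))) (.node (.node (.leaf 0x13107a82a8) (.leaf 0x1d725794b5)) (.node (.leaf 0x191163098d) (.leaf 0x0)))) (.node (.node (.node (.leaf 0x1140444170) (.leaf 0x1c32161149)) (.node (.leaf 0x18012b0792) (.leaf 0x0))) (.node (.node (.leaf 0x1520b10409) (.leaf 0x1e72a3d90b)) (.node (.leaf 0x1b519c0bcf) (.leaf 0x0))))) (.node (.node (.node (.node (.leaf 0x12702a40e7) (.leaf 0x1c61f6cfe7)) (.node (.leaf 0x171109467b) (.leaf 0x0))) (.node (.node (.leaf 0x1430958353) (.leaf 0x1e627d16f9)) (.node (.leaf 0x1a117f4ab4) (.leaf 0x0)))) (.node (.node (.node (.leaf 0x12405f0206) (.leaf 0x1d42361321)) (.node (.leaf 0x1921478892) (.leaf 0x0))) (.node (.node (.leaf 0x1610cc04cc) (.leaf 0x2022d5dce1)) (.node (.leaf 0x1b21b94d1c) (.leaf 0x0))))))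
def Lv0T_42 : BT ℕ := .node (.node (.node (.node (.node (.node (.leaf 0x820038016) (.leaf 0x1b61c68dac)) (.node (.leaf 0x1600d8451c) (.leaf 0x2012eadee5))) (.node (.node (.leaf 0x1340694242) (.leaf 0x1d624513dc)) (.node (.leaf 0x19615088e5) (.leaf 0x0)))) (.node (.node (.node (.leaf 0x1020344119) (.leaf 0x1c6204d08d)) (.node (.leaf 0x17211706e3) (.leaf 0x0))) (.node (.node (.leaf 0x1500a04399) (.leaf 0x1e628b97c8)) (.node (.leaf 0x1a018b4b32) (.leaf 0x0))))) (.node (.node (.node (.node (.leaf 0xe401b4096) (.leaf 0x1b71e44eeb)) (.node (.leaf 0x1740f6c5f3) (.leaf 0x0))) (.node (.node (.leaf 0x14208482e7) (.leaf 0x1d0262d547)) (.node (.leaf 0x19616e09f2) (.leaf 0x0)))) (.node (.node (.node (.leaf 0x12404fc1a9) (.leaf 0x1c722091c9)) (.node (.leaf 0x185133c7de) (.leaf 0x0))) (.node (.node (.leaf 0x1510bb8450) (.leaf 0x1f32b65ab2)) (.node (.leaf 0x1a31a70c44) (.leaf 0x0)))))) (.node (.node (.node (.node (.node (.leaf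 0xc300e4056) (.leaf 0x1b61d50e36)) (.node (.leaf 0x1700e6c57f) (.leaf 0x22030de3ca))) (.node (.node (.leaf 0x1310768291) (.leaf 0x1d62545486)) (.node (.leaf 0x19515f8971) (.leaf 0x0)))) (.node (.node (.node (.leaf 0x117041815f) (.leaf 0x1c52129122)) (.node (.leaf 0x1831264769) (.leaf 0x0))) (.node (.node (.leaf 0x1530acc3ef) (.leaf 0x1e129f18d2)) (.node (.leaf 0x1a51988ba8) (.leaf 0x0))))) (.node (.node (.node (.node (.leaf 0x10202800d7) (.leaf 0x1c51f3cfca)) (.node (.leaf 0x1821064666) (.leaf 0x0))) (.node (.node (.leaf 0x140092433a) (.leaf 0x1e627816c9)) (.node (.leaf 0x1a517c0a9b) (.leaf 0x0)))) (.node (.node (.node (.leaf 0x12405b41f1) (.leaf 0x1d123312f8)) (.node (.leaf 0x186143c864) (.leaf 0x0))) (.node (.node (.leaf 0x1620c8c4b0) (.leaf 0x1f02cf1c38)) (.node (.leaf 0x1b21b5ccfd) (.leaf 0x0))))))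
def Lv0T_43 : BT ℕ := .node (.node (.node (.node (.node (.node (.leaf 0xb30094036) (.leaf 0x1b61cccde7)) (.node (.leaf 0x1610df454b) (.leaf 0x2142f96083))) (.node (.node (.leaf 0x13406f4267) (.leaf 0x1d324b9421)) (.node (.leaf 0x193159093c) (.leaf 0x0)))) (.node (.node (.node (.leaf 0x10203ac13d) (.leaf 0x1c420b50ce)) (.node (.leaf 0x18311dc724) (.leaf 0x0))) (.node (.node (.leaf 0x1500a683c5) (.leaf 0x1e62951846)) (.node (.leaf 0x1a61914b68) (.leaf 0x0))))) (.node (.node (.node (.node (.leaf 0xe402140b6) (.leaf 0x1e31ec0f5e)) (.node (.leaf 0x1730ffc634) (.leaf 0x0))) (.node (.node (.leaf 0x14308b030f) (.leaf 0x1e126ed632)) (.node (.leaf 0x1c3175ca4c) (.leaf 0x0)))) (.node (.node (.node (.leaf 0x12705581cd) (.leaf 0x1c722a1263)) (.node (.leaf 0x18013c081a) (.leaf 0x0))) (.node (.node (.leaf 0x1670c28483) (.leaf 0x1f72c35b73)) (.node (.leaf 0x1a31ae8ca4) (.leaf 0x0)))))) (.node (.node (.node (.node (.node (.leaf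 0xe70144076) (.leaf 0x1b51dc4e82)) (.node (.leaf 0x1700ee85be) (.leaf 0x0))) (.node (.node (.leaf 0x14607ec2bf) (.leaf 0x1d625b14e7)) (.node (.leaf 0x1a616689ab) (.leaf 0x0)))) (.node (.node (.node (.leaf 0x112047c182) (.leaf 0x1d3219d181)) (.node (.leaf 0x18112d87a8) (.leaf 0x0))) (.node (.node (.leaf 0x1550b4041e) (.leaf 0x1e72aa19cc)) (.node (.leaf 0x1a319fcbea) (.leaf 0x0))))) (.node (.node (.node (.node (.leaf 0xf402f00f8) (.leaf 0x1c61fa500d)) (.node (.leaf 0x17310e069f) (.leaf 0x0))) (.node (.node (.leaf 0x1430994369) (.leaf 0x1e7283976f)) (.node (.leaf 0x1a61824ace) (.leaf 0x0)))) (.node (.node (.node (.leaf 0x123063821d) (.leaf 0x1d6239d343)) (.node (.leaf 0x19114a88b0) (.leaf 0x0))) (.node (.node (.leaf 0x1640d104e5) (.leaf 0x2052da9d34)) (.node (.leaf 0x1b61bccd3a) (.leaf 0x0))))))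
def Lv0T_44 : BT ℕ := .node (.node (.node (.node (.node (.node (.leaf 0x70002400e) (.leaf 0x1b31c50d9a)) (.node (.leaf 0x1640d64508) (.leaf 0x2032e85ec1))) (.node (.node (.leaf 0x1320680238) (.leaf 0x1d624393c7)) (.node (.leaf 0x19514f08d7) (.leaf 0x0)))) (.node (.node (.node (.leaf 0x1050334111) (.leaf 0x1c62035078)) (.node (.leaf 0x18611506d2) (.leaf 0x0))) (.node (.node (.leaf 0x15709e438c) (.leaf 0x1e628a17b0)) (.node (.leaf 0x1a31898b1a) (.leaf 0x0))))) (.node (.node (.node (.node (.leaf 0xd5019c08e) (.leaf 0x1b21e1cec9)) (.node (.leaf 0x1770f445e0) (.leaf 0x0))) (.node (.node (.leaf 0x14408302dc) (.leaf 0x1d62605527)) (.node (.leaf 0x1a216c89e0) (.leaf 0x0)))) (.node (.node (.node (.leaf 0x11204d019f) (.leaf 0x1d321ed1be)) (.node (.leaf 0x18513287cf) (.leaf 0x0))) (.node (.node (.leaf 0x1560b90443) (.leaf 0x1f32b3da92)) (.node (.leaf 0x1a61a50c2b) (.leaf 0x0)))))) (.node (.node (.node (.node (.node (.leaf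 0xc700d404e) (.leaf 0x1b61d34e23)) (.node (.leaf 0x1660e50573) (.leaf 0x2103056227))) (.node (.node (.leaf 0x1340748285) (.leaf 0x1d72529469)) (.node (.leaf 0x19615d8961) (.leaf 0x0)))) (.node (.node (.node (.leaf 0x1170400157) (.leaf 0x1c3210d104)) (.node (.leaf 0x1841240751) (.leaf 0x0))) (.node (.node (.leaf 0x1520ab43e5) (.leaf 0x1e329c98a4)) (.node (.leaf 0x1a51968b98) (.leaf 0x0))))) (.node (.node (.node (.node (.leaf 0xf002680cf) (.leaf 0x1c61f20fb6)) (.node (.leaf 0x170105065b) (.leaf 0x0))) (.node (.node (.leaf 0x1510900331) (.leaf 0x1e627616af)) (.node (.leaf 0x1a017b0a8e) (.leaf 0x0)))) (.node (.node (.node (.leaf 0x13205a01e8) (.leaf 0x1d523152e6)) (.node (.leaf 0x186141c850) (.leaf 0x0))) (.node (.node (.leaf 0x1670c744a5) (.leaf 0x1f32ccdc10)) (.node (.leaf 0x1b51b3ccee) (.leaf 0x0))))))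
def Lv0T_45 : BT ℕ := .node (.node (.node (.node (.node (.node (.leaf 0xa7007002e) (.leaf 0x1b21cbcdda)) (.node (.leaf 0x1730dcc53b) (.leaf 0x2002f39fa5))) (.node (.node (.leaf 0x13006e025e) (.leaf 0x1d324a140b)) (.node (.leaf 0x191157c92f) (.leaf 0x0)))) (.node (.node (.node (.leaf 0x117038c133) (.leaf 0x1c020950bd)) (.node (.leaf 0x18311c8719) (.leaf 0x0))) (.node (.node (.leaf 0x1540a4c3b8) (.leaf 0x1e7292181b)) (.node (.leaf 0x1a618f8b5b) (.leaf 0x0))))) (.node (.node (.node (.node (.leaf 0xe202000ae) (.leaf 0x1b11ea0f39)) (.node (.leaf 0x1720fe8628) (.leaf 0x0))) (.node (.node (.leaf 0x1440894305) (.leaf 0x1d126bd5f7)) (.node (.leaf 0x1961740a33) (.leaf 0x0)))) (.node (.node (.node (.leaf 0x12305401c4) (.leaf 0x1c72281249)) (.node (.leaf 0x1861394802) (.leaf 0x0))) (.node (.node (.leaf 0x1640c10478) (.leaf 0x1f32c0db58)) (.node (.leaf 0x1a71ac4c88) (.leaf 0x0)))))) (.node (.node (.node (.node (.node (.leaf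 0xd7013006e) (.leaf 0x1c21da8e73)) (.node (.leaf 0x1720ec85af) (.leaf 0x0))) (.node (.node (.leaf 0x13007d02b4) (.leaf 0x1d625994cb)) (.node (.leaf 0x196164499a) (.leaf 0x0)))) (.node (.node (.node (.leaf 0x1170460178) (.leaf 0x1c62179160)) (.node (.leaf 0x18012c479d) (.leaf 0x0))) (.node (.node (.leaf 0x1530b28414) (.leaf 0x1f02a7d979)) (.node (.leaf 0x1a219e4bda) (.leaf 0x0))))) (.node (.node (.node (.node (.leaf 0xf402c40f0) (.leaf 0x1c61f88ff6)) (.node (.leaf 0x18310b868b) (.leaf 0x0))) (.node (.node (.leaf 0x141097835e) (.leaf 0x1e3280171b)) (.node (.leaf 0x1a5180cac1) (.leaf 0x0)))) (.node (.node (.node (.leaf 0x1540610212) (.leaf 0x1d3237532c)) (.node (.leaf 0x19114948a6) (.leaf 0x0))) (.node (.node (.leaf 0x1650cdc4d8) (.leaf 0x2012d81ced)) (.node (.leaf 0x1b31ba8d2a) (.leaf 0x0))))))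
def Lv0T_46 : BT ℕ := .node (.node (.node (.node (.node (.node (.leaf 0x97004801e) (.leaf 0x1b21c88dbc)) (.node (.leaf 0x1600d9c525) (.leaf 0x2072ed1f11))) (.node (.node (.leaf 0x13306b024c) (.leaf 0x1d424713ef)) (.node (.leaf 0x193153c8ff) (.leaf 0x0)))) (.node (.node (.node (.leaf 0x1040360122) (.leaf 0x1c5206909d)) (.node (.leaf 0x18711906f9) (.leaf 0x0))) (.node (.node (.leaf 0x1510a203a2) (.leaf 0x1e328d97e1)) (.node (.leaf 0x1a018ccb3f) (.leaf 0x0))))) (.node (.node (.node (.node (.leaf 0xe401c809e) (.leaf 0x1b71e60f04)) (.node (.leaf 0x1700f94604) (.leaf 0x0))) (.node (.node (.leaf 0x14108642f2) (.leaf 0x1d72649564)) (.node (.leaf 0x1931704a0a) (.leaf 0x0)))) (.node (.node (.node (.leaf 0x12105141b2) (.leaf 0x1d722291ee)) (.node (.leaf 0x18313587e7) (.leaf 0x0))) (.node (.node (.leaf 0x1560bd445c) (.leaf 0x1f12bb1ae7)) (.node (.leaf 0x1a51a90c60) (.leaf 0x0)))))) (.node (.node (.node (.node (.node (.leaf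 0xc100fc05e) (.leaf 0x1b61d6ce46)) (.node (.leaf 0x1660e9058e) (.leaf 0x0))) (.node (.node (.leaf 0x134078829c) (.leaf 0x1d6255d49c)) (.node (.leaf 0x1911618980) (.leaf 0x0)))) (.node (.node (.node (.leaf 0x1150430167) (.leaf 0x1c62145133)) (.node (.leaf 0x186128877c) (.leaf 0x0))) (.node (.node (.leaf 0x1540af03fb) (.leaf 0x1f32a19900)) (.node (.leaf 0x1a219acbbc) (.leaf 0x0))))) (.node (.node (.node (.node (.leaf 0xf202980df) (.leaf 0x1c61f54fd8)) (.node (.leaf 0x1761078670) (.leaf 0x0))) (.node (.node (.leaf 0x1410940348) (.leaf 0x1e327a56dd)) (.node (.leaf 0x1a517d8aa6) (.leaf 0x0)))) (.node (.node (.node (.leaf 0x12105d41fc) (.leaf 0x1d6234530d)) (.node (.leaf 0x1831458877) (.leaf 0x0))) (.node (.node (.leaf 0x1620ca44be) (.leaf 0x1f12d1dc68)) (.node (.leaf 0x1b61b70d09) (.leaf 0x0))))))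
def Lv0T_47 : BT ℕ := .node (.node (.node (.node (.node (.node (.leaf 0xb7009c03e) (.leaf 0x1b61ce8df8)) (.node (.leaf 0x1600e0c557) (.leaf 0x2122fb608e))) (.node (.node (.leaf 0x1470710272) (.leaf 0x1d624e1438)) (.node (.leaf 0x19615a4948) (.leaf 0x0)))) (.node (.node (.node (.leaf 0x10203d4145) (.leaf 0x1c620d10de)) (.node (.leaf 0x18511f072f) (.leaf 0x0))) (.node (.node (.leaf 0x1550a783ce) (.leaf 0x1e32975864)) (.node (.leaf 0x1a6192cb76) (.leaf 0x0))))) (.node (.node (.node (.node (.leaf 0xe402380bf) (.leaf 0x1c01eecf93)) (.node (.leaf 0x175101063f) (.leaf 0x0))) (.node (.node (.leaf 0x14408c8319) (.leaf 0x1e6271567e)) (.node (.leaf 0x1931778a5e) (.leaf 0x0)))) (.node (.node (.node (.leaf 0x127056c1d5) (.leaf 0x1f022d129c)) (.node (.leaf 0x18613d4829) (.leaf 0x0))) (.node (.node (.leaf 0x1610c48491) (.leaf 0x1f12c5db97)) (.node (.leaf 0x1b31b10cce) (.leaf 0x0)))))) (.node (.node (.node (.node (.node (.leaf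 0xd4015807e) (.leaf 0x1c61de4e9b)) (.node (.leaf 0x1750ef85c8) (.leaf 0x0))) (.node (.node (.leaf 0x14408002c9) (.leaf 0x1d125d150d)) (.node (.leaf 0x19216889b8) (.leaf 0x0)))) (.node (.node (.node (.leaf 0x117049018a) (.leaf 0x1d321b118c)) (.node (.leaf 0x18612f47b5) (.leaf 0x0))) (.node (.node (.leaf 0x1520b6442c) (.leaf 0x1f32c91a1b)) (.node (.leaf 0x1a61a18bfe) (.leaf 0x0))))) (.node (.node (.node (.node (.leaf 0x102030c101) (.leaf 0x1c71fd101f)) (.node (.leaf 0x17611006ad) (.leaf 0x0))) (.node (.node (.leaf 0x14609b0375) (.leaf 0x1e12859784)) (.node (.leaf 0x1a61840add) (.leaf 0x0)))) (.node (.node (.node (.leaf 0x1350650226) (.leaf 0x1d323c1358)) (.node (.leaf 0x19314bc8bd) (.leaf 0x0))) (.node (.node (.leaf 0x1620d304f3) (.leaf 0x2032e15e1b)) (.node (.leaf 0x1b71becd4c) (.leaf 0x0))))))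
def Lv0T_48 : BT ℕ := .node (.node (.node (.node (.node (.node (.leaf 0x310008004) (.leaf 0x1b51c08d5f)) (.node (.leaf 0x1630d404fb) (.leaf 0x2032e3de4c))) (.node (.node (.leaf 0x134066022d) (.leaf 0x1d623e536f)) (.node (.leaf 0x19314d08c6) (.leaf 0x0)))) (.node (.node (.node (.leaf 0x1020318107) (.leaf 0x1c71ff1033)) (.node (.leaf 0x17311206be) (.leaf 0x0))) (.node (.node (.leaf 0x15509cc380) (.leaf 0x1e62875797)) (.node (.leaf 0x1a51858aec) (.leaf 0x0))))) (.node (.node (.node (.node (.leaf 0xd4016c084) (.leaf 0x1b71decea2)) (.node (.leaf 0x1750f085d0) (.leaf 0x0))) (.node (.node (.leaf 0x14108182d1) (.leaf 0x1e325e151c)) (.node (.leaf 0x1a616a89c9) (.leaf 0x0)))) (.node (.node (.node (.leaf 0x14404a4193) (.leaf 0x1c721c1192)) (.node (.leaf 0x18113107bf) (.leaf 0x0))) (.node (.node (.leaf 0x1510b78436) (.leaf 0x1f62af1a5a)) (.node (.leaf 0x1b31a30c14) (.leaf 0x0)))))) (.node (.node (.node (.node (.node (.leaf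 0xb100b0044) (.leaf 0x1b61cfce02)) (.node (.leaf 0x1650e20560) (.leaf 0x211300e1a2))) (.node (.node (.leaf 0x131072827a) (.leaf 0x1d724fd448)) (.node (.leaf 0x19615b8951) (.leaf 0x0)))) (.node (.node (.node (.leaf 0x11703e014c) (.leaf 0x1c320e10e8)) (.node (.leaf 0x186120873a) (.leaf 0x0))) (.node (.node (.leaf 0x1500a943d6) (.leaf 0x1e7299187e)) (.node (.leaf 0x1a31940b80) (.leaf 0x0))))) (.node (.node (.node (.node (.leaf 0xf0024c0c5) (.leaf 0x1c51ef8f9f)) (.node (.leaf 0x175102c647) (.leaf 0x0))) (.node (.node (.leaf 0x15008dc322) (.leaf 0x1e3272968e)) (.node (.leaf 0x1a21790a76) (.leaf 0x0)))) (.node (.node (.node (.leaf 0x137057c1dc) (.leaf 0x1d322f52cd)) (.node (.leaf 0x18513f883c) (.leaf 0x0))) (.node (.node (.leaf 0x1650c54499) (.leaf 0x1f22c79bb3)) (.node (.leaf 0x1b61b1ccd8) (.leaf 0x0))))))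
def Lv0T_49 : BT ℕ := .node (.node (.node (.node (.node (.node (.leaf 0x930058024) (.leaf 0x1b61c94dc3)) (.node (.leaf 0x1730da852d) (.leaf 0x2012eedf38))) (.node (.node (.leaf 0x13706bc252) (.leaf 0x1d624813fc)) (.node (.leaf 0x195155090f) (.leaf 0x0)))) (.node (.node (.node (.leaf 0x1040374128) (.leaf 0x1c020790a8)) (.node (.leaf 0x18411a8706) (.leaf 0x0))) (.node (.node (.leaf 0x1510a2c3a9) (.leaf 0x1e328f57f4)) (.node (.leaf 0x1a518d8b49) (.leaf 0x0))))) (.node (.node (.node (.node (.leaf 0xe701d80a4) (.leaf 0x1b61e74f1a)) (.node (.leaf 0x1760fa860e) (.leaf 0x0))) (.node (.node (.leaf 0x14508742f8) (.leaf 0x1e12671593)) (.node (.leaf 0x1931714a18) (.leaf 0x0)))) (.node (.node (.node (.leaf 0x12505201b8) (.leaf 0x1c7224920f)) (.node (.leaf 0x185136c7f0) (.leaf 0x0))) (.node (.node (.leaf 0x1560be8465) (.leaf 0x1f72bd1b2c)) (.node (.leaf 0x1a41aa8c70) (.leaf 0x0)))))) (.node (.node (.node (.node (.node (.leaf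 0xc00114064) (.leaf 0x1b31d7ce57)) (.node (.leaf 0x1630ea859b) (.leaf 0x0))) (.node (.node (.leaf 0x14207a02a6) (.leaf 0x1d525794b3)) (.node (.leaf 0x1951628989) (.leaf 0x0)))) (.node (.node (.node (.leaf 0x125043c16e) (.leaf 0x1c32155141)) (.node (.leaf 0x18212a878d) (.leaf 0x0))) (.node (.node (.leaf 0x1640b08407) (.leaf 0x1f62a29906)) (.node (.leaf 0x1a319bcbcd) (.leaf 0x0))))) (.node (.node (.node (.node (.leaf 0x10403bc0e5) (.leaf 0x1c21f6cfe5)) (.node (.leaf 0x1831090679) (.leaf 0x0))) (.node (.node (.leaf 0x1400954350) (.leaf 0x1e327c56ef)) (.node (.leaf 0x1a517ecaaf) (.leaf 0x0)))) (.node (.node (.node (.leaf 0x12405e8203) (.leaf 0x1d62355319)) (.node (.leaf 0x1811470889) (.leaf 0x0))) (.node (.node (.leaf 0x1600cbc4ca) (.leaf 0x1f12d4dcab)) (.node (.leaf 0x1b51b88d14) (.leaf 0x0))))))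
def Lv0T_50 : BT ℕ := .node (.node (.node (.node (.node (.node (.leaf 0x850034014) (.leaf 0x1b21c68daa)) (.node (.leaf 0x1620d7c514) (.leaf 0x2012e9ded7))) (.node (.node (.leaf 0x137068c23f) (.leaf 0x1d324493d5)) (.node (.leaf 0x19615008df) (.leaf 0x0)))) (.node (.node (.node (.leaf 0x104033c117) (.leaf 0x1c62045087)) (.node (.leaf 0x17111686de) (.leaf 0x0))) (.node (.node (.leaf 0x15109fc396) (.leaf 0x1e328b17bb)) (.node (.leaf 0x1a318a8b27) (.leaf 0x0))))) (.node (.node (.node (.node (.leaf 0xe101b0094) (.leaf 0x1b61e38ee2)) (.node (.leaf 0x1710f605ef) (.leaf 0x0))) (.node (.node (.leaf 0x14708402e3) (.leaf 0x1d1262153d)) (.node (.leaf 0x19116e09f0) (.leaf 0x0)))) (.node (.node (.node (.leaf 0x11304f81a7) (.leaf 0x1c722011c4)) (.node (.leaf 0x18613387d9) (.leaf 0x0))) (.node (.node (.leaf 0x1510bb044d) (.leaf 0x1f12b59aa6)) (.node (.leaf 0x1a61a68c40) (.leaf 0x0)))))) (.node (.node (.node (.node (.node (.leaf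 0xc700dc054) (.leaf 0x1b21d50e34)) (.node (.leaf 0x1760e6857d) (.leaf 0x22530e23c8))) (.node (.node (.leaf 0x132076028e) (.leaf 0x1d62541483)) (.node (.leaf 0x19615ec96d) (.leaf 0x0)))) (.node (.node (.node (.leaf 0x112041815d) (.leaf 0x1c62121119)) (.node (.leaf 0x1801260766) (.leaf 0x0))) (.node (.node (.leaf 0x1510ac83ed) (.leaf 0x1e329e58c7)) (.node (.leaf 0x1a61984ba4) (.leaf 0x0))))) (.node (.node (.node (.node (.leaf 0xf202740d5) (.leaf 0x1c61f30fc4)) (.node (.leaf 0x183105c664) (.leaf 0x0))) (.node (.node (.leaf 0x1500918337) (.leaf 0x1e6277d6c6)) (.node (.leaf 0x1a617bca98) (.leaf 0x0)))) (.node (.node (.node (.leaf 0x12005b01ee) (.leaf 0x1d123292f1)) (.node (.leaf 0x1911438862) (.leaf 0x0))) (.node (.node (.leaf 0x1640c844ad) (.leaf 0x1f32ce9c31)) (.node (.leaf 0x1b51b50cfa) (.leaf 0x0))))))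
def Lv0T_51 : BT ℕ := .node (.node (.node (.node (.node (.node (.leaf 0xa40088034) (.leaf 0x1b61cc8de5)) (.node (.leaf 0x1620de8546) (.leaf 0x2012f86033))) (.node (.node (.leaf 0x13006f0264) (.leaf 0x1d324b141c)) (.node (.leaf 0x191158c938) (.leaf 0x0)))) (.node (.node (.node (.leaf 0x10403a413a) (.leaf 0x1c620a90ca)) (.node (.leaf 0x18611d8722) (.leaf 0x0))) (.node (.node (.leaf 0x1500a643c3) (.leaf 0x1e62949841)) (.node (.leaf 0x1a51910b66) (.leaf 0x0))))) (.node (.node (.node (.node (.leaf 0xe202100b4) (.leaf 0x1b01eb8f4f)) (.node (.leaf 0x1730ff8632) (.leaf 0x0))) (.node (.node (.leaf 0x14108ac30d) (.leaf 0x1d026d9614)) (.node (.leaf 0x1931754a41) (.leaf 0x0)))) (.node (.node (.node (.leaf 0x12705501ca) (.leaf 0x1c1229d25c)) (.node (.leaf 0x18213b8813) (.leaf 0x0))) (.node (.node (.leaf 0x1640c20481) (.leaf 0x1f62c31b70)) (.node (.leaf 0x1a71adcc9c) (.leaf 0x0)))))) (.node (.node (.node (.node (.node (.leaf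 0xe60144074) (.leaf 0x1b61db8e7a)) (.node (.leaf 0x1720ee05b9) (.leaf 0x0))) (.node (.node (.leaf 0x14407ec2bd) (.leaf 0x1d325a94d6)) (.node (.leaf 0x1a5165c9a8) (.leaf 0x0)))) (.node (.node (.node (.leaf 0x1120474180) (.leaf 0x1c3218916b)) (.node (.leaf 0x18512d07a4) (.leaf 0x0))) (.node (.node (.leaf 0x1610b3841c) (.leaf 0x1f72a8d97f)) (.node (.leaf 0x1a619f4be6) (.leaf 0x0))))) (.node (.node (.node (.node (.leaf 0x10702dc0f6) (.leaf 0x1c31f9d006)) (.node (.leaf 0x17010dc69b) (.leaf 0x0))) (.node (.node (.leaf 0x1520990367) (.leaf 0x1e5283976d)) (.node (.leaf 0x1a21824acc) (.leaf 0x0)))) (.node (.node (.node (.leaf 0x121063021a) (.leaf 0x1d3239533c)) (.node (.leaf 0x19514a08ae) (.leaf 0x0))) (.node (.node (.leaf 0x1610d0c4e2) (.leaf 0x2072da1d32)) (.node (.leaf 0x1b61bc0d36) (.leaf 0x0))))))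
def Lv0T_52 : BT ℕ := .node (.node (.node (.node (.node (.node (.leaf 0x66001800c) (.leaf 0x1b31c44d8e)) (.node (.leaf 0x1610d58504) (.leaf 0x2042e79e95))) (.node (.node (.leaf 0x135067c236) (.leaf 0x1d024213a8)) (.node (.leaf 0x19614e48d1) (.leaf 0x0)))) (.node (.node (.node (.leaf 0x101033010f) (.leaf 0x1c1202d06c)) (.node (.leaf 0x17111446cb) (.leaf 0x0))) (.node (.node (.leaf 0x15709dc389) (.leaf 0x1e328997ab)) (.node (.leaf 0x1a41894b17) (.leaf 0x0))))) (.node (.node (.node (.node (.leaf 0xd4019008c) (.leaf 0x1c71e10ec1)) (.node (.leaf 0x1770f385dc) (.leaf 0x0))) (.node (.node (.leaf 0x140082c2d9) (.leaf 0x1e625f9525)) (.node (.leaf 0x1a516c89de) (.leaf 0x0)))) (.node (.node (.node (.leaf 0x11404c819c) (.leaf 0x1c121e51aa)) (.node (.leaf 0x18313247cc) (.leaf 0x0))) (.node (.node (.leaf 0x1530b8c440) (.leaf 0x1f32b31a84)) (.node (.leaf 0x1a51a4cc28) (.leaf 0x0)))))) (.node (.node (.node (.node (.node (.leaf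 0xc500d404c) (.leaf 0x1b51d30e20)) (.node (.leaf 0x1600e4c570) (.leaf 0x215304a216))) (.node (.node (.leaf 0x1300744282) (.leaf 0x1d72521464)) (.node (.leaf 0x19515d495f) (.leaf 0x0)))) (.node (.node (.node (.leaf 0x11703f8154) (.leaf 0x1c721010fe)) (.node (.leaf 0x184123474a) (.leaf 0x0))) (.node (.node (.leaf 0x1520aac3e2) (.leaf 0x1e729b5899)) (.node (.leaf 0x1a61964b94) (.leaf 0x0))))) (.node (.node (.node (.node (.leaf 0xf402600cd) (.leaf 0x1c61f18fb0)) (.node (.leaf 0x1731048656) (.leaf 0x0))) (.node (.node (.leaf 0x14008fc32f) (.leaf 0x1e4275d6ac)) (.node (.leaf 0x1a117a8a87) (.leaf 0x0)))) (.node (.node (.node (.leaf 0x13405981e6) (.leaf 0x1d6230d2e0)) (.node (.leaf 0x186141084d) (.leaf 0x0))) (.node (.node (.leaf 0x1600c744a3) (.leaf 0x1f02cc1bfb)) (.node (.leaf 0x1b61b38cea) (.leaf 0x0))))))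
def Lv0T_53 : BT ℕ := .node (.node (.node (.node (.node (.node (.leaf 0xf200ec02c) (.leaf 0x1b61cb0dd6)) (.node (.leaf 0x1750dc0539) (.leaf 0x2012f31f9d))) (.node (.node (.leaf 0x13206d825c) (.leaf 0x1d0249d408)) (.node (.leaf 0x1931570924) (.leaf 0x0)))) (.node (.node (.node (.leaf 0x1070384131) (.leaf 0x1c520910ba)) (.node (.leaf 0x18111c4716) (.leaf 0x0))) (.node (.node (.leaf 0x1540a443b5) (.leaf 0x1e0291980f)) (.node (.leaf 0x1a218f8b59) (.leaf 0x0))))) (.node (.node (.node (.node (.leaf 0x11701f00ac) (.leaf 0x1b31e98f34)) (.node (.leaf 0x1720fe0625) (.leaf 0x0))) (.node (.node (.leaf 0x144088c302) (.leaf 0x1d726b15f0)) (.node (.leaf 0x1961738a2e) (.leaf 0x0)))) (.node (.node (.node (.leaf 0x121053c1c2) (.leaf 0x1c52281247)) (.node (.leaf 0x1821394800) (.leaf 0x0))) (.node (.node (.leaf 0x1600c0c475) (.leaf 0x1f32c01b4a)) (.node (.leaf 0x1b41ac0c86) (.leaf 0x0)))))) (.node (.node (.node (.node (.node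 (.leaf 0xd7012c06c) (.leaf 0x1c51dace71)) (.node (.leaf 0x1740ec05aa) (.leaf 0x0))) (.node (.node (.leaf 0x13107c82b1) (.leaf 0x1d325914c6)) (.node (.leaf 0x1911644998) (.leaf 0x0)))) (.node (.node (.node (.leaf 0x1140460176) (.leaf 0x1c32171152)) (.node (.leaf 0x18512bc79b) (.leaf 0x0))) (.node (.node (.leaf 0x1620b24412) (.leaf 0x1f12a69945)) (.node (.leaf 0x1b319dcbd8) (.leaf 0x0))))) (.node (.node (.node (.node (.leaf 0xf402bc0ee) (.leaf 0x1c61f7cff2)) (.node (.leaf 0x18510b8689) (.leaf 0x0))) (.node (.node (.leaf 0x142097035b) (.leaf 0x1e127f570f)) (.node (.leaf 0x1a61804abe) (.leaf 0x0)))) (.node (.node (.node (.leaf 0x1210608210) (.leaf 0x1d02371329)) (.node (.leaf 0x192148c8a0) (.leaf 0x0))) (.node (.node (.leaf 0x1650cd44d4) (.leaf 0x2032d79ceb)) (.node (.leaf 0x1b01ba4d27) (.leaf 0x0))))))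
def Lv0T_54 : BT ℕ := .node (.node (.node (.node (.node (.node (.leaf 0x95004801c) (.leaf 0x1b51c7cdb6)) (.node (.leaf 0x1600d98523) (.leaf 0x2032ecdf0d))) (.node (.node (.leaf 0x13006ac24a) (.leaf 0x1d624653e5)) (.node (.leaf 0x19215348f7) (.leaf 0x0)))) (.node (.node (.node (.leaf 0x107035811f) (.leaf 0x1c6205d095)) (.node (.leaf 0x17711846f1) (.leaf 0x0))) (.node (.node (.leaf 0x1550a1039f) (.leaf 0x1e128cd7d5)) (.node (.leaf 0x1a518c0b3c) (.leaf 0x0))))) (.node (.node (.node (.node (.leaf 0xe701c409c) (.leaf 0x1b71e58eff)) (.node (.leaf 0x1730f88601) (.leaf 0x0))) (.node (.node (.leaf 0x14008602f0) (.leaf 0x1e72641562)) (.node (.leaf 0x19516fca06) (.leaf 0x0)))) (.node (.node (.node (.leaf 0x124050c1b0) (.leaf 0x1d122251ec)) (.node (.leaf 0x19013507e5) (.leaf 0x0))) (.node (.node (.leaf 0x1610bcc459) (.leaf 0x1f72ba5adc)) (.node (.leaf 0x1a11a88c56) (.leaf 0x0)))))) (.node (.node (.node (.node (.node (.leaf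 0xc700f005c) (.leaf 0x1b51d68e43)) (.node (.leaf 0x1660e8858b) (.leaf 0x0))) (.node (.node (.leaf 0x1370780299) (.leaf 0x1d62555497)) (.node (.leaf 0x195161097c) (.leaf 0x0)))) (.node (.node (.node (.leaf 0x1110430165) (.leaf 0x1c3213d130)) (.node (.leaf 0x1851284779) (.leaf 0x0))) (.node (.node (.leaf 0x1520ae83f8) (.leaf 0x1f32a098fe)) (.node (.leaf 0x1a519a0bb3) (.leaf 0x0))))) (.node (.node (.node (.node (.leaf 0xf4028c0dd) (.leaf 0x1c61f4cfd5)) (.node (.leaf 0x173107466d) (.leaf 0x0))) (.node (.node (.leaf 0x1440938343) (.leaf 0x1e3279d6da)) (.node (.leaf 0x1a317d4aa2) (.leaf 0x0)))) (.node (.node (.node (.leaf 0x12105cc1fa) (.leaf 0x1d2234530b)) (.node (.leaf 0x1841454874) (.leaf 0x0))) (.node (.node (.leaf 0x1670c9c4ba) (.leaf 0x1f32d11c5d)) (.node (.leaf 0x1b11b70d07) (.leaf 0x0))))))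
def Lv0T_55 : BT ℕ := .node (.node (.node (.node (.node (.node (.leaf 0xe1014403c) (.leaf 0x1b31ce0df1)) (.node (.leaf 0x1650e04555) (.leaf 0x2102fb608c))) (.node (.node (.leaf 0x1320708270) (.leaf 0x1d624d9433)) (.node (.leaf 0x19315a0945) (.leaf 0x0)))) (.node (.node (.node (.leaf 0x10403c4143) (.leaf 0x1c620c50db)) (.node (.leaf 0x18611ec72c) (.leaf 0x0))) (.node (.node (.leaf 0x1530a743cc) (.leaf 0x1e3296d85d)) (.node (.leaf 0x1a61928b74) (.leaf 0x0))))) (.node (.node (.node (.node (.leaf 0xe7022c0bc) (.leaf 0x1b71ed4f6c)) (.node (.leaf 0x176100c63c) (.leaf 0x0))) (.node (.node (.leaf 0x14008c4316) (.leaf 0x1e6270d677)) (.node (.leaf 0x197176ca56) (.leaf 0x0)))) (.node (.node (.node (.leaf 0x124056c1d3) (.leaf 0x1d322bd283)) (.node (.leaf 0x18113d4827) (.leaf 0x0))) (.node (.node (.leaf 0x1620c4048e) (.leaf 0x1f32c55b92)) (.node (.leaf 0x1b11b0ccc9) (.leaf 0x0)))))) (.node (.node (.node (.node (.node (.leaf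 0xd7015407c) (.leaf 0x1c61ddce99)) (.node (.leaf 0x1730ef45c5) (.leaf 0x0))) (.node (.node (.leaf 0x14407f82c6) (.leaf 0x1d125c54f4)) (.node (.leaf 0x19616749b1) (.leaf 0x0)))) (.node (.node (.node (.leaf 0x115048c188) (.leaf 0x1d621ad18a)) (.node (.leaf 0x18512f07b3) (.leaf 0x0))) (.node (.node (.leaf 0x1520b5c428) (.leaf 0x1f72c7da19)) (.node (.leaf 0x1a61a14bfb) (.leaf 0x0))))) (.node (.node (.node (.node (.leaf 0x10203040ff) (.leaf 0x1c61fc501b)) (.node (.leaf 0x17111006ab) (.leaf 0x0))) (.node (.node (.leaf 0x14009ac372) (.leaf 0x1e62851780)) (.node (.leaf 0x1a41840adb) (.leaf 0x0)))) (.node (.node (.node (.leaf 0x1330650224) (.leaf 0x1d623bd355)) (.node (.leaf 0x19014b88b9) (.leaf 0x0))) (.node (.node (.leaf 0x1620d284f0) (.leaf 0x2012e59dfe)) (.node (.leaf 0x1b51becd4a) (.leaf 0x0))))))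
def Lv0T_56 : BT ℕ := .node (.node (.node (.node (.node (.node (.leaf 0x540010008) (.leaf 0x1b31c30d81)) (.node (.leaf 0x1600d4c500) (.leaf 0x2002e4de5a))) (.node (.node (.leaf 0x1310670232) (.leaf 0x1d12409384)) (.node (.leaf 0x19514d88cc) (.leaf 0x0)))) (.node (.node (.node (.leaf 0x102032410b) (.leaf 0x1c6201104a)) (.node (.leaf 0x173112c6c3) (.leaf 0x0))) (.node (.node (.leaf 0x15709d0384) (.leaf 0x1e6288179f)) (.node (.leaf 0x1a61874b00) (.leaf 0x0))))) (.node (.node (.node (.node (.leaf 0xe40194088) (.leaf 0x1c31e00ebd)) (.node (.leaf 0x1710f1c5d5) (.leaf 0x0))) (.node (.node (.leaf 0x14508202d5) (.leaf 0x1e325f1521)) (.node (.leaf 0x19616ac9cd) (.leaf 0x0)))) (.node (.node (.node (.leaf 0x12404b4197) (.leaf 0x1c721d51a0)) (.node (.leaf 0x18513187c6) (.leaf 0x0))) (.node (.node (.leaf 0x1530b8043b) (.leaf 0x1f62b05a6a)) (.node (.leaf 0x1a11a40c1d) (.leaf 0x0)))))) (.node (.node (.node (.node (.node (.leaf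 0xb200c0048) (.leaf 0x1b11d24e16)) (.node (.leaf 0x1660e38569) (.leaf 0x2113036201))) (.node (.node (.leaf 0x135073827e) (.leaf 0x1d32511455)) (.node (.leaf 0x19115c8957) (.leaf 0x0)))) (.node (.node (.node (.leaf 0x11103f4150) (.leaf 0x1c020fd0f9)) (.node (.leaf 0x182121c740) (.leaf 0x0))) (.node (.node (.leaf 0x1570a9c3db) (.leaf 0x1e329a588b)) (.node (.leaf 0x1a01954b8b) (.leaf 0x0))))) (.node (.node (.node (.node (.leaf 0xf202540c9) (.leaf 0x1c61f04fa7)) (.node (.leaf 0x173103c64f) (.leaf 0x0))) (.node (.node (.leaf 0x14108ec329) (.leaf 0x1e6273d698)) (.node (.leaf 0x1a3179ca80) (.leaf 0x0)))) (.node (.node (.node (.leaf 0x13405881e2) (.leaf 0x1d622fd2d5)) (.node (.leaf 0x1831408847) (.leaf 0x0))) (.node (.node (.leaf 0x1630c6049d) (.leaf 0x1f12c95bc9)) (.node (.leaf 0x1b01b30ce3) (.leaf 0x0))))))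
def Lv0T_57 : BT ℕ := .node (.node (.node (.node (.node (.node (.leaf 0xa60068028) (.leaf 0x1b61ca4dce)) (.node (.leaf 0x1660db4532) (.leaf 0x2002f01f4b))) (.node (.node (.leaf 0x13406c8257) (.leaf 0x1d32491402)) (.node (.leaf 0x194156891e) (.leaf 0x0)))) (.node (.node (.node (.leaf 0x107037812c) (.leaf 0x1c520850ae)) (.node (.leaf 0x18111b8710) (.leaf 0x0))) (.node (.node (.leaf 0x1500a383af) (.leaf 0x1e12909801)) (.node (.leaf 0x1a618e8b4f) (.leaf 0x0))))) (.node (.node (.node (.node (.leaf 0xe201e80a8) (.leaf 0x1b31e84f25)) (.node (.leaf 0x1740fd061c) (.leaf 0x0))) (.node (.node (.leaf 0x14508842fd) (.leaf 0x1d726855a4)) (.node (.leaf 0x1961728a26) (.leaf 0x0)))) (.node (.node (.node (.leaf 0x124052c1bd) (.leaf 0x1c02265227)) (.node (.leaf 0x19513807fb) (.leaf 0x0))) (.node (.node (.leaf 0x1560bf846b) (.leaf 0x1f32be5b39)) (.node (.leaf 0x1a71ab0c78) (.leaf 0x0)))))) (.node (.node (.node (.node (.node (.leaf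 0xc00120068) (.leaf 0x1c61d94e6a)) (.node (.leaf 0x1720eb45a4) (.leaf 0x0))) (.node (.node (.leaf 0x16107b02ac) (.leaf 0x1d6257d4b8)) (.node (.leaf 0x196163098f) (.leaf 0x0)))) (.node (.node (.node (.leaf 0x112044c172) (.leaf 0x1c5216914c)) (.node (.leaf 0x18112b4794) (.leaf 0x0))) (.node (.node (.leaf 0x1510b1840c) (.leaf 0x1f12a59941)) (.node (.leaf 0x1b519d8bd3) (.leaf 0x0))))) (.node (.node (.node (.node (.leaf 0xf402b40e9) (.leaf 0x1c41f78fee)) (.node (.leaf 0x176109467d) (.leaf 0x0))) (.node (.node (.leaf 0x146095c355) (.leaf 0x1e327d96fb)) (.node (.leaf 0x1a617f4ab6) (.leaf 0x0)))) (.node (.node (.node (.leaf 0x12205f820a) (.leaf 0x1d62361323)) (.node (.leaf 0x1901480897) (.leaf 0x0))) (.node (.node (.leaf 0x1630cc84cf) (.leaf 0x2032d61ce3)) (.node (.leaf 0x1b61b94d1e) (.leaf 0x0))))))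
def Lv0T_58 : BT ℕ := .node (.node (.node (.node (.node (.node (.leaf 0x870038018) (.leaf 0x1b31c74daf)) (.node (.leaf 0x1710d8851e) (.leaf 0x2072eb5ef5))) (.node (.node (.leaf 0x132069c245) (.leaf 0x1d624593df)) (.node (.leaf 0x19515148e9) (.leaf 0x0)))) (.node (.node (.node (.leaf 0x112035011b) (.leaf 0x1c6205108f)) (.node (.leaf 0x17411786e8) (.leaf 0x0))) (.node (.node (.leaf 0x1510a0839b) (.leaf 0x1e328bd7cb)) (.node (.leaf 0x1a318b8b36) (.leaf 0x0))))) (.node (.node (.node (.node (.leaf 0xe301bc098) (.leaf 0x1b31e4cef1)) (.node (.leaf 0x1720f785f8) (.leaf 0x0))) (.node (.node (.leaf 0x14208502ea) (.leaf 0x1e6263955e)) (.node (.leaf 0x19516ec9fa) (.leaf 0x0)))) (.node (.node (.node (.leaf 0x12704fc1ab) (.leaf 0x1c022151d3)) (.node (.leaf 0x19313447e0) (.leaf 0x0))) (.node (.node (.leaf 0x1500bc0453) (.leaf 0x1f12b6dab5)) (.node (.leaf 0x1a71a78c4c) (.leaf 0x0)))))) (.node (.node (.node (.node (.node (.leaf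 0xf600ec058) (.leaf 0x1b01d5ce3d)) (.node (.leaf 0x1660e70581) (.leaf 0x0))) (.node (.node (.leaf 0x133076c294) (.leaf 0x1d52551492)) (.node (.leaf 0x1901604974) (.leaf 0x0)))) (.node (.node (.node (.leaf 0x117041c161) (.leaf 0x1c0212d125)) (.node (.leaf 0x185126876d) (.leaf 0x0))) (.node (.node (.leaf 0x1550ad03f1) (.leaf 0x1f129f98f5)) (.node (.leaf 0x1a51994bae) (.leaf 0x0))))) (.node (.node (.node (.node (.leaf 0xf502840d9) (.leaf 0x1c61f40fcd)) (.node (.leaf 0x1731068668) (.leaf 0x0))) (.node (.node (.leaf 0x144092833d) (.leaf 0x1e627896ce)) (.node (.leaf 0x1a117c8a9d) (.leaf 0x0)))) (.node (.node (.node (.leaf 0x12405bc1f4) (.leaf 0x1d223392ff)) (.node (.leaf 0x1b6144886d) (.leaf 0x0))) (.node (.node (.leaf 0x1640c904b3) (.leaf 0x1f32cfdc46)) (.node (.leaf 0x1b61b5ccff) (.leaf 0x0))))))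
def Lv0T_59 : BT ℕ := .node (.node (.node (.node (.node (.node (.leaf 0xb60094038) (.leaf 0x1b51cd8deb)) (.node (.leaf 0x1610dfc54e) (.leaf 0x2112f9e085))) (.node (.node (.leaf 0x14506f8269) (.leaf 0x1d324c542a)) (.node (.leaf 0x195159493f) (.leaf 0x0)))) (.node (.node (.node (.leaf 0x10203b413f) (.leaf 0x1c620b50d0)) (.node (.leaf 0x18511e0727) (.leaf 0x0))) (.node (.node (.leaf 0x1530a6c3c8) (.leaf 0x1e6295d854)) (.node (.leaf 0x1a5191cb6b) (.leaf 0x0))))) (.node (.node (.node (.node (.leaf 0xf402cc0b8) (.leaf 0x1b31ec8f60)) (.node (.leaf 0x1751000637) (.leaf 0x0))) (.node (.node (.leaf 0x14508b4311) (.leaf 0x20026f964f)) (.node (.leaf 0x1941764a4e) (.leaf 0x0)))) (.node (.node (.node (.leaf 0x12205601cf) (.leaf 0x1c122ad26d)) (.node (.leaf 0x18313c481e) (.leaf 0x0))) (.node (.node (.leaf 0x1620c30487) (.leaf 0x1f32c41b79)) (.node (.leaf 0x1a11af0ca9) (.leaf 0x0)))))) (.node (.node (.node (.node (.node (.leaf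 0xd70148078) (.leaf 0x1b71dc4e84)) (.node (.leaf 0x1710eec5c0) (.leaf 0x0))) (.node (.node (.leaf 0x14507f02c1) (.leaf 0x1d325b54ea)) (.node (.leaf 0x1a016709ad) (.leaf 0x0)))) (.node (.node (.node (.leaf 0x1100484184) (.leaf 0x1d021a9183)) (.node (.leaf 0x18612d87aa) (.leaf 0x0))) (.node (.node (.leaf 0x1650b4c421) (.leaf 0x1e72aa99d1)) (.node (.leaf 0x1b51a10bf7) (.leaf 0x0))))) (.node (.node (.node (.node (.leaf 0x10002fc0fb) (.leaf 0x1c61fad010)) (.node (.leaf 0x17610e46a2) (.leaf 0x0))) (.node (.node (.leaf 0x173099c36d) (.leaf 0x1e6283d772)) (.node (.leaf 0x1a51830ad5) (.leaf 0x0)))) (.node (.node (.node (.leaf 0x122064421f) (.leaf 0x1d323a5346)) (.node (.leaf 0x19314ac8b4) (.leaf 0x0))) (.node (.node (.leaf 0x1670d184e8) (.leaf 0x2072dadd36)) (.node (.leaf 0x1b31bd4d3e) (.leaf 0x0))))))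
def Lv0T_60 : BT ℕ := .node (.node (.node (.node (.node (.node (.leaf 0x760024010) (.leaf 0x1b61c58da0)) (.node (.leaf 0x1610d6c50d) (.leaf 0x2072e89ec5))) (.node (.node (.leaf 0x137068023a) (.leaf 0x1d524413cf)) (.node (.leaf 0x19614f48d9) (.leaf 0x0)))) (.node (.node (.node (.leaf 0x1100340113) (.leaf 0x1c6203907d)) (.node (.leaf 0x17211586d4) (.leaf 0x0))) (.node (.node (.leaf 0x15209ec390) (.leaf 0x1e028a57b3)) (.node (.leaf 0x1a6189cb1f) (.leaf 0x0))))) (.node (.node (.node (.node (.leaf 0xd401a0090) (.leaf 0x1b41e28ed3)) (.node (.leaf 0x1720f4c5e5) (.leaf 0x0))) (.node (.node (.leaf 0x14708342de) (.leaf 0x1d3260952a)) (.node (.leaf 0x19316d09e5) (.leaf 0x0)))) (.node (.node (.node (.leaf 0x11204d81a2) (.leaf 0x1d321f51c0)) (.node (.leaf 0x18013307d1) (.leaf 0x0))) (.node (.node (.leaf 0x1560b94446) (.leaf 0x1f62b49a9c)) (.node (.leaf 0x1a51a58c34) (.leaf 0x0)))))) (.node (.node (.node (.node (.node (.leaf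 0xc600d8050) (.leaf 0x1b61d3ce29)) (.node (.leaf 0x1630e54575) (.leaf 0x212305a237))) (.node (.node (.leaf 0x1340750288) (.leaf 0x1d12535472)) (.node (.leaf 0x19515e0964) (.leaf 0x0)))) (.node (.node (.node (.leaf 0x1120408159) (.leaf 0x1c3211510b)) (.node (.leaf 0x1811248758) (.leaf 0x0))) (.node (.node (.leaf 0x1510abc3e8) (.leaf 0x1e329d58bb)) (.node (.leaf 0x1a51974b9e) (.leaf 0x0))))) (.node (.node (.node (.node (.leaf 0xf702680d1) (.leaf 0x1c51f24fba)) (.node (.leaf 0x1731054660) (.leaf 0x0))) (.node (.node (.leaf 0x1410908333) (.leaf 0x1e6276d6bb)) (.node (.leaf 0x1a017b4a92) (.leaf 0x0)))) (.node (.node (.node (.leaf 0x13105a81ea) (.leaf 0x1d023192e8)) (.node (.leaf 0x1861424855) (.leaf 0x0))) (.node (.node (.leaf 0x1670c784a7) (.leaf 0x1f32cd5c17)) (.node (.leaf 0x1b11b44cf2) (.leaf 0x0))))))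
def Lv0T_61 : BT ℕ := .node (.node (.node (.node (.node (.node (.leaf 0xf30118030) (.leaf 0x1b61cbcddc)) (.node (.leaf 0x1650dd053d) (.leaf 0x2012f41fbc))) (.node (.node (.leaf 0x13506e8260) (.leaf 0x1d624a9416)) (.node (.leaf 0x1931580933) (.leaf 0x0)))) (.node (.node (.node (.leaf 0x1340394135) (.leaf 0x1c320990c0)) (.node (.leaf 0x18011d071d) (.leaf 0x0))) (.node (.node (.leaf 0x1510a543bd) (.leaf 0x1e72929820)) (.node (.leaf 0x1a11904b5e) (.leaf 0x0))))) (.node (.node (.node (.node (.leaf 0xe702000b0) (.leaf 0x1c61eacf46)) (.node (.leaf 0x1700ff062d) (.leaf 0x0))) (.node (.node (.leaf 0x142089c308) (.leaf 0x1d726c5601)) (.node (.leaf 0x1a6174ca3c) (.leaf 0x0)))) (.node (.node (.node (.leaf 0x121054c1c6) (.leaf 0x1c3228924d)) (.node (.leaf 0x19613a880e) (.leaf 0x0))) (.node (.node (.leaf 0x1660c1447a) (.leaf 0x1f32c15b5d)) (.node (.leaf 0x1d31ad0c98) (.leaf 0x0)))))) (.node (.node (.node (.node (.node (.leaf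 0xd60138070) (.leaf 0x1c61dace75)) (.node (.leaf 0x1710ed05b2) (.leaf 0x0))) (.node (.node (.leaf 0x13607d42b7) (.leaf 0x1d0259d4ce)) (.node (.leaf 0x19616509a3) (.leaf 0x0)))) (.node (.node (.node (.leaf 0x117046417a) (.leaf 0x1c0217d163)) (.node (.leaf 0x18312c87a0) (.leaf 0x0))) (.node (.node (.leaf 0x1550b2c418) (.leaf 0x1f72a8197b)) (.node (.leaf 0x1a619e4bdc) (.leaf 0x0))))) (.node (.node (.node (.node (.leaf 0xf102cc0f2) (.leaf 0x1c41f95000)) (.node (.leaf 0x17210c8691) (.leaf 0x0))) (.node (.node (.leaf 0x1410980361) (.leaf 0x1e02815727)) (.node (.leaf 0x1a21818ac7) (.leaf 0x0)))) (.node (.node (.node (.leaf 0x132061c214) (.leaf 0x1d3237d32f)) (.node (.leaf 0x19314988a9) (.leaf 0x0))) (.node (.node (.leaf 0x1650ce84db) (.leaf 0x2032d8dcef)) (.node (.leaf 0x1b61bb4d2e) (.leaf 0x0))))))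
def Lv0T_62 : BT ℕ := .node (.node (.node (.node (.node (.node (.leaf 0x10400ac020) (.leaf 0x1b61c88dbe)) (.node (.leaf 0x1630da0529) (.leaf 0x2012eddf1a))) (.node (.node (.leaf 0x13106b824e) (.leaf 0x1d624713f1)) (.node (.leaf 0x1911544906) (.leaf 0x0)))) (.node (.node (.node (.leaf 0x1040368124) (.leaf 0x1c6206d0a0)) (.node (.leaf 0x18211986fe) (.leaf 0x0))) (.node (.node (.leaf 0x1570a203a4) (.leaf 0x1e328e57e8)) (.node (.leaf 0x1a318d0b43) (.leaf 0x0))))) (.node (.node (.node (.node (.leaf 0xe201d00a0) (.leaf 0x1b01e6cf0e)) (.node (.leaf 0x1750f98607) (.leaf 0x0))) (.node (.node (.leaf 0x14308682f4) (.leaf 0x1e1266158f)) (.node (.leaf 0x1961708a10) (.leaf 0x0)))) (.node (.node (.node (.leaf 0x123051c1b4) (.leaf 0x1c722391fb)) (.node (.leaf 0x186135c7ea) (.leaf 0x0))) (.node (.node (.leaf 0x1830be0460) (.leaf 0x1f62bc1b1d)) (.node (.leaf 0x1a61a94c63) (.leaf 0x0)))))) (.node (.node (.node (.node (.node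 (.leaf 0xf40118060) (.leaf 0x1b51d74e51)) (.node (.leaf 0x1660e98593) (.leaf 0x0))) (.node (.node (.leaf 0x134079029f) (.leaf 0x1d325694a5)) (.node (.leaf 0x1961618982) (.leaf 0x0)))) (.node (.node (.node (.leaf 0x122043c169) (.leaf 0x1c5214d13b)) (.node (.leaf 0x182129c786) (.leaf 0x0))) (.node (.node (.leaf 0x1540af83fe) (.leaf 0x1f12a1d902)) (.node (.leaf 0x1a619acbbe) (.leaf 0x0))))) (.node (.node (.node (.node (.leaf 0xf702980e1) (.leaf 0x1c61f58fda)) (.node (.leaf 0x176107c674) (.leaf 0x0))) (.node (.node (.leaf 0x141094834b) (.leaf 0x1e327b16e1)) (.node (.leaf 0x1a117e0aaa) (.leaf 0x0)))) (.node (.node (.node (.leaf 0x12505dc1fe) (.leaf 0x1d42351314)) (.node (.leaf 0x187145c87c) (.leaf 0x0))) (.node (.node (.leaf 0x1620cac4c2) (.leaf 0x1f72d29c74)) (.node (.leaf 0x1b51b7cd0f) (.leaf 0x0))))))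
def Lv0T_63 : BT ℕ := .node (.node (.node (.node (.node (.node (.leaf 0xb300a4040) (.leaf 0x1b51cf8dfd)) (.node (.leaf 0x1650e1055a) (.leaf 0x2172fb6090))) (.node (.node (.leaf 0x1310718276) (.leaf 0x1d024f9443)) (.node (.leaf 0x19515a894b) (.leaf 0x0)))) (.node (.node (.node (.leaf 0x11203dc148) (.leaf 0x1c620d90e2)) (.node (.leaf 0x18111fc732) (.leaf 0x0))) (.node (.node (.leaf 0x1550a803d0) (.leaf 0x1e6298186f)) (.node (.leaf 0x1a51938b7a) (.leaf 0x0))))) (.node (.node (.node (.node (.leaf 0xf102400c1) (.leaf 0x1c31ef0f98)) (.node (.leaf 0x173101c642) (.leaf 0x0))) (.node (.node (.leaf 0x14408d031c) (.leaf 0x1e52721688)) (.node (.leaf 0x1911780a63) (.leaf 0x0)))) (.node (.node (.node (.leaf 0x12505701d7) (.leaf 0x1f722d529e)) (.node (.leaf 0x18213ec833) (.leaf 0x0))) (.node (.node (.leaf 0x1630c4c494) (.leaf 0x1f32c65b9e)) (.node (.leaf 0x1b51b14cd2) (.leaf 0x0)))))) (.node (.node (.node (.node (.node (.leaf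 0x1040164080) (.leaf 0x1c41de4e9d)) (.node (.leaf 0x1730f005ca) (.leaf 0x0))) (.node (.node (.leaf 0x14208082cc) (.leaf 0x1e625dd515)) (.node (.leaf 0x19616889ba) (.leaf 0x0)))) (.node (.node (.node (.leaf 0x127049818d) (.leaf 0x1d421b518e)) (.node (.leaf 0x18512fc7b8) (.leaf 0x0))) (.node (.node (.leaf 0x1520b6c42f) (.leaf 0x1f12b19a36)) (.node (.leaf 0x1a31a20c03) (.leaf 0x0))))) (.node (.node (.node (.node (.leaf 0x107030c103) (.leaf 0x1c61fe102a)) (.node (.leaf 0x17511106b4) (.leaf 0x0))) (.node (.node (.leaf 0x14609b8378) (.leaf 0x1e52865789)) (.node (.leaf 0x1a61844ae0) (.leaf 0x0)))) (.node (.node (.node (.leaf 0x1350654228) (.leaf 0x1d323c935d)) (.node (.leaf 0x19614c08c0) (.leaf 0x0))) (.node (.node (.leaf 0x1610d384f6) (.leaf 0x2032e1de22)) (.node (.leaf 0x1b61bf0d4f) (.leaf 0x0))))))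
def Lv0T : BT ℕ := .node (.node (.node (.node (.node (.node (Lv0T_0) (Lv0T_1)) (.node (Lv0T_2) (Lv0T_3))) (.node (.node (Lv0T_4) (Lv0T_5)) (.node (Lv0T_6) (Lv0T_7)))) (.node (.node (.node (Lv0T_8) (Lv0T_9)) (.node (Lv0T_10) (Lv0T_11))) (.node (.node (Lv0T_12) (Lv0T_13)) (.node (Lv0T_14) (Lv0T_15))))) (.node (.node (.node (.node (Lv0T_16) (Lv0T_17)) (.node (Lv0T_18) (Lv0T_19))) (.node (.node (Lv0T_20) (Lv0T_21)) (.node (Lv0T_22) (Lv0T_23)))) (.node (.node (.node (Lv0T_24) (Lv0T_25)) (.node (Lv0T_26) (Lv0T_27))) (.node (.node (Lv0T_28) (Lv0T_29)) (.node (Lv0T_30) (Lv0T_31)))))) (.node (.node (.node (.node (.node (Lv0T_32) (Lv0T_33)) (.node (Lv0T_34) (Lv0T_35))) (.node (.node (Lv0T_36) (Lv0T_37)) (.node (Lv0T_38) (Lv0T_39)))) (.node (.node (.node (Lv0T_40) (Lv0T_41)) (.node (Lv0T_42) (Lv0T_43))) (.node (.node (Lv0T_44) (Lv0T_45)) (.node (Lv0T_46) (Lv0T_47))))) (.node (.node (.node (.node (Lv0T_48) (Lv0T_49))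 (.node (Lv0T_50) (Lv0T_51))) (.node (.node (Lv0T_52) (Lv0T_53)) (.node (Lv0T_54) (Lv0T_55)))) (.node (.node (.node (Lv0T_56) (Lv0T_57)) (.node (Lv0T_58) (Lv0T_59))) (.node (.node (Lv0T_60) (Lv0T_61)) (.node (Lv0T_62) (Lv0T_63))))))
noncomputable def Lv0 : LTab := { n := 3159, b := 1, T := Lv0T }
theorem Lv0_c : allB (fun t => P.lvlOK Lv0 [0] t) 3159 = true := by decide +kernel
theorem Lv0_ok : ∀ t < Lv0.n, P.lvlOK Lv0 [0] t = true := allB_iff.mp Lv0_c
def Lv1T_0 : BT ℕ := .node (.node (.node (.node (.node (.node (.leaf 0x2) (.leaf 0x143038c3c8)) (.node (.leaf 0xf101a8108) (.leaf 0x0))) (.node (.node (.leaf 0xb400c8067) (.leaf 0x0)) (.node (.leaf 0x116029c223) (.leaf 0x0)))) (.node (.node (.node (.leaf 0x910060026) (.leaf 0x0)) (.node (.leaf 0x102021c182) (.leaf 0x0))) (.node (.node (.leaf 0xd701300b2) (.leaf 0x0)) (.node (.leaf 0x13203142e7) (.leaf 0x0))))) (.node (.node (.node (.node (.leaf 0x670024012) (.leaf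 0x14603c4446)) (.node (.leaf 0x10101e8150) (.leaf 0x0))) (.node (.node (.leaf 0xc700f808b) (.leaf 0x0)) (.node (.leaf 0x12402d4285) (.leaf 0x0)))) (.node (.node (.node (.leaf 0xa1008c044) (.leaf 0x0)) (.node (.leaf 0x11102581c2) (.leaf 0x0))) (.node (.node (.leaf 0xe401680dd) (.leaf 0x0)) (.node (.leaf 0x133034c34f) (.leaf 0x0)))))) (.node (.node (.node (.node (.node (.leaf 0x51001400a) (.leaf 0x14203ac428)) (.node (.leaf 0xf201c0125) (.leaf 0x0))) (.node (.node (.leaf 0xc700e0078) (.leaf 0x0)) (.node (.leaf 0x12102b4247) (.leaf 0x0)))) (.node (.node (.node (.leaf 0x940074034) (.leaf 0x0)) (.node (.leaf 0x11302401b4) (.leaf 0x0))) (.node (.node (.leaf 0xe701500c7) (.leaf 0x0)) (.node (.leaf 0x133032c2f5) (.leaf 0x0))))) (.node (.node (.node (.node (.leaf 0x82004401b) (.leaf 0x15103ec4c4)) (.node (.leaf 0x100020015b) (.leaf 0x0))) (.node (.node (.leaf 0xd0011c0a2) (.leaf 0x0)) (.node (.leaf 0x12102f42b0) (.leaf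 0x0)))) (.node (.node (.node (.leaf 0xb300ac053) (.leaf 0x0)) (.node (.leaf 0x11202741f7) (.leaf 0x0))) (.node (.node (.leaf 0xe401880f7) (.leaf 0x0)) (.node (.leaf 0x14403703a8) (.leaf 0x0))))))
def Lv1T_1 : BT ℕ := .node (.node (.node (.node (.node (.node (.leaf 0x330008006) (.leaf 0x14303983cd)) (.node (.leaf 0xf701b011f) (.leaf 0x0))) (.node (.node (.leaf 0xc300d806d) (.leaf 0x0)) (.node (.leaf 0x12702a423a) (.leaf 0x0)))) (.node (.node (.node (.leaf 0x97006402e) (.leaf 0x0)) (.node (.leaf 0x102022c19e) (.leaf 0x0))) (.node (.node (.leaf 0xd401480bf) (.leaf 0x0)) (.node (.leaf 0x13303202f1) (.leaf 0x0))))) (.node (.node (.node (.node (.leaf 0x760034017) (.leaf 0x15403dc4a9)) (.node (.leaf 0x10701f0157) (.leaf 0x0))) (.node (.node (.leaf 0xd10110094) (.leaf 0x0)) (.node (.leaf 0x12002e4293) (.leaf 0x0)))) (.node (.node (.node (.leaf 0xa7009804a) (.leaf 0x0)) (.node (.leaf 0x11202681eb) (.leaf 0x0))) (.node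 (.node (.leaf 0xe401780ee) (.leaf 0x0)) (.node (.leaf 0x1330360371) (.leaf 0x0)))))) (.node (.node (.node (.node (.node (.leaf 0x60002000e) (.leaf 0x14003b8438)) (.node (.leaf 0xf201d013d) (.leaf 0x0))) (.node (.node (.leaf 0xc200ec082) (.leaf 0x0)) (.node (.leaf 0x12302c024b) (.leaf 0x0)))) (.node (.node (.node (.leaf 0xa70080039) (.leaf 0x0)) (.node (.leaf 0x11402481bc) (.leaf 0x0))) (.node (.node (.leaf 0xe201600d8) (.leaf 0x0)) (.node (.leaf 0x1320340342) (.leaf 0x0))))) (.node (.node (.node (.node (.leaf 0x86004c022) (.leaf 0x15604004d9)) (.node (.leaf 0x107020c17a) (.leaf 0x0))) (.node (.node (.leaf 0xd201240a6) (.leaf 0x0)) (.node (.leaf 0x13703042d8) (.leaf 0x0)))) (.node (.node (.node (.leaf 0xb700b405c) (.leaf 0x0)) (.node (.leaf 0x11002841fd) (.leaf 0x0))) (.node (.node (.leaf 0xf4019c104) (.leaf 0x0)) (.node (.leaf 0x14103803bd) (.leaf 0x0))))))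
def Lv1T_2 : BT ℕ := .node (.node (.node (.node (.node (.node (.leaf 0x210004004) (.leaf 0x14003943cb)) (.node (.leaf 0xf101b011c) (.leaf 0x0))) (.node (.node (.leaf 0xb700cc069) (.leaf 0x0)) (.node (.leaf 0x12702a0237) (.leaf 0x0)))) (.node (.node (.node (.leaf 0x970060029) (.leaf 0x0)) (.node (.leaf 0x1000224184) (.leaf 0x0))) (.node (.node (.leaf 0xd7013c0ba) (.leaf 0x0)) (.node (.leaf 0x131031c2ed) (.leaf 0x0))))) (.node (.node (.node (.node (.leaf 0x760030015) (.leaf 0x15003d84a3)) (.node (.leaf 0x10701e8153) (.leaf 0x0))) (.node (.node (.leaf 0xc7010408f) (.leaf 0x0)) (.node (.leaf 0x12202dc28d) (.leaf 0x0)))) (.node (.node (.node (.leaf 0xa20094048) (.leaf 0x0)) (.node (.leaf 0x113025c1c4) (.leaf 0x0))) (.node (.node (.leaf 0xe401740e9) (.leaf 0x0)) (.node (.leaf 0x1360354355) (.leaf 0x0)))))) (.node (.node (.node (.node (.node (.leaf 0x56001400c) (.leaf 0x14003b4434)) (.node (.leaf 0xf701c8137) (.leaf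 0x0))) (.node (.node (.leaf 0xc200e807a) (.leaf 0x0)) (.node (.leaf 0x12102bc249) (.leaf 0x0)))) (.node (.node (.node (.leaf 0xa30080036) (.leaf 0x0)) (.node (.leaf 0x11702401b7) (.leaf 0x0))) (.node (.node (.leaf 0xe201580c9) (.leaf 0x0)) (.node (.leaf 0x13203382fa) (.leaf 0x0))))) (.node (.node (.node (.node (.leaf 0x87004401e) (.leaf 0x15303f04cb)) (.node (.leaf 0x1040208176) (.leaf 0x0))) (.node (.node (.leaf 0xd7011c0a4) (.leaf 0x0)) (.node (.leaf 0x12602fc2b7) (.leaf 0x0)))) (.node (.node (.node (.leaf 0xb400b0055) (.leaf 0x0)) (.node (.leaf 0x112027c1fb) (.leaf 0x0))) (.node (.node (.leaf 0xf20198101) (.leaf 0x0)) (.node (.leaf 0x14403783b2) (.leaf 0x0))))))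
def Lv1T_3 : BT ℕ := .node (.node (.node (.node (.node (.node (.leaf 0x44000c008) (.leaf 0x14203a43d2)) (.node (.leaf 0xf701b8123) (.leaf 0x0))) (.node (.node (.leaf 0xc400dc06f) (.leaf 0x0)) (.node (.leaf 0x12402ac241) (.leaf 0x0)))) (.node (.node (.node (.leaf 0x930070032) (.leaf 0x0)) (.node (.leaf 0x10202341a2) (.leaf 0x0))) (.node (.node (.leaf 0xe001500c5) (.leaf 0x0)) (.node (.leaf 0x13003282f3) (.leaf 0x0))))) (.node (.node (.node (.node (.leaf 0x730038019) (.leaf 0x15103e44b8)) (.node (.leaf 0x10201f8159) (.leaf 0x0))) (.node (.node (.leaf 0xd40114096) (.leaf 0x0)) (.node (.leaf 0x12102e8295) (.leaf 0x0)))) (.node (.node (.node (.leaf 0xb600a804d) (.leaf 0x0)) (.node (.leaf 0x114026c1f1) (.leaf 0x0))) (.node (.node (.leaf 0xe401800f0) (.leaf 0x0)) (.node (.leaf 0x141036c3a2) (.leaf 0x0)))))) (.node (.node (.node (.node (.node (.leaf 0x660020010) (.leaf 0x14303bc43d)) (.node (.leaf 0xf201d813f) (.leaf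 0x0))) (.node (.node (.leaf 0xc400f0084) (.leaf 0x0)) (.node (.leaf 0x12102cc24e) (.leaf 0x0)))) (.node (.node (.node (.leaf 0xa7008403e) (.leaf 0x0)) (.node (.leaf 0x11402501c0) (.leaf 0x0))) (.node (.node (.leaf 0xe401640db) (.leaf 0x0)) (.node (.leaf 0x131034834b) (.leaf 0x0))))) (.node (.node (.node (.node (.leaf 0x830050024) (.leaf 0x1530428554)) (.node (.leaf 0x1020214180) (.leaf 0x0))) (.node (.node (.leaf 0xd7012c0b0) (.leaf 0x0)) (.node (.leaf 0x137030c2de) (.leaf 0x0)))) (.node (.node (.node (.leaf 0xb200c0062) (.leaf 0x0)) (.node (.leaf 0x111029021a) (.leaf 0x0))) (.node (.node (.leaf 0xf401a0106) (.leaf 0x0)) (.node (.leaf 0x14003883c3) (.leaf 0x0))))))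
def Lv1T_4 : BT ℕ := .node (.node (.node (.node (.node (.node (.leaf 0x100000003) (.leaf 0x14603903ca)) (.node (.leaf 0xf001ac109) (.leaf 0x0))) (.node (.node (.leaf 0xb000cc068) (.leaf 0x0)) (.node (.leaf 0x12402a0235) (.leaf 0x0)))) (.node (.node (.node (.leaf 0x960060028) (.leaf 0x0)) (.node (.leaf 0x1010220183) (.leaf 0x0))) (.node (.node (.leaf 0xd401340b3) (.leaf 0x0)) (.node (.leaf 0x13203182ea) (.leaf 0x0))))) (.node (.node (.node (.node (.leaf 0x740030013) (.leaf 0x14603d0465)) (.node (.leaf 0x10401e8151) (.leaf 0x0))) (.node (.node (.leaf 0xc7010008d) (.leaf 0x0)) (.node (.leaf 0x12202d828a) (.leaf 0x0)))) (.node (.node (.node (.leaf 0xa7008c045) (.leaf 0x0)) (.node (.leaf 0x110025c1c3) (.leaf 0x0))) (.node (.node (.leaf 0xe2016c0de) (.leaf 0x0)) (.node (.leaf 0x1330350353) (.leaf 0x0)))))) (.node (.node (.node (.node (.node (.leaf 0x54001400b) (.leaf 0x14103b042e)) (.node (.leaf 0xf101c4126) (.leaf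 0x0))) (.node (.node (.leaf 0xc400e4079) (.leaf 0x0)) (.node (.leaf 0x12202b8248) (.leaf 0x0)))) (.node (.node (.node (.leaf 0x970078035) (.leaf 0x0)) (.node (.leaf 0x11402401b5) (.leaf 0x0))) (.node (.node (.leaf 0xe401540c8) (.leaf 0x0)) (.node (.leaf 0x13103342f7) (.leaf 0x0))))) (.node (.node (.node (.node (.leaf 0x86004401d) (.leaf 0x15003f04ca)) (.node (.leaf 0x103020015c) (.leaf 0x0))) (.node (.node (.leaf 0xd2011c0a3) (.leaf 0x0)) (.node (.leaf 0x12302f82b3) (.leaf 0x0)))) (.node (.node (.node (.leaf 0xb700ac054) (.leaf 0x0)) (.node (.leaf 0x11102781fa) (.leaf 0x0))) (.node (.node (.leaf 0xe201900fa) (.leaf 0x0)) (.node (.leaf 0x14203743ae) (.leaf 0x0))))))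
def Lv1T_5 : BT ℕ := .node (.node (.node (.node (.node (.node (.leaf 0x43000c007) (.leaf 0x14103a03cf)) (.node (.leaf 0xf401b4122) (.leaf 0x0))) (.node (.node (.leaf 0xc700d806e) (.leaf 0x0)) (.node (.leaf 0x12402a823e) (.leaf 0x0)))) (.node (.node (.node (.leaf 0x91006c031) (.leaf 0x0)) (.node (.leaf 0x10102301a1) (.leaf 0x0))) (.node (.node (.leaf 0xd2014c0c0) (.leaf 0x0)) (.node (.leaf 0x13103242f2) (.leaf 0x0))))) (.node (.node (.node (.node (.leaf 0x770034018) (.leaf 0x15203e04af)) (.node (.leaf 0x10401f4158) (.leaf 0x0))) (.node (.node (.leaf 0xd70110095) (.leaf 0x0)) (.node (.leaf 0x12302e4294) (.leaf 0x0)))) (.node (.node (.node (.leaf 0xa4009c04b) (.leaf 0x0)) (.node (.leaf 0x11702681ed) (.leaf 0x0))) (.node (.node (.leaf 0xe7017c0ef) (.leaf 0x0)) (.node (.leaf 0x1360364375) (.leaf 0x0)))))) (.node (.node (.node (.node (.node (.leaf 0x64002000f) (.leaf 0x14303b8439)) (.node (.leaf 0xf401d413e) (.leaf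 0x0))) (.node (.node (.leaf 0xc700ec083) (.leaf 0x0)) (.node (.leaf 0x12302c424c) (.leaf 0x0)))) (.node (.node (.node (.leaf 0xa3008403d) (.leaf 0x0)) (.node (.leaf 0x112024c1bf) (.leaf 0x0))) (.node (.node (.leaf 0xe701600da) (.leaf 0x0)) (.node (.leaf 0x1310344348) (.leaf 0x0))))) (.node (.node (.node (.node (.leaf 0x87004c023) (.leaf 0x153042454d)) (.node (.leaf 0x104021017d) (.leaf 0x0))) (.node (.node (.leaf 0xd2012c0ae) (.leaf 0x0)) (.node (.leaf 0x13403082dc) (.leaf 0x0)))) (.node (.node (.node (.leaf 0xb400b805d) (.leaf 0x0)) (.node (.leaf 0x112028c217) (.leaf 0x0))) (.node (.node (.leaf 0xf7019c105) (.leaf 0x0)) (.node (.leaf 0x14103843c0) (.leaf 0x0))))))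
def Lv1T_6 : BT ℕ := .node (.node (.node (.node (.node (.node (.leaf 0x320008005) (.leaf 0x14303943cc)) (.node (.leaf 0xf401b011d) (.leaf 0x0))) (.node (.node (.leaf 0xb400d006a) (.leaf 0x0)) (.node (.leaf 0x12202a4238) (.leaf 0x0)))) (.node (.node (.node (.leaf 0x93006402d) (.leaf 0x0)) (.node (.leaf 0x104022819b) (.leaf 0x0))) (.node (.node (.leaf 0xd401400bb) (.leaf 0x0)) (.node (.leaf 0x13003202f0) (.leaf 0x0))))) (.node (.node (.node (.node (.leaf 0x720034016) (.leaf 0x15703d84a5)) (.node (.leaf 0x10401ec156) (.leaf 0x0))) (.node (.node (.leaf 0xc40108090) (.leaf 0x0)) (.node (.leaf 0x12102e0290) (.leaf 0x0)))) (.node (.node (.node (.leaf 0xa10098049) (.leaf 0x0)) (.node (.leaf 0x11302601c5) (.leaf 0x0))) (.node (.node (.leaf 0xe701740eb) (.leaf 0x0)) (.node (.leaf 0x1300358356) (.leaf 0x0)))))) (.node (.node (.node (.node (.node (.leaf 0x57001800d) (.leaf 0x14303b4435)) (.node (.leaf 0xf401cc13a) (.leaf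 0x0))) (.node (.node (.leaf 0xc000ec081) (.leaf 0x0)) (.node (.leaf 0x12002c024a) (.leaf 0x0)))) (.node (.node (.node (.leaf 0xa60080038) (.leaf 0x0)) (.node (.leaf 0x11702441b9) (.leaf 0x0))) (.node (.node (.leaf 0xe1015c0ca) (.leaf 0x0)) (.node (.leaf 0x134033c33d) (.leaf 0x0))))) (.node (.node (.node (.node (.leaf 0x830048021) (.leaf 0x15603fc4d2)) (.node (.leaf 0x1070208178) (.leaf 0x0))) (.node (.node (.leaf 0xd401200a5) (.leaf 0x0)) (.node (.leaf 0x13203042d6) (.leaf 0x0)))) (.node (.node (.node (.leaf 0xb100b405b) (.leaf 0x0)) (.node (.leaf 0x11102801fc) (.leaf 0x0))) (.node (.node (.leaf 0xf70198103) (.leaf 0x0)) (.node (.leaf 0x142037c3b7) (.leaf 0x0))))))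
def Lv1T_7 : BT ℕ := .node (.node (.node (.node (.node (.node (.leaf 0x460010009) (.leaf 0x14403a83d5)) (.node (.leaf 0xf401bc124) (.leaf 0x0))) (.node (.node (.leaf 0xc100e0077) (.leaf 0x0)) (.node (.leaf 0x12202b0244) (.leaf 0x0)))) (.node (.node (.node (.leaf 0x970070033) (.leaf 0x0)) (.node (.leaf 0x103023c1a7) (.leaf 0x0))) (.node (.node (.leaf 0xe201500c6) (.leaf 0x0)) (.node (.leaf 0x13303282f4) (.leaf 0x0))))) (.node (.node (.node (.node (.leaf 0x77003c01a) (.leaf 0x15203e84be)) (.node (.leaf 0x10101fc15a) (.leaf 0x0))) (.node (.node (.leaf 0xd20118097) (.leaf 0x0)) (.node (.leaf 0x12002ec296) (.leaf 0x0)))) (.node (.node (.node (.leaf 0xb700a804e) (.leaf 0x0)) (.node (.leaf 0x11402701f4) (.leaf 0x0))) (.node (.node (.leaf 0xe201840f1) (.leaf 0x0)) (.node (.leaf 0x147036c3a4) (.leaf 0x0)))))) (.node (.node (.node (.node (.node (.leaf 0x660024011) (.leaf 0x14603c043f)) (.node (.leaf 0xf101e4147) (.leaf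 0x0))) (.node (.node (.leaf 0xc400f808a) (.leaf 0x0)) (.node (.leaf 0x12702d0281) (.leaf 0x0)))) (.node (.node (.node (.leaf 0xa4008803f) (.leaf 0x0)) (.node (.leaf 0x11202541c1) (.leaf 0x0))) (.node (.node (.leaf 0xe701640dc) (.leaf 0x0)) (.node (.leaf 0x130034c34e) (.leaf 0x0))))) (.node (.node (.node (.node (.leaf 0x870050025) (.leaf 0x156042c556)) (.node (.leaf 0x1040218181) (.leaf 0x0))) (.node (.node (.leaf 0xd401300b1) (.leaf 0x0)) (.node (.leaf 0x13403102e2) (.leaf 0x0)))) (.node (.node (.node (.leaf 0xb700c0063) (.leaf 0x0)) (.node (.leaf 0x113029421d) (.leaf 0x0))) (.node (.node (.leaf 0xf201a4107) (.leaf 0x0)) (.node (.leaf 0x14303883c4) (.leaf 0x0))))))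
def Lv1T : BT ℕ := .node (.node (.node (Lv1T_0) (Lv1T_1)) (.node (Lv1T_2) (Lv1T_3))) (.node (.node (Lv1T_4) (Lv1T_5)) (.node (Lv1T_6) (Lv1T_7)))
noncomputable def Lv1 : LTab := { n := 288, b := 2, T := Lv1T }
theorem Lv1_c : allB (fun t => P.lvlOK Lv1 [1, 0] t) 288 = true := by decide +kernel
theorem Lv1_ok : ∀ t < Lv1.n, P.lvlOK Lv1 [1, 0] t = true := allB_iff.mp Lv1_c
def Lv2T : BT ℕ := .node (.node (.node (.node (.node (.node (.leaf 0x3) (.leaf 0xa4007406a)) (.node (.leaf 0x66002c017) (.leaf 0x0))) (.node (.node (.leaf 0x44001000b) (.leaf 0x0)) (.node (.leaf 0x830050032) (.leaf 0x0)))) (.node (.node (.node (.leaf 0x330008007) (.leaf 0x0)) (.node (.leaf 0x76003c022) (.leaf 0x0))) (.node (.node (.leaf 0x56001c010) (.leaf 0x0)) (.node (.leaf 0x910060049) (.leaf 0x0))))) (.node (.node (.node (.node (.leaf 0x220004005) (.leaf 0xc200840c0)) (.node (.leaf 0x630030019) (.leaf 0x0))) (.node (.node (.leaf 0x47001400d)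 (.leaf 0x0)) (.node (.leaf 0x840054034) (.leaf 0x0)))) (.node (.node (.node (.leaf 0x36000c009) (.leaf 0x0)) (.node (.leaf 0x730040024) (.leaf 0x0))) (.node (.node (.leaf 0x570020012) (.leaf 0x0)) (.node (.leaf 0x94006404b) (.leaf 0x0)))))) (.node (.node (.node (.node (.node (.leaf 0x110000004) (.leaf 0xb4007c090)) (.node (.leaf 0x67002c018) (.leaf 0x0))) (.node (.node (.leaf 0x46001000c) (.leaf 0x0)) (.node (.leaf 0x870050033) (.leaf 0x0)))) (.node (.node (.node (.leaf 0x340008008) (.leaf 0x0)) (.node (.leaf 0x77003c023) (.leaf 0x0))) (.node (.node (.leaf 0x560020011) (.leaf 0x0)) (.node (.leaf 0x97006004a) (.leaf 0x0))))) (.node (.node (.node (.node (.leaf 0x230004006) (.leaf 0x0)) (.node (.leaf 0x67003401a) (.leaf 0x0))) (.node (.node (.leaf 0x54001c00f) (.leaf 0x0)) (.node (.leaf 0x870058035) (.leaf 0x0)))) (.node (.node (.node (.leaf 0x41001000a) (.leaf 0x0)) (.node (.leaf 0x770040025) (.leaf 0x0))) (.node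 (.node (.leaf 0x62002c016) (.leaf 0x0)) (.node (.leaf 0xa70070069) (.leaf 0x0))))))
noncomputable def Lv2 : LTab := { n := 35, b := 3, T := Lv2T }
theorem Lv2_c : allB (fun t => P.lvlOK Lv2 [2, 1, 0] t) 35 = true := by decide +kernel
theorem Lv2_ok : ∀ t < Lv2.n, P.lvlOK Lv2 [2, 1, 0] t = true := allB_iff.mp Lv2_c
def Lv3T : BT ℕ := .node (.node (.node (.node (.leaf 0x4) (.leaf 0x37001000d)) (.node (.leaf 0x240004008) (.leaf 0x0))) (.node (.node (.leaf 0x130000006) (.leaf 0x470018012)) (.node (.leaf 0x34000c00b) (.leaf 0x0)))) (.node (.node (.node (.leaf 0x120000005) (.leaf 0x460018011)) (.node (.leaf 0x260008009) (.leaf 0x0))) (.node (.node (.leaf 0x230004007) (.leaf 0x57002401a)) (.node (.leaf 0x36000c00c) (.leaf 0x0))))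
noncomputable def Lv3 : LTab := { n := 12, b := 4, T := Lv3T }
theorem Lv3_c : allB (fun t => P.lvlOK Lv3 [3, 2, 1, 0] t) 12 = true := by decide +kernel
theorem Lv3_ok : ∀ t < Lv3.n, P.lvlOK Lv3 [3, 2, 1, 0] t = true := allB_iff.mp Lv3_c
def Lv4T : BT ℕ := .node (.node (.leaf 0x240004005) (.leaf 0xd)) (.node (.leaf 0x170008008) (.leaf 0x0))
noncomputable def Lv4 : LTab := { n := 3, b := 13, T := Lv4T }
theorem Lv4_c : allB (fun t => P.lvlOK Lv4 [4, 3, 2, 1, 0] t) 3 = true := by decide +kernel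
theorem Lv4_ok : ∀ t < Lv4.n, P.lvlOK Lv4 [4, 3, 2, 1, 0] t = true := allB_iff.mp Lv4_c
def Lv5T : BT ℕ := .node (.leaf 0x140004005) (.leaf 0x8)
noncomputable def Lv5 : LTab := { n := 2, b := 8, T := Lv5T }
theorem Lv5_c : allB (fun t => P.lvlOK Lv5 [13, 4, 3, 2, 1, 0] t) 2 = true := by decide +kernel
theorem Lv5_ok : ∀ t < Lv5.n, P.lvlOK Lv5 [13, 4, 3, 2, 1, 0] t = true := allB_iff.mp Lv5_c
def Lv6T : BT ℕ := .node (.leaf 0x160004006) (.leaf 0x9)
noncomputable def Lv6 : LTab := { n := 2, b := 9, T := Lv6T }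
theorem Lv6_c : allB (fun t => P.lvlOK Lv6 [8, 13, 4, 3, 2, 1, 0] t) 2 = true := by decide +kernel
theorem Lv6_ok : ∀ t < Lv6.n, P.lvlOK Lv6 [8, 13, 4, 3, 2, 1, 0] t = true := allB_iff.mp Lv6_c
def base : List ℕ := [9, 8, 13, 4, 3, 2, 1, 0]
theorem lower {Γ : Type*} [Group Γ] [Finite Γ] {s : ℕ → Γ} {ρ : Γ →* Equiv.Perm ℕ}
    (hρ : ∀ k < P.A, ρ (s k) = PTab.sig good k) : 64561751654400 * Nat.card (fixer ρ base) ≤ Nat.card Γ := by
  have t1 := (PTab.orb_spec (s := s) good hρ (Sw := SwG) (by decide +kernel) (lo := 0) (hi := 14080) le_rfl orbG).2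
  have h0 : 14080 * Nat.card (fixer ρ [0]) ≤ Nat.card (fixer ρ []) :=
    level_lower [] 0 14080 (fun t => t) (fun _ _ _ _ h => h) (fun t ht => by
      obtain ⟨g, -, hg⟩ := t1 t (Nat.zero_le _) ht
      exact ⟨g, by rw [fixer_nil]; trivial, hg⟩)
  have h1 : 3159 * Nat.card (fixer ρ [1, 0]) ≤ Nat.card (fixer ρ [0]) := PTab.lvl_lower good hρ [0] Lv0_ok
  have h2 : 288 * Nat.card (fixer ρ [2, 1, 0]) ≤ Nat.card (fixer ρ [1, 0]) := PTab.lvl_lower good hρ [1, 0] Lv1_ok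
  have h3 : 35 * Nat.card (fixer ρ [3, 2, 1, 0]) ≤ Nat.card (fixer ρ [2, 1, 0]) := PTab.lvl_lower good hρ [2, 1, 0] Lv2_ok
  have h4 : 12 * Nat.card (fixer ρ [4, 3, 2, 1, 0]) ≤ Nat.card (fixer ρ [3, 2, 1, 0]) := PTab.lvl_lower good hρ [3, 2, 1, 0] Lv3_ok
  have h5 : 3 * Nat.card (fixer ρ [13, 4, 3, 2, 1, 0]) ≤ Nat.card (fixer ρ [4, 3, 2, 1, 0]) := PTab.lvl_lower good hρ [4, 3, 2, 1, 0] Lv4_ok
  have h6 : 2 * Nat.card (fixer ρ [8, 13, 4, 3, 2, 1, 0]) ≤ Nat.card (fixer ρ [13, 4, 3, 2, 1, 0]) := PTab.lvl_lower good hρ [13, 4, 3, 2, 1, 0] Lv5_ok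
  have h7 : 2 * Nat.card (fixer ρ [9, 8, 13, 4, 3, 2, 1, 0]) ≤ Nat.card (fixer ρ [8, 13, 4, 3, 2, 1, 0]) := PTab.lvl_lower good hρ [8, 13, 4, 3, 2, 1, 0] Lv6_ok
  have e : Nat.card (fixer ρ []) = Nat.card Γ := by rw [fixer_nil]; exact Nat.card_congr Subgroup.topEquiv.toEquiv
  rw [← e]
  show 64561751654400 * Nat.card (fixer ρ [9, 8, 13, 4, 3, 2, 1, 0]) ≤ _
  generalize Nat.card (fixer ρ []) = c0 at *
  generalize Nat.card (fixer ρ [0]) = c1 at *
  generalize Nat.card (fixer ρ [1, 0]) = c2 at *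
  generalize Nat.card (fixer ρ [2, 1, 0]) = c3 at *
  generalize Nat.card (fixer ρ [3, 2, 1, 0]) = c4 at *
  generalize Nat.card (fixer ρ [4, 3, 2, 1, 0]) = c5 at *
  generalize Nat.card (fixer ρ [13, 4, 3, 2, 1, 0]) = c6 at *
  generalize Nat.card (fixer ρ [8, 13, 4, 3, 2, 1, 0]) = c7 at *
  generalize Nat.card (fixer ρ [9, 8, 13, 4, 3, 2, 1, 0]) = c8 at *
  omega
end Cfsg.Agent.Lib.Helper40.PE.F22P14080
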