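import Cfsg.Agent.Lib.Helper40.Fi.F22P14080
import Cfsg.Agent.Lib.Helper40.PresOrder
set_option autoImplicit false
set_option maxRecDepth 100000
namespace Cfsg.Agent.Lib.Helper40.PE.F22P14080
noncomputable def mov_p : ℕ → Bool := fun i => (P.movOK 8) (Nat.add 1 i)
theorem mov_c0 : allB (fun i => mov_p (Nat.add 0 i)) 3000 = true := by decide +kernel
theorem mov_c1 : allB (fun i => mov_p (Nat.add 3000 i)) 3000 = true := by decide +kernel
theorem mov_c2 : allB (fun i => mov_p (Nat.add 6000 i)) 3000 = true := by decide +kernel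
theorem mov_c3 : allB (fun i => mov_p (Nat.add 9000 i)) 3000 = true := by decide +kernel
theorem mov_c4 : allB (fun i => mov_p (Nat.add 12000 i)) 2079 = true := by decide +kernel
theorem mov_a0 : ∀ u < 0, mov_p u = true := allB_base
theorem mov_a1 : ∀ u < 3000, mov_p u = true := allB_extend (p := mov_p) mov_a0 mov_c0
theorem mov_a2 : ∀ u < 6000, mov_p u = true := allB_extend (p := mov_p) mov_a1 mov_c1
theorem mov_a3 : ∀ u < 9000, mov_p u = true := allB_extend (p := mov_p) mov_a2 mov_c2
theorem mov_a4 : ∀ u < 12000, mov_p u = true := allB_extend (p := mov_p) mov_a3 mov_c3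
theorem mov_a5 : ∀ u < 14079, mov_p u = true := allB_extend (p := mov_p) mov_a4 mov_c4
theorem mov : ∀ u, 1 ≤ u → u < 14080 → (P.movOK 8) u = true := by
  intro u h1 h2
  have h3 := mov_a5 (u - 1) (by omega)
  have e : Nat.add 1 (u - 1) = u := by show 1 + (u - 1) = u; omega
  unfold mov_p at h3
  rw [e] at h3; exact h3
theorem fix0 : ∀ k < 8, P.pe 0 k = 0 := by decide +kernel
end Cfsg.Agent.Lib.Helper40.PE.F22P14080
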