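import Cfsg.Agent.Lib.Helper40.PresY
set_option autoImplicit false
set_option maxRecDepth 100000
namespace Cfsg.Agent.Lib.Helper40.PE.L3
def T : BT ℕ := .node (.node (.leaf 0x1e000000002010000405c30) (.leaf 0x1e048500a10008000108ca3)) (.node (.leaf 0x1e080800200000200220951) (.leaf 0x1e010200a0402800032edaa))
def B : List (List ℕ) := coxB 3 mY ++ []
def Sw : List (List ℕ) := [[0], [1]]
noncomputable def cert : Cert := { N := 4, M := 4, A := 3, tb := 3, mT := 7, W := 7, mW := 127, RM := 15, oJ := 21, WJ := 18, mJ := 262143, oP := 75, oG := 78, oC := 82, oK := 89, T := T, R := rotOf B, S := splitOf Sw }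
theorem chk0 : allB (fun i => cert.nodeOK (Nat.add 0 i)) 4 = true := by decide +kernel
theorem chkA0 : ∀ u < 0, cert.nodeOK u = true := allB_base
theorem chkA1 : ∀ u < 4, cert.nodeOK u = true := allB_extend (p := cert.nodeOK) chkA0 chk0
theorem chk : ∀ u < cert.M, cert.nodeOK u = true := chkA1
theorem cov {G : Type*} [Group G] {s : ℕ → G} (hinv : ∀ k, s k * s k = 1) (hB : ∀ b ∈ B, wp s b = 1) (H : Subgroup G) (hH : ∀ w ∈ Sw, wp s w ∈ H) (g : G) (hg : g ∈ pre s 3) : ∃ u < 4, (g : G ⧸ H) = cert.cos s H u :=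
  cover' (c := cert) (B := B) (Sw := Sw) rfl rfl (by decide) (by decide) (by decide) chk hinv hB hH g hg
end Cfsg.Agent.Lib.Helper40.PE.L3
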