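import Cfsg.Agent.Lib.Helper40.PresY
set_option autoImplicit false
set_option maxRecDepth 100000
namespace Cfsg.Agent.Lib.Helper40.PE.L4
def T : BT ℕ := .node (.node (.node (.leaf 0x3f0000000008020100800020052044100) (.leaf 0x3f0221601450010c004000165072510f5)) (.node (.leaf 0x3f0110e01400000a00400005c8640c443) (.leaf 0x3f0150000030050a004080131de62d556))) (.node (.node (.leaf 0x3f0301e004580100000180104131089c1) (.leaf 0x3f02306014500100000100169493298e4)) (.node (.leaf 0x3f00206014000002014000160c8574c52) (.leaf 0x3f0361e00458010e0041801359f76dd67)))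
def B : List (List ℕ) := coxB 4 mY ++ []
def Sw : List (List ℕ) := [[0], [1], [2]]
noncomputable def cert : Cert := { N := 8, M := 8, A := 4, tb := 4, mT := 15, W := 10, mW := 1023, RM := 63, oJ := 40, WJ := 18, mJ := 262143, oP := 112, oG := 116, oC := 120, oK := 130, T := T, R := rotOf B, S := splitOf Sw }
theorem chk0 : allB (fun i => cert.nodeOK (Nat.add 0 i)) 8 = true := by decide +kernel
theorem chkA0 : ∀ u < 0, cert.nodeOK u = true := allB_base
theorem chkA1 : ∀ u < 8, cert.nodeOK u = true := allB_extend (p := cert.nodeOK) chkA0 chk0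
theorem chk : ∀ u < cert.M, cert.nodeOK u = true := chkA1
theorem cov {G : Type*} [Group G] {s : ℕ → G} (hinv : ∀ k, s k * s k = 1) (hB : ∀ b ∈ B, wp s b = 1) (H : Subgroup G) (hH : ∀ w ∈ Sw, wp s w ∈ H) (g : G) (hg : g ∈ pre s 4) : ∃ u < 8, (g : G ⧸ H) = cert.cos s H u :=
  cover' (c := cert) (B := B) (Sw := Sw) rfl rfl (by decide) (by decide) (by decide) chk hinv hB hH g hg
end Cfsg.Agent.Lib.Helper40.PE.L4
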