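import Cfsg.Agent.Lib.Helper40.PresY
set_option autoImplicit false
set_option maxRecDepth 100000
namespace Cfsg.Agent.Lib.Helper40.PE.L5
def T : BT ℕ := .node (.node (.node (.node (.leaf 0x3f000000000c0202008040200008015c16054140) (.leaf 0x3f0270000068051800438010400509c20f7aa1c8)) (.node (.leaf 0x3f003080140000040140805000060429a74b9073) (.leaf 0x0))) (.node (.node (.leaf 0x3f0211c014680518004000004005e26483110ed2) (.leaf 0x0)) (.node (.leaf 0x3f03408014900104014000006006262d29631d25) (.leaf 0x0)))) (.node (.node (.node (.leaf 0x3f040300049801000004801080041060422946c1) (.leaf 0x3f0483000498011c00448010800518c6649ae5d9)) (.node (.leaf 0x3f0332601490011a0044001000061524e8569536) (.leaf 0x0))) (.node (.node (.leaf 0x3f0121201400000e014300100001f32166314864) (.leaf 0x0)) (.node (.leaf 0x3f0161201440050000030010200637bdce8359b7) (.leaf 0x0))))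
def B : List (List ℕ) := coxB 5 mY ++ []
def Sw : List (List ℕ) := [[0], [1], [2], [3]]
noncomputable def cert : Cert := { N := 10, M := 10, A := 5, tb := 4, mT := 15, W := 10, mW := 1023, RM := 63, oJ := 50, WJ := 18, mJ := 262143, oP := 140, oG := 144, oC := 148, oK := 158, T := T, R := rotOf B, S := splitOf Sw }
theorem chk0 : allB (fun i => cert.nodeOK (Nat.add 0 i)) 10 = true := by decide +kernel
theorem chkA0 : ∀ u < 0, cert.nodeOK u = true := allB_base
theorem chkA1 : ∀ u < 10, cert.nodeOK u = true := allB_extend (p := cert.nodeOK) chkA0 chk0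
theorem chk : ∀ u < cert.M, cert.nodeOK u = true := chkA1
theorem cov {G : Type*} [Group G] {s : ℕ → G} (hinv : ∀ k, s k * s k = 1) (hB : ∀ b ∈ B, wp s b = 1) (H : Subgroup G) (hH : ∀ w ∈ Sw, wp s w ∈ H) (g : G) (hg : g ∈ pre s 5) : ∃ u < 10, (g : G ⧸ H) = cert.cos s H u :=
  cover' (c := cert) (B := B) (Sw := Sw) rfl rfl (by decide) (by decide) (by decide) chk hinv hB hH g hg
end Cfsg.Agent.Lib.Helper40.PE.L5
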