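import Cfsg.Agent.Lib.Helper40.PresY
set_option autoImplicit false
set_option maxRecDepth 100000
namespace Cfsg.Agent.Lib.Helper40.PE.L6
def T : BT ℕ := .node (.node (.node (.node (.node (.leaf 0xff00000000040080c02020080402000080029804b02501240900) (.leaf 0xff02b118013a00478051c00450010a0047d87cd7c820ca1e1370)) (.node (.leaf 0xff009858050000048051001438010000259028b7042f203cc24a) (.leaf 0xff00dc580514014480500000380102005630d589fc1864beef38))) (.node (.node (.leaf 0xff010c88050000000001c0044001040064c81870a3038db89004) (.leaf 0xff02c5180114014a801100145801000009e2c9445ac4510a4556)) (.node (.leaf 0xff02280000380041805000005001080047a02ea7360e3e15874b) (.leaf 0x0)))) (.node (.node (.node (.leaf 0xff00042805080141805040140000000064449c25c13688106061) (.leaf 0xff02bd18013a004b801220043801040048dec7276920410e9392)) (.node (.leaf 0xff002000000000018050401408050000461a2cc7152faa114268) (.leaf 0xff0264e80538004b001200045001080056b4679a1d35ea3f4f7a))) (.node (.node (.leaf 0xff0190880500000a8011e00400000400654c2090b21a14391046) (.leaf 0xff0050280508014a801040140805000055accd647bc4da7ac574))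 (.node (.leaf 0xff012c88052001478051c00440010000669cc0e7470dad4dc7af) (.leaf 0x0))))) (.node (.node (.node (.node (.leaf 0xff028118013a004b801220045801000000409a15b0b605f82042) (.leaf 0xff00bc0000140140000220043801020049a8c51249c5c485ea91)) (.node (.leaf 0xff0218e80538004b0011e0043801080065d2226363a924e57069) (.leaf 0xff016088050000078051c00440010400567265aa0c98e23b2f59))) (.node (.node (.leaf 0xff018cb8052c014a8011c00448010600650aa050919a9974b025) (.leaf 0xff02cd18012c014b8011e004580100000a66cf544a4555e2a597)) (.node (.leaf 0xff02a9180138004b001200045801080046547f07d6b2b619b3ad) (.leaf 0x0)))) (.node (.node (.node (.leaf 0xff00885805140140000000003801020064869e30828310144fe3) (.leaf 0xff01c400003a004a8011e004480106004a2ad33258c64dde6ab3)) (.node (.leaf 0xff0220580538004b001000005001000066162a87258d38e1276c) (.leaf 0x0))) (.node (.node (.leaf 0xff0210b80538004a8012000450010600664e1a4374a89dbcf207) (.leaf 0xff0054b805080141805040140000000055eed1746b46dcbb05b5)) (.node (.leaf 0xff013000000801418051c0040000040048a4c2f7578eb082278e) (.leaf 0x0)))))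
def B : List (List ℕ) := coxB 6 mY ++ []
def Sw : List (List ℕ) := [[0], [1], [2], [3], [4]]
noncomputable def cert : Cert := { N := 27, M := 27, A := 6, tb := 5, mT := 31, W := 13, mW := 8191, RM := 255, oJ := 78, WJ := 18, mJ := 262143, oP := 186, oG := 191, oC := 195, oK := 208, T := T, R := rotOf B, S := splitOf Sw }
theorem chk0 : allB (fun i => cert.nodeOK (Nat.add 0 i)) 27 = true := by decide +kernel
theorem chkA0 : ∀ u < 0, cert.nodeOK u = true := allB_base
theorem chkA1 : ∀ u < 27, cert.nodeOK u = true := allB_extend (p := cert.nodeOK) chkA0 chk0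
theorem chk : ∀ u < cert.M, cert.nodeOK u = true := chkA1
theorem cov {G : Type*} [Group G] {s : ℕ → G} (hinv : ∀ k, s k * s k = 1) (hB : ∀ b ∈ B, wp s b = 1) (H : Subgroup G) (hH : ∀ w ∈ Sw, wp s w ∈ H) (g : G) (hg : g ∈ pre s 6) : ∃ u < 27, (g : G ⧸ H) = cert.cos s H u :=
  cover' (c := cert) (B := B) (Sw := Sw) rfl rfl (by decide) (by decide) (by decide) chk hinv hB hH g hg
end Cfsg.Agent.Lib.Helper40.PE.L6
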