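/-
helper40: upper bounds for the orders of the groups generated by an initial segment of the
generators c d e h f b i g a j of a Y-diagram group.
-/
import Cfsg.Agent.Lib.Helper40.Fi.L1
import Cfsg.Agent.Lib.Helper40.Fi.L2
import Cfsg.Agent.Lib.Helper40.Fi.L3
import Cfsg.Agent.Lib.Helper40.Fi.L4
import Cfsg.Agent.Lib.Helper40.Fi.L5
import Cfsg.Agent.Lib.Helper40.Fi.L6
import Cfsg.Agent.Lib.Helper40.Fi.L7
import Cfsg.Agent.Lib.Helper40.Fi.L8a
import Cfsg.Agent.Lib.Helper40.Fi.L8b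
import Cfsg.Agent.Lib.Helper40.Fi.L9

set_option autoImplicit false

namespace Cfsg.Agent.Lib.Helper40.PE

variable {G : Type*} [Group G] {s : ℕ → G}

theorem chain_step {A N U : ℕ} {f : ℕ → G ⧸ pre s A}
    (hcov : ∀ g ∈ pre s (A + 1), ∃ u < N, (g : G ⧸ pre s A) = f u)
    (h : Finite (pre s A) ∧ Nat.card (pre s A) ≤ U) :
    Finite (pre s (A + 1)) ∧ Nat.card (pre s (A + 1)) ≤ N * U := by
  haveI := h.1
  obtain ⟨h1, h2⟩ := card_le_of_cover (K := pre s (A + 1)) f hcov
  exact ⟨h1, h2.trans (Nat.mul_le_mul_left _ h.2)⟩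

theorem letters_mem {A : ℕ} {Sw : List (List ℕ)} (h : Sw = (List.range A).map fun k => [k]) :
    ∀ w ∈ Sw, wp s w ∈ pre s A := by
  intro w hw
  rw [h] at hw
  simp only [List.mem_map, List.mem_range] at hw
  obtain ⟨k, hk, rfl⟩ := hw
  simpa using s_mem_pre s hk

theorem coxB_le {A A' : ℕ} (hA : A ≤ A') (hcox : ∀ i < A', ∀ j < A', (s i * s j) ^ mY i j = 1) :
    ∀ b ∈ coxB A mY, wp s b = 1 :=
  wp_coxB s fun i hi j hj => hcox i (lt_of_lt_of_le hi hA) j (lt_of_lt_of_le hj hA)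

theorem mem_app {B E : List (List ℕ)} (h1 : ∀ b ∈ B, wp s b = 1) (h2 : ∀ b ∈ E, wp s b = 1) :
    ∀ b ∈ B ++ E, wp s b = 1 := by
  intro b hb
  rcases List.mem_append.mp hb with h | h
  · exact h1 b h
  · exact h2 b h

/-- the Weyl group of type E₆ -/
theorem card_pre6 (hinv : ∀ k, s k * s k = 1) (hcox : ∀ i < 6, ∀ j < 6, (s i * s j) ^ mY i j = 1) :
    Finite (pre s 6) ∧ Nat.card (pre s 6) ≤ 51840 := by
  have h0 : Finite (pre s 0) ∧ Nat.card (pre s 0) ≤ 1 := by
    rw [pre_zero]; exact ⟨inferInstance, by simp⟩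
  have h1 := chain_step (L1.cov hinv (mem_app (coxB_le (by norm_num) hcox) (by simp)) (pre s 0)
    (letters_mem (by decide))) h0
  have h2 := chain_step (L2.cov hinv (mem_app (coxB_le (by norm_num) hcox) (by simp)) (pre s 1)
    (letters_mem (by decide))) h1
  have h3 := chain_step (L3.cov hinv (mem_app (coxB_le (by norm_num) hcox) (by simp)) (pre s 2)
    (letters_mem (by decide))) h2
  have h4 := chain_step (L4.cov hinv (mem_app (coxB_le (by norm_num) hcox) (by simp)) (pre s 3)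
    (letters_mem (by decide))) h3
  have h5 := chain_step (L5.cov hinv (mem_app (coxB_le (by norm_num) hcox) (by simp)) (pre s 4)
    (letters_mem (by decide))) h4
  have h6 := chain_step (L6.cov hinv (mem_app (coxB_le (by norm_num) hcox) (by simp)) (pre s 5)
    (letters_mem (by decide))) h5
  exact ⟨h6.1, h6.2.trans (by norm_num)⟩

theorem card_pre7 (hinv : ∀ k, s k * s k = 1) (hcox : ∀ i < 7, ∀ j < 7, (s i * s j) ^ mY i j = 1)
    (hsp : wp s (List.replicate 10 [1, 0, 5, 1, 2, 4, 1, 3, 6]).flatten = 1) :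
    Finite (pre s 7) ∧ Nat.card (pre s 7) ≤ 243 * 51840 :=
  chain_step (L7.cov hinv (mem_app (coxB_le le_rfl hcox) (by simpa using hsp)) (pre s 6)
    (letters_mem (by decide)))
    (card_pre6 hinv fun i hi j hj => hcox i (by omega) j (by omega))

/-- `O₇(3)` -/
theorem card_pre8a (hinv : ∀ k, s k * s k = 1) (hcox : ∀ i < 8, ∀ j < 8, (s i * s j) ^ mY i j = 1)
    (hsp : wp s (List.replicate 10 [1, 0, 5, 1, 2, 4, 1, 3, 6]).flatten = 1)
    (he : wp s (List.replicate 9 [5, 0, 1, 2, 4, 7, 3]).flatten = 1) :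
    Finite (pre s 8) ∧ Nat.card (pre s 8) ≤ 364 * (243 * 51840) :=
  chain_step (L8a.cov hinv (mem_app (coxB_le le_rfl hcox) (by
      intro b hb
      simp only [List.mem_cons, List.not_mem_nil, or_false] at hb
      rcases hb with rfl | rfl
      · exact hsp
      · exact he)) (pre s 7) (letters_mem (by decide)))
    (card_pre7 hinv (fun i hi j hj => hcox i (by omega) j (by omega)) hsp)

/-- `2 × O₇(3)` -/
theorem card_pre8b (hinv : ∀ k, s k * s k = 1) (hcox : ∀ i < 8, ∀ j < 8, (s i * s j) ^ mY i j = 1)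
    (hsp : wp s (List.replicate 10 [1, 0, 5, 1, 2, 4, 1, 3, 6]).flatten = 1) :
    Finite (pre s 8) ∧ Nat.card (pre s 8) ≤ 728 * (243 * 51840) :=
  chain_step (L8b.cov hinv (mem_app (coxB_le le_rfl hcox) (by simpa using hsp)) (pre s 7)
    (letters_mem (by decide)))
    (card_pre7 hinv (fun i hi j hj => hcox i (by omega) j (by omega)) hsp)

theorem L9_rel (hcox : ∀ i < 9, ∀ j < 9, (s i * s j) ^ mY i j = 1)
    (hsp : wp s (List.replicate 10 [1, 0, 5, 1, 2, 4, 1, 3, 6]).flatten = 1)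
    (he : wp s (List.replicate 9 [8, 5, 0, 1, 2, 4, 3]).flatten = 1) : ∀ b ∈ L9.B, wp s b = 1 :=
  mem_app (coxB_le le_rfl hcox) (by
      intro b hb
      simp only [List.mem_cons, List.not_mem_nil, or_false] at hb
      rcases hb with rfl | rfl
      · exact hsp
      · exact he)

/-- `Fi₂₂` -/
theorem card_pre9a (hinv : ∀ k, s k * s k = 1) (hcox : ∀ i < 9, ∀ j < 9, (s i * s j) ^ mY i j = 1)
    (hsp : wp s (List.replicate 10 [1, 0, 5, 1, 2, 4, 1, 3, 6]).flatten = 1)
    (he : wp s (List.replicate 9 [8, 5, 0, 1, 2, 4, 3]).flatten = 1)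
    (he' : wp s (List.replicate 9 [5, 0, 1, 2, 4, 7, 3]).flatten = 1) :
    Finite (pre s 9) ∧ Nat.card (pre s 9) ≤ 14080 * (364 * (243 * 51840)) :=
  chain_step (L9.cov hinv (L9_rel hcox hsp he) (pre s 8) (letters_mem (by decide)))
    (card_pre8a hinv (fun i hi j hj => hcox i (by omega) j (by omega)) hsp he')

/-- `2 × Fi₂₂` -/
theorem card_pre9b (hinv : ∀ k, s k * s k = 1) (hcox : ∀ i < 9, ∀ j < 9, (s i * s j) ^ mY i j = 1)
    (hsp : wp s (List.replicate 10 [1, 0, 5, 1, 2, 4, 1, 3, 6]).flatten = 1)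
    (he : wp s (List.replicate 9 [8, 5, 0, 1, 2, 4, 3]).flatten = 1) :
    Finite (pre s 9) ∧ Nat.card (pre s 9) ≤ 14080 * (728 * (243 * 51840)) :=
  chain_step (L9.cov hinv (L9_rel hcox hsp he) (pre s 8) (letters_mem (by decide)))
    (card_pre8b hinv (fun i hi j hj => hcox i (by omega) j (by omega)) hsp)

end Cfsg.Agent.Lib.Helper40.PE
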