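/-
helper40: the basic facts about the presented group Fi22 in reusable form.
-/
import Cfsg.Agent.Lib.Helper40.Fi.FiChain
import Cfsg.Agent.Lib.Helper40.Fi.F22Low
import Cfsg.Agent.Lib.Helper40.Fi.F22Mov
import Cfsg.Agent.Lib.Helper40.Fi.F22C3510
import Cfsg.Agent.Lib.Helper40.Fi.F22P3510
import Cfsg.Agent.Lib.Helper40.PresRank3b
import Cfsg.Agent.Lib.Helper40.PresTransp

set_option autoImplicit false
open Cfsg

namespace Cfsg.Agent.Lib.Helper40.PE.F22M

open Cfsg.Agent.Lib.Helper40.PE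

theorem hsp : wp F22.s (List.replicate 10 [1, 0, 5, 1, 2, 4, 1, 3, 6]).flatten = 1 :=
  F22.s_B _ (List.mem_append_right _ (by simp))

theorem he1 : wp F22.s (List.replicate 9 [8, 5, 0, 1, 2, 4, 3]).flatten = 1 :=
  F22.s_B _ (List.mem_append_right _ (by simp))

theorem he2 : wp F22.s (List.replicate 9 [5, 0, 1, 2, 4, 7, 3]).flatten = 1 :=
  F22.s_B _ (List.mem_append_right _ (by simp))

theorem upper : Finite Cfsg.Spor.Fi22 ∧ Nat.card Cfsg.Spor.Fi22 ≤ 64561751654400 := by
  obtain ⟨h1, h2⟩ := card_pre9a F22.s_inv F22.s_cox hsp he1 he2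
  rw [F22.pre_top] at h1 h2
  have e : Nat.card (⊤ : Subgroup Cfsg.Spor.Fi22) = Nat.card Cfsg.Spor.Fi22 :=
    Nat.card_congr Subgroup.topEquiv.toEquiv
  rw [e] at h2
  exact ⟨Finite.of_equiv _ Subgroup.topEquiv.toEquiv, h2.trans (by norm_num)⟩

/-- braid relations -/
theorem braid {i j : ℕ} (hi : i < 9) (hj : j < 9) (h : mY i j = 3) : (F22.s i * F22.s j) ^ 3 = 1 := by
  have := F22.s_cox i hi j hj
  rwa [h] at this

theorem good3510 : F22P3510.P.Good F22.B :=
  ⟨fun x hx => F22P3510.pt x (Nat.zero_le _) hx, F22.B_letters, F22.B_kk⟩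

theorem conj_all : ∀ k < 9, ∃ a : Cfsg.Spor.Fi22, F22.s k = a * F22.s 8 * a⁻¹ := by
  have c8 : ∃ a : Cfsg.Spor.Fi22, F22.s 8 = a * F22.s 8 * a⁻¹ := ⟨1, by simp⟩
  have c5 := conj_step (F22.s_inv 8) (F22.s_inv 5) (braid (by decide) (by decide) (by decide)) c8
  have c0 := conj_step (F22.s_inv 5) (F22.s_inv 0) (braid (by decide) (by decide) (by decide)) c5
  have c1 := conj_step (F22.s_inv 0) (F22.s_inv 1) (braid (by decide) (by decide) (by decide)) c0
  have c2 := conj_step (F22.s_inv 1) (F22.s_inv 2) (braid (by decide) (by decide) (by decide)) c1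
  have c4 := conj_step (F22.s_inv 2) (F22.s_inv 4) (braid (by decide) (by decide) (by decide)) c2
  have c7 := conj_step (F22.s_inv 4) (F22.s_inv 7) (braid (by decide) (by decide) (by decide)) c4
  have c3 := conj_step (F22.s_inv 1) (F22.s_inv 3) (braid (by decide) (by decide) (by decide)) c1
  have c6 := conj_step (F22.s_inv 3) (F22.s_inv 6) (braid (by decide) (by decide) (by decide)) c3
  intro k hk
  interval_cases k
  · exact c0
  · exact c1
  · exact c2
  · exact c3
  · exact c4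
  · exact c5
  · exact c6
  · exact c7
  · exact c8

theorem perfect : commutator Cfsg.Spor.Fi22 = ⊤ := by
  have a5 := ab_eq (F22.s_inv 8) (F22.s_inv 5) (braid (by decide) (by decide) (by decide))
  have a0 := ab_eq (F22.s_inv 5) (F22.s_inv 0) (braid (by decide) (by decide) (by decide))
  have a1 := ab_eq (F22.s_inv 0) (F22.s_inv 1) (braid (by decide) (by decide) (by decide))
  have a2 := ab_eq (F22.s_inv 1) (F22.s_inv 2) (braid (by decide) (by decide) (by decide))
  have a4 := ab_eq (F22.s_inv 2) (F22.s_inv 4) (braid (by decide) (by decide) (by decide))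
  have a7 := ab_eq (F22.s_inv 4) (F22.s_inv 7) (braid (by decide) (by decide) (by decide))
  have a3 := ab_eq (F22.s_inv 1) (F22.s_inv 3) (braid (by decide) (by decide) (by decide))
  have a6 := ab_eq (F22.s_inv 3) (F22.s_inv 6) (braid (by decide) (by decide) (by decide))
  have hx := congrArg Abelianization.of (F22.s_inv 8)
  have hr := congrArg Abelianization.of he1
  rw [wp_flatten_replicate] at hr
  simp only [wp_cons, wp_nil, mul_one, map_pow, map_mul, map_one] at hr hx
  rw [← a3, ← a4, ← a2, ← a1, ← a0, ← a5] at hr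
  have h8 : Abelianization.of (F22.s 8) = 1 := by
    generalize Abelianization.of (F22.s 8) = x at hr hx
    have h2 : x ^ 2 = 1 := by rw [pow_two]; exact hx
    have h63 : x ^ 63 = 1 := by
      have e7 : x * (x * (x * (x * (x * (x * x))))) = x ^ 7 := by
        simp only [pow_succ, pow_zero, one_mul, mul_assoc]
      rw [e7, ← pow_mul] at hr
      exact hr
    calc x = x ^ 63 * ((x ^ 2) ^ 31)⁻¹ := by group
      _ = 1 := by rw [h63, h2]; simp
  apply perfect_of_ab F22.pre_top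
  intro k hk
  interval_cases k
  · rw [← a0, ← a5, h8]
  · rw [← a1, ← a0, ← a5, h8]
  · rw [← a2, ← a1, ← a0, ← a5, h8]
  · rw [← a3, ← a1, ← a0, ← a5, h8]
  · rw [← a4, ← a2, ← a1, ← a0, ← a5, h8]
  · rw [← a5, h8]
  · rw [← a6, ← a3, ← a1, ← a0, ← a5, h8]
  · rw [← a7, ← a4, ← a2, ← a1, ← a0, ← a5, h8]
  · exact h8


theorem fin : Finite Cfsg.Spor.Fi22 := upper.1

theorem order_and_base {ρ : Cfsg.Spor.Fi22 →* Equiv.Perm ℕ}
    (hρ : ∀ k < F22P14080.P.A, ρ (F22.s k) = PTab.sig F22P14080.good k) :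
    Nat.card Cfsg.Spor.Fi22 = 64561751654400 ∧ fixer ρ F22P14080.base = ⊥ :=
  order_of_bounds upper.1 upper.2 (@F22P14080.lower _ _ upper.1 _ _ hρ) (by norm_num)

theorem card_eq : Nat.card Cfsg.Spor.Fi22 = 64561751654400 := by
  obtain ⟨ρ, hρ⟩ := F22.exists_rho (p := F22P14080.P) rfl F22P14080.good
  exact (order_and_base hρ).1

theorem hbN : ∀ b ∈ F22P14080.base, b < F22P14080.P.N := by decide +kernel

/-- word identities in Fi22 are checked by tracing the base points of the action on 14080 points -/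
theorem word_eq (w w' : List ℕ) (hw : ∀ k ∈ w, k < F22P14080.P.A)
    (hw' : ∀ k ∈ w', k < F22P14080.P.A)
    (hchk : allL (fun b => Nat.beq (F22P14080.P.walk w.reverse b) (F22P14080.P.walk w'.reverse b))
      F22P14080.base = true) : wp F22.s w = wp F22.s w' := by
  obtain ⟨ρ, hρ⟩ := F22.exists_rho (p := F22P14080.P) rfl F22P14080.good
  exact PTab.wp_eq_of_base F22P14080.good hρ (order_and_base hρ).2 hbN w w' hw hw' hchk

theorem center_triv : ∀ z : Cfsg.Spor.Fi22, (∀ g, g * z = z * g) → z = 1 := by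
  obtain ⟨ρ, hρ⟩ := F22.exists_rho (p := F22P14080.P) rfl F22P14080.good
  have htrans : ∀ x < F22P14080.P.N, ∃ g, ρ g 0 = x := by
    intro x hx
    obtain ⟨g, -, hg⟩ := (PTab.orb_spec (s := F22.s) F22P14080.good hρ (Sw := F22P14080.SwG)
      (by decide +kernel) (lo := 0) (hi := 14080) le_rfl F22P14080.orbG).2 x (Nat.zero_le _) hx
    exact ⟨g, hg⟩
  exact PTab.center_trivial F22P14080.good hρ (order_and_base hρ).2 hbN F22.pre_top (by decide)
    (A' := 8) (by decide) F22P14080.fix0 F22P14080.mov htrans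

/-- the centraliser of the generator `a` -/
abbrev H : Subgroup Cfsg.Spor.Fi22 := Hs F22.s F22P3510.Sw

theorem H_comm : ∀ h ∈ H, h * F22.s 8 = F22.s 8 * h := by
  intro h hh
  induction hh using Subgroup.closure_induction with
  | mem x hx =>
    obtain ⟨w, hw, rfl⟩ := hx
    have key : ∀ w ∈ F22P3510.Sw, (∀ k ∈ w ++ [8], k < F22P14080.P.A) ∧
        (∀ k ∈ 8 :: w, k < F22P14080.P.A) ∧
        allL (fun b => Nat.beq (F22P14080.P.walk (w ++ [8]).reverse b)
          (F22P14080.P.walk (8 :: w).reverse b)) F22P14080.base = true := by decide +kernel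
    obtain ⟨k1, k2, k3⟩ := key w hw
    have := word_eq (w ++ [8]) (8 :: w) k1 k2 k3
    rw [wp_append, wp_cons] at this
    simpa using this
  | one => simp
  | mul x y _ _ hx hy => rw [mul_assoc, hy, ← mul_assoc, hx, mul_assoc]
  | inv x _ hx =>
    calc x⁻¹ * F22.s 8 = x⁻¹ * (F22.s 8 * x) * x⁻¹ := by group
      _ = x⁻¹ * (x * F22.s 8) * x⁻¹ := by rw [hx]
      _ = F22.s 8 * x⁻¹ := by group

theorem gen_conj : Subgroup.closure {x | ∃ a : Cfsg.Spor.Fi22, x = a * F22.s 8 * a⁻¹} = ⊤ :=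
  closure_conj_top F22.pre_top conj_all

theorem hub3510 : Finite (Cfsg.Spor.Fi22 ⧸ H) ∧ Nat.card (Cfsg.Spor.Fi22 ⧸ H) ≤ 3510 := by
  have hcov := cover' (c := F22C3510.cert) (s := F22.s) (H := H) (B := F22C3510.B)
    (Sw := F22C3510.Sw) rfl rfl (by decide) (by decide) (by decide) F22C3510.chk F22.s_inv F22.s_B
    (fun w hw => wp_mem_Hs _ hw)
  exact card_quot_le_of_cover (H := H) (N := 3510) _
    (fun g => hcov g (by
      have : pre F22.s F22C3510.cert.A = ⊤ := F22.pre_top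
      rw [this]; trivial))

theorem hSw : ∀ w ∈ F22P3510.Sw, ∀ k ∈ w, k < F22P3510.P.A := by decide +kernel

theorem prim3510 : MulAction.IsPreprimitive Cfsg.Spor.Fi22 (Cfsg.Spor.Fi22 ⧸ H) := by
  obtain ⟨ρ', hρ'⟩ := F22.exists_rho (p := F22P3510.P) rfl good3510
  exact rank3_prim (n1 := 2817) good3510 hρ' hSw hub3510 (by decide) (by decide)
      F22P3510.orb0 F22P3510.orb1 F22P3510.orb2 [5] [5, 0, 8, 5] (by decide) (by decide)
      F22P3510.root1 F22P3510.root2 (by decide) (by decide)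

/-- the facts about the action on 3510 points -/
theorem act3510 {ρ : Cfsg.Spor.Fi22 →* Equiv.Perm ℕ}
    (hρ : ∀ k < F22P3510.P.A, ρ (F22.s k) = PTab.sig good3510 k) :
    ∃ hfix : ∀ h ∈ H, ρ h 0 = 0, H.index = 3510 ∧ Function.Injective (ev hfix) ∧
      (∀ q, ev hfix q < 3510) ∧
      (∀ x, 1 ≤ x → x < 2817 → ∃ h ∈ H, ρ h 1 = x) ∧
      (∀ x, 2817 ≤ x → x < 3510 → ∃ h ∈ H, ρ h 2817 = x) ∧
      (∀ g ∈ H, Set.MapsTo (ρ g) (Set.Ico 2817 3510) (Set.Ico 2817 3510)) := by
  obtain ⟨m0, -⟩ := PTab.orb_spec (s := F22.s) good3510 hρ hSw (by decide) F22P3510.orb0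
  obtain ⟨-, t1⟩ := PTab.orb_spec (s := F22.s) good3510 hρ hSw (by decide) F22P3510.orb1
  obtain ⟨m2, t2⟩ := PTab.orb_spec (s := F22.s) good3510 hρ hSw le_rfl F22P3510.orb2
  have hfix := fix_of_orb m0
  have htrans := rank3_trans (s := F22.s) good3510 hρ hSw (n1 := 2817) (by decide) (by decide)
    F22P3510.orb1 F22P3510.orb2 [5] [5, 0, 8, 5] (by decide) (by decide)
      F22P3510.root1 F22P3510.root2
  obtain ⟨hidx, hinj, hlt⟩ := index_of_bounds hub3510 hfix htrans
  exact ⟨hfix, hidx, hinj, hlt, t1, t2, m2⟩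

theorem s8_ne_one : F22.s 8 ≠ 1 := by
  intro h
  have h5 : (⊤ : Subgroup Cfsg.Spor.Fi22) = ⊥ := by
    rw [← gen_conj, Subgroup.closure_eq_bot_iff]
    rintro _ ⟨a, rfl⟩
    rw [h]; simp
  have h6 : Nat.card Cfsg.Spor.Fi22 = 1 := by
    rw [← Nat.card_congr (Subgroup.topEquiv (G := Cfsg.Spor.Fi22)).toEquiv, h5]
    simp
  rw [card_eq] at h6
  norm_num at h6

theorem index_H : H.index = 3510 := by
  obtain ⟨ρ', hρ'⟩ := F22.exists_rho (p := F22P3510.P) rfl good3510
  obtain ⟨_, h, _⟩ := act3510 hρ'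
  exact h

theorem H_ne_top : H ≠ ⊤ := by
  intro h
  have := index_H
  rw [h, Subgroup.index_top] at this
  norm_num at this

theorem centralizer_s8 : Subgroup.centralizer ({F22.s 8} : Set Cfsg.Spor.Fi22) = H :=
  haveI := prim3510
  centralizer_eq H_comm H_ne_top center_triv s8_ne_one

theorem card_H : Nat.card H = 18393661440 := by
  have h := H.card_mul_index
  rw [index_H, card_eq] at h
  generalize Nat.card H = c at h ⊢
  omega

end Cfsg.Agent.Lib.Helper40.PE.F22M
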