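import Cfsg.Agent.Lib.Helper40.Fi.F22P14080
set_option autoImplicit false
set_option maxRecDepth 100000
namespace Cfsg.Agent.Lib.Helper40.PE.F22P14080
noncomputable def orb0_p : ℕ → Bool := fun i => (P.orbOK Sw 0 1) (Nat.add 0 i)
theorem orb0_c0 : allB (fun i => orb0_p (Nat.add 0 i)) 1 = true := by decide +kernel
theorem orb0_a0 : ∀ u < 0, orb0_p u = true := allB_base
theorem orb0_a1 : ∀ u < 1, orb0_p u = true := allB_extend (p := orb0_p) orb0_a0 orb0_c0
theorem orb0 : ∀ u, 0 ≤ u → u < 1 → (P.orbOK Sw 0 1) u = true := by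
  intro u h1 h2
  have h3 := orb0_a1 (u - 0) (by omega)
  have e : Nat.add 0 (u - 0) = u := by show 0 + (u - 0) = u; omega
  unfold orb0_p at h3
  rw [e] at h3; exact h3
noncomputable def orbG_p : ℕ → Bool := fun i => (P.orbOK SwG 0 14080) (Nat.add 0 i)
theorem orbG_c0 : allB (fun i => orbG_p (Nat.add 0 i)) 2000 = true := by decide +kernel
theorem orbG_c1 : allB (fun i => orbG_p (Nat.add 2000 i)) 2000 = true := by decide +kernel
theorem orbG_c2 : allB (fun i => orbG_p (Nat.add 4000 i)) 2000 = true := by decide +kernel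
theorem orbG_c3 : allB (fun i => orbG_p (Nat.add 6000 i)) 2000 = true := by decide +kernel
theorem orbG_c4 : allB (fun i => orbG_p (Nat.add 8000 i)) 2000 = true := by decide +kernel
theorem orbG_c5 : allB (fun i => orbG_p (Nat.add 10000 i)) 2000 = true := by decide +kernel
theorem orbG_c6 : allB (fun i => orbG_p (Nat.add 12000 i)) 2000 = true := by decide +kernel
theorem orbG_c7 : allB (fun i => orbG_p (Nat.add 14000 i)) 80 = true := by decide +kernel
theorem orbG_a0 : ∀ u < 0, orbG_p u = true := allB_base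
theorem orbG_a1 : ∀ u < 2000, orbG_p u = true := allB_extend (p := orbG_p) orbG_a0 orbG_c0
theorem orbG_a2 : ∀ u < 4000, orbG_p u = true := allB_extend (p := orbG_p) orbG_a1 orbG_c1
theorem orbG_a3 : ∀ u < 6000, orbG_p u = true := allB_extend (p := orbG_p) orbG_a2 orbG_c2
theorem orbG_a4 : ∀ u < 8000, orbG_p u = true := allB_extend (p := orbG_p) orbG_a3 orbG_c3
theorem orbG_a5 : ∀ u < 10000, orbG_p u = true := allB_extend (p := orbG_p) orbG_a4 orbG_c4
theorem orbG_a6 : ∀ u < 12000, orbG_p u = true := allB_extend (p := orbG_p) orbG_a5 orbG_c5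
theorem orbG_a7 : ∀ u < 14000, orbG_p u = true := allB_extend (p := orbG_p) orbG_a6 orbG_c6
theorem orbG_a8 : ∀ u < 14080, orbG_p u = true := allB_extend (p := orbG_p) orbG_a7 orbG_c7
theorem orbG : ∀ u, 0 ≤ u → u < 14080 → (P.orbOK SwG 0 14080) u = true := by
  intro u h1 h2
  have h3 := orbG_a8 (u - 0) (by omega)
  have e : Nat.add 0 (u - 0) = u := by show 0 + (u - 0) = u; omega
  unfold orbG_p at h3
  rw [e] at h3; exact h3
end Cfsg.Agent.Lib.Helper40.PE.F22P14080
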