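import Cfsg.Agent.Lib.Helper40.Fi.F23P
set_option autoImplicit false
set_option maxRecDepth 100000
namespace Cfsg.Agent.Lib.Helper40.PE.F23P
noncomputable def orb0_p : ℕ → Bool := fun i => (P.orbOK Sw 0 1) (Nat.add 0 i)
theorem orb0_c0 : allB (fun i => orb0_p (Nat.add 0 i)) 1 = true := by decide +kernel
theorem orb0_a0 : ∀ u < 0, orb0_p u = true := allB_base
theorem orb0_a1 : ∀ u < 1, orb0_p u = true := allB_extend (p := orb0_p) orb0_a0 orb0_c0
theorem orb0 : ∀ u, 0 ≤ u → u < 1 → (P.orbOK Sw 0 1) u = true := by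
  intro u h1 h2
  have h3 := orb0_a1 (u - 0) (by omega)
  have e : Nat.add 0 (u - 0) = u := by show 0 + (u - 0) = u; omega
  unfold orb0_p at h3
  rw [e] at h3; exact h3
noncomputable def orb1_p : ℕ → Bool := fun i => (P.orbOK Sw 1 28161) (Nat.add 1 i)
theorem orb1_c0 : allB (fun i => orb1_p (Nat.add 0 i)) 4000 = true := by decide +kernel
theorem orb1_c1 : allB (fun i => orb1_p (Nat.add 4000 i)) 4000 = true := by decide +kernel
theorem orb1_c2 : allB (fun i => orb1_p (Nat.add 8000 i)) 4000 = true := by decide +kernel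
theorem orb1_c3 : allB (fun i => orb1_p (Nat.add 12000 i)) 4000 = true := by decide +kernel
theorem orb1_c4 : allB (fun i => orb1_p (Nat.add 16000 i)) 4000 = true := by decide +kernel
theorem orb1_c5 : allB (fun i => orb1_p (Nat.add 20000 i)) 4000 = true := by decide +kernel
theorem orb1_c6 : allB (fun i => orb1_p (Nat.add 24000 i)) 4000 = true := by decide +kernel
theorem orb1_c7 : allB (fun i => orb1_p (Nat.add 28000 i)) 160 = true := by decide +kernel
theorem orb1_a0 : ∀ u < 0, orb1_p u = true := allB_base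
theorem orb1_a1 : ∀ u < 4000, orb1_p u = true := allB_extend (p := orb1_p) orb1_a0 orb1_c0
theorem orb1_a2 : ∀ u < 8000, orb1_p u = true := allB_extend (p := orb1_p) orb1_a1 orb1_c1
theorem orb1_a3 : ∀ u < 12000, orb1_p u = true := allB_extend (p := orb1_p) orb1_a2 orb1_c2
theorem orb1_a4 : ∀ u < 16000, orb1_p u = true := allB_extend (p := orb1_p) orb1_a3 orb1_c3
theorem orb1_a5 : ∀ u < 20000, orb1_p u = true := allB_extend (p := orb1_p) orb1_a4 orb1_c4
theorem orb1_a6 : ∀ u < 24000, orb1_p u = true := allB_extend (p := orb1_p) orb1_a5 orb1_c5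
theorem orb1_a7 : ∀ u < 28000, orb1_p u = true := allB_extend (p := orb1_p) orb1_a6 orb1_c6
theorem orb1_a8 : ∀ u < 28160, orb1_p u = true := allB_extend (p := orb1_p) orb1_a7 orb1_c7
theorem orb1 : ∀ u, 1 ≤ u → u < 28161 → (P.orbOK Sw 1 28161) u = true := by
  intro u h1 h2
  have h3 := orb1_a8 (u - 1) (by omega)
  have e : Nat.add 1 (u - 1) = u := by show 1 + (u - 1) = u; omega
  unfold orb1_p at h3
  rw [e] at h3; exact h3
noncomputable def orb2_p : ℕ → Bool := fun i => (P.orbOK Sw 28161 31671) (Nat.add 28161 i)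
theorem orb2_c0 : allB (fun i => orb2_p (Nat.add 0 i)) 3510 = true := by decide +kernel
theorem orb2_a0 : ∀ u < 0, orb2_p u = true := allB_base
theorem orb2_a1 : ∀ u < 3510, orb2_p u = true := allB_extend (p := orb2_p) orb2_a0 orb2_c0
theorem orb2 : ∀ u, 28161 ≤ u → u < 31671 → (P.orbOK Sw 28161 31671) u = true := by
  intro u h1 h2
  have h3 := orb2_a1 (u - 28161) (by omega)
  have e : Nat.add 28161 (u - 28161) = u := by show 28161 + (u - 28161) = u; omega
  unfold orb2_p at h3
  rw [e] at h3; exact h3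
theorem root0 : P.walk [] 0 = 0 := by decide +kernel
theorem root1 : P.walk [9] 0 = 1 := by decide +kernel
theorem root2 : P.walk [9, 7, 4, 2, 1, 0, 3, 1, 2, 4, 7, 9] 0 = 28161 := by decide +kernel
end Cfsg.Agent.Lib.Helper40.PE.F23P
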