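import Cfsg.Agent.Lib.Helper40.Fi.F23Pg
import Cfsg.Agent.Lib.Helper40.Fi.F23Po
import Cfsg.Agent.Lib.Helper40.PresRank3b
import Cfsg.Agent.Lib.Helper40.PresOrder
set_option autoImplicit false
set_option maxRecDepth 100000
namespace Cfsg.Agent.Lib.Helper40.PE.F23P
theorem good : P.Good F23.B := ⟨ptAll, F23.B_letters, F23.B_kk⟩
def Lv0T_0 : BT ℕ := .node (.node (.node (.node (.node (.node (.leaf 0x2) (.leaf 0x6c837f96f2)) (.node (.leaf 0x58c1a48837) (.leaf 0x80c5bfb7d2))) (.node (.node (.leaf 0x4c80ca0358) (.leaf 0x74c475a186)) (.node (.leaf 0x6442980ead) (.leaf 0x0)))) (.node (.node (.node (.leaf 0x40405e8165) (.leaf 0x7183f69bb1)) (.node (.leaf 0x5d42248b0a) (.leaf 0x0))) (.node (.node (.leaf 0x560136858b) (.leaf 0x7985062905)) (.node (.leaf 0x68830a92ad) (.leaf 0x0))))) (.node (.node (.node (.node (.leaf 0x3a002e809b) (.leaf 0x6e03bd195d)) (.node (.leaf 0x5d81df8989) (.leaf 0x0))) (.node (.node (.leaf 0x50c1000471)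 (.leaf 0x7484ba24db)) (.node (.leaf 0x6582d210a4) (.leaf 0x0)))) (.node (.node (.node (.leaf 0x4440958246) (.leaf 0x70c4371e78)) (.node (.leaf 0x6042580cc8) (.leaf 0x0))) (.node (.node (.leaf 0x54c16d86c1) (.leaf 0x7cc55eaf7d)) (.node (.leaf 0x68434514b5) (.leaf 0x0)))))) (.node (.node (.node (.node (.node (.leaf 0x2c00168049) (.leaf 0x6cc39d17f6)) (.node (.leaf 0x5901c308ae) (.leaf 0x8445fe3f45))) (.node (.node (.leaf 0x4c40e503e5) (.leaf 0x74c499a2fd)) (.node (.leaf 0x6482b48f9e) (.leaf 0x0)))) (.node (.node (.node (.leaf 0x46007981d8) (.leaf 0x70441a1d11)) (.node (.leaf 0x61023f0c05) (.leaf 0x0))) (.node (.node (.leaf 0x550152863f) (.leaf 0x78c532ab82)) (.node (.leaf 0x6903251384) (.leaf 0x0))))) (.node (.node (.node (.node (.leaf 0x3d004600fe) (.leaf 0x7183dd1aa5)) (.node (.leaf 0x5d81fc0a56) (.leaf 0x0))) (.node (.node (.leaf 0x51411a850f) (.leaf 0x7984e5a7a3)) (.node (.leaf 0x6842f1119a) (.leaf 0x0)))) (.node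 (.node (.node (.leaf 0x4900b002e0) (.leaf 0x74445da077)) (.node (.leaf 0x61827c8daf) (.leaf 0x0))) (.node (.node (.leaf 0x5901890777) (.leaf 0x7c458a31a3)) (.node (.leaf 0x6cc36295ca) (.leaf 0x0))))))
def Lv0T_1 : BT ℕ := .node (.node (.node (.node (.node (.node (.leaf 0x25800a8023) (.leaf 0x6cc38c175d)) (.node (.leaf 0x5841b1887a) (.leaf 0x8085d4b8fe))) (.node (.node (.leaf 0x4c80d6839c) (.leaf 0x740488a259)) (.node (.leaf 0x64c2a60f3a) (.leaf 0x0)))) (.node (.node (.node (.leaf 0x41406a8199) (.leaf 0x7104071c61)) (.node (.leaf 0x6042328b7d) (.leaf 0x0))) (.node (.node (.leaf 0x55414485eb) (.leaf 0x78c51b2a01)) (.node (.leaf 0x698316930a) (.leaf 0x0))))) (.node (.node (.node (.node (.leaf 0x39403a00cc) (.leaf 0x7103d01a04)) (.node (.leaf 0x5c01ef09f1) (.leaf 0x0))) (.node (.node (.leaf 0x50010d04ba) (.leaf 0x7a04d3a6ad)) (.node (.leaf 0x64c2e19101) (.leaf 0x0)))) (.node (.node (.node (.leaf 0x48c0a28294) (.leaf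 0x76044e1fb0)) (.node (.leaf 0x61426b0d5a) (.leaf 0x0))) (.node (.node (.leaf 0x58417c8710) (.leaf 0x7cc574307b)) (.node (.leaf 0x6cc3561537) (.leaf 0x0)))))) (.node (.node (.node (.node (.node (.leaf 0x3580228070) (.leaf 0x6cc3aa9876)) (.node (.leaf 0x5e01d30912) (.leaf 0x0))) (.node (.node (.leaf 0x4d80f30411) (.leaf 0x7584a9a3f2)) (.node (.leaf 0x6582c19004) (.leaf 0x0)))) (.node (.node (.node (.leaf 0x444088021f) (.leaf 0x7204269daa)) (.node (.leaf 0x60024b8c67) (.leaf 0x0))) (.node (.node (.leaf 0x5541608694) (.leaf 0x7d854cae54)) (.node (.leaf 0x698333140e) (.leaf 0x0))))) (.node (.node (.node (.node (.leaf 0x3d4052812b) (.leaf 0x7103eb1b35)) (.node (.leaf 0x5cc2108abb) (.leaf 0x0))) (.node (.node (.leaf 0x50c128853b) (.leaf 0x7944f52852)) (.node (.leaf 0x6982fb9210) (.leaf 0x0)))) (.node (.node (.node (.leaf 0x4800bd0308) (.leaf 0x74c468a0f1)) (.node (.leaf 0x64028c8e2d) (.leaf 0x0))) (.node (.node (.leaf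 0x58419787d6) (.leaf 0x7c05a5b416)) (.node (.leaf 0x6d836f964a) (.leaf 0x0))))))
def Lv0T_2 : BT ℕ := .node (.node (.node (.node (.node (.node (.leaf 0x1d80050012) (.leaf 0x6d83851724)) (.node (.leaf 0x5881ab0861) (.leaf 0x80c5cc389f))) (.node (.node (.leaf 0x4cc0cf8378) (.leaf 0x74c47e21dc)) (.node (.leaf 0x65829e8ef5) (.leaf 0x0)))) (.node (.node (.node (.leaf 0x4080658188) (.leaf 0x7184009c1f)) (.node (.leaf 0x61022a0b3f) (.leaf 0x0))) (.node (.node (.leaf 0x54c13d85bd) (.leaf 0x798510a985)) (.node (.leaf 0x68431012db) (.leaf 0x0))))) (.node (.node (.node (.node (.leaf 0x39403400b6) (.leaf 0x6cc3c799ab)) (.node (.leaf 0x5c81e809c8) (.leaf 0x0))) (.node (.node (.leaf 0x5041068495) (.leaf 0x7604c7a5db)) (.node (.leaf 0x6402db10d9) (.leaf 0x0)))) (.node (.node (.node (.leaf 0x49409c0270) (.leaf 0x7144421f27)) (.node (.leaf 0x6182610d09) (.leaf 0x0))) (.node (.node (.leaf 0x54c17406d8) (.leaf 0x7c4569aff7)) (.node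 (.leaf 0x6a034c14eb) (.leaf 0x0)))))) (.node (.node (.node (.node (.node (.leaf 0x32001c005f) (.leaf 0x6d83a3182e)) (.node (.leaf 0x5d41cd08df) (.leaf 0x84860c4045))) (.node (.node (.leaf 0x4c00eb83fa) (.leaf 0x7584a323ad)) (.node (.leaf 0x6442ba0fce) (.leaf 0x0)))) (.node (.node (.node (.leaf 0x44c08001f5) (.leaf 0x7104221d78)) (.node (.leaf 0x60c2458c43) (.leaf 0x0))) (.node (.node (.leaf 0x54415b067b) (.leaf 0x78c540aca0)) (.node (.leaf 0x69032c93c4) (.leaf 0x0))))) (.node (.node (.node (.node (.leaf 0x3c404c811a) (.leaf 0x7103e49aed)) (.node (.leaf 0x5d42050a98) (.leaf 0x0))) (.node (.node (.leaf 0x5041218522) (.leaf 0x78c4eca7e5)) (.node (.leaf 0x6842f611d8) (.leaf 0x0)))) (.node (.node (.node (.leaf 0x4940b602f2) (.leaf 0x754463a0bf)) (.node (.leaf 0x6482850deb) (.leaf 0x0))) (.node (.node (.leaf 0x58419107ad) (.leaf 0x7e05983338)) (.node (.leaf 0x6cc369960d) (.leaf 0x0))))))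
def Lv0T_3 : BT ℕ := .node (.node (.node (.node (.node (.node (.leaf 0x2940108035) (.leaf 0x6d439617b1)) (.node (.leaf 0x5801bc0896) (.leaf 0x8045e6bb47))) (.node (.node (.leaf 0x4d00df83d1) (.leaf 0x75848fa2a1)) (.node (.leaf 0x6502ac0f63) (.leaf 0x0)))) (.node (.node (.node (.leaf 0x45407381b3) (.leaf 0x70840e1ca8)) (.node (.leaf 0x60c2380bbf) (.leaf 0x0))) (.node (.node (.leaf 0x56014c0613) (.leaf 0x78c5282b0d)) (.node (.leaf 0x69831d9340) (.leaf 0x0))))) (.node (.node (.node (.node (.leaf 0x3c404080e1) (.leaf 0x7183d71a5f)) (.node (.leaf 0x5cc1f48a22) (.leaf 0x0))) (.node (.node (.leaf 0x50411504eb) (.leaf 0x7884dca728)) (.node (.leaf 0x6982e89141) (.leaf 0x0)))) (.node (.node (.node (.leaf 0x4a00a802b2) (.leaf 0x7584552009)) (.node (.leaf 0x6082750d88) (.leaf 0x0))) (.node (.node (.leaf 0x594183073a) (.leaf 0x7c457e30e7)) (.node (.leaf 0x6d835c9580) (.leaf 0x0)))))) (.node (.node (.node (.node (.node (.leaf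 0x344028808a) (.leaf 0x6d83b218e4)) (.node (.leaf 0x5c81da8953) (.leaf 0x0))) (.node (.node (.leaf 0x5200f98442) (.leaf 0x7604afa433)) (.node (.leaf 0x6542ca9064) (.leaf 0x0)))) (.node (.node (.node (.leaf 0x46008d0231) (.leaf 0x72042f1e04)) (.node (.leaf 0x6082528c9e) (.leaf 0x0))) (.node (.node (.leaf 0x55816686a7) (.leaf 0x7c4555af06)) (.node (.leaf 0x68433b1472) (.leaf 0x0))))) (.node (.node (.node (.node (.leaf 0x4140588148) (.leaf 0x7183f09b7c)) (.node (.leaf 0x5d021a0ae1) (.leaf 0x0))) (.node (.node (.leaf 0x51812f8554) (.leaf 0x7a04fba899)) (.node (.leaf 0x6903031263) (.leaf 0x0)))) (.node (.node (.node (.leaf 0x4d40c4032e) (.leaf 0x75046fa14a)) (.node (.leaf 0x6482928e70) (.leaf 0x0))) (.node (.node (.leaf 0x59019d8801) (.leaf 0x8205b2b6be)) (.node (.leaf 0x6d03761698) (.leaf 0x0))))))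
def Lv0T_4 : BT ℕ := .node (.node (.node (.node (.node (.node (.leaf 0x158002800a) (.leaf 0x6c03829711)) (.node (.leaf 0x5a01a80853) (.leaf 0x8205c4381d))) (.node (.node (.leaf 0x4e00cc0366) (.leaf 0x76047aa1ba)) (.node (.leaf 0x65829b0ecd) (.leaf 0x0)))) (.node (.node (.node (.leaf 0x4000610174) (.leaf 0x7183fc9bf7)) (.node (.leaf 0x6182278b21) (.leaf 0x0))) (.node (.node (.leaf 0x55413a059d) (.leaf 0x78c50aa94f)) (.node (.leaf 0x68830d92c5) (.leaf 0x0))))) (.node (.node (.node (.node (.leaf 0x3a003100a9) (.leaf 0x6d43c39985)) (.node (.leaf 0x5c01e509b1) (.leaf 0x0))) (.node (.node (.leaf 0x5141028480) (.leaf 0x7604bf252a)) (.node (.leaf 0x6442d710c0) (.leaf 0x0)))) (.node (.node (.node (.leaf 0x4a0099025d) (.leaf 0x72043b1ebd)) (.node (.leaf 0x61825c0ce6) (.leaf 0x0))) (.node (.node (.leaf 0x55817006cb) (.leaf 0x7cc563afbe)) (.node (.leaf 0x69434814cc) (.leaf 0x0)))))) (.node (.node (.node (.node (.node (.leaf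 0x30c0198052) (.leaf 0x6c03a11819)) (.node (.leaf 0x5981c888c2) (.leaf 0x848603bfb2))) (.node (.node (.leaf 0x4c00e803ee) (.leaf 0x7544a0a38d)) (.node (.leaf 0x6482b78fb8) (.leaf 0x0)))) (.node (.node (.node (.leaf 0x45407c81e5) (.leaf 0x70841d9d45)) (.node (.leaf 0x60c2428c28) (.leaf 0x0))) (.node (.node (.leaf 0x544157065f) (.leaf 0x7a0537abb6)) (.node (.leaf 0x698328939d) (.leaf 0x0))))) (.node (.node (.node (.node (.leaf 0x3cc049810e) (.leaf 0x7103e19acd)) (.node (.leaf 0x5c42000a74) (.leaf 0x0))) (.node (.node (.leaf 0x50411e8519) (.leaf 0x7a04e827c5)) (.node (.leaf 0x6902f311ba) (.leaf 0x0)))) (.node (.node (.node (.leaf 0x4800b282e9) (.leaf 0x750460a099)) (.node (.leaf 0x6202800dc6) (.leaf 0x0))) (.node (.node (.leaf 0x5a018d0792) (.leaf 0x7cc5943304)) (.node (.leaf 0x6d836515e5) (.leaf 0x0))))))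
def Lv0T_5 : BT ℕ := .node (.node (.node (.node (.node (.node (.leaf 0x28400e002d) (.leaf 0x6d43909782)) (.node (.leaf 0x5901b60886) (.leaf 0x8045dfb9c0))) (.node (.node (.leaf 0x4d40da83b2) (.leaf 0x75848aa270)) (.node (.leaf 0x6582a80f4c) (.leaf 0x0)))) (.node (.node (.node (.leaf 0x40006e01a2) (.leaf 0x71840a9c80)) (.node (.leaf 0x60c2358b9f) (.leaf 0x0))) (.node (.node (.leaf 0x54814805ff) (.leaf 0x798523aae5)) (.node (.leaf 0x6983199324) (.leaf 0x0))))) (.node (.node (.node (.node (.leaf 0x39403e00d5) (.leaf 0x70c3d39a26)) (.node (.leaf 0x5cc1f20a0e) (.leaf 0x0))) (.node (.node (.leaf 0x51411104cf) (.leaf 0x78c4d826ec)) (.node (.leaf 0x6602e51121) (.leaf 0x0)))) (.node (.node (.node (.leaf 0x4940a482a1) (.leaf 0x7584511fd8)) (.node (.leaf 0x6042700d71) (.leaf 0x0))) (.node (.node (.leaf 0x5a017f0723) (.leaf 0x7c4578b0ab)) (.node (.leaf 0x6d83591551) (.leaf 0x0)))))) (.node (.node (.node (.node (.node (.leaf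 0x340025807e) (.leaf 0x6d03af18b8)) (.node (.leaf 0x5d41d7092f) (.leaf 0x0))) (.node (.node (.leaf 0x5000f7042f) (.leaf 0x7584aca40e)) (.node (.leaf 0x6582c5102d) (.leaf 0x0)))) (.node (.node (.node (.leaf 0x44008a8228) (.leaf 0x71842b9de5)) (.node (.leaf 0x60824f8c80) (.leaf 0x0))) (.node (.node (.leaf 0x548164069e) (.leaf 0x7cc5512e7d)) (.node (.leaf 0x6983371444) (.leaf 0x0))))) (.node (.node (.node (.node (.leaf 0x4140560138) (.leaf 0x70c3ed9b4e)) (.node (.leaf 0x5d42170acf) (.leaf 0x0))) (.node (.node (.leaf 0x50412c0546) (.leaf 0x7984f8a871)) (.node (.leaf 0x680300123c) (.leaf 0x0)))) (.node (.node (.node (.leaf 0x4d00c10317) (.leaf 0x75846c2121)) (.node (.leaf 0x6482900e52) (.leaf 0x0))) (.node (.node (.leaf 0x58419b07f1) (.leaf 0x80c5aeb687)) (.node (.leaf 0x6d83729672) (.leaf 0x0))))))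
def Lv0T_6 : BT ℕ := .node (.node (.node (.node (.node (.node (.leaf 0x20c007801a) (.leaf 0x6c03899747)) (.node (.leaf 0x5801ae086e) (.leaf 0x8045d038c7))) (.node (.node (.leaf 0x4e00d28387) (.leaf 0x74c4842227)) (.node (.leaf 0x64c2a38f25) (.leaf 0x0)))) (.node (.node (.node (.leaf 0x4080680190) (.leaf 0x7104041c48)) (.node (.leaf 0x62022e8b5e) (.leaf 0x0))) (.node (.node (.leaf 0x56014105d6) (.leaf 0x78c515a9b8)) (.node (.leaf 0x69831312f4) (.leaf 0x0))))) (.node (.node (.node (.node (.leaf 0x39403700c4) (.leaf 0x6c43cb99be)) (.node (.leaf 0x5d01ea89d7) (.leaf 0x0))) (.node (.node (.leaf 0x51410984a3) (.leaf 0x7984d1268e)) (.node (.leaf 0x6542de90f3) (.leaf 0x0)))) (.node (.node (.node (.leaf 0x49409f0283) (.leaf 0x7084479f4c)) (.node (.leaf 0x6182650d35) (.leaf 0x0))) (.node (.node (.leaf 0x58017886ec) (.leaf 0x7d856fb057)) (.node (.leaf 0x68c3509503) (.leaf 0x0)))))) (.node (.node (.node (.node (.node (.leaf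 0x32001f0067) (.leaf 0x6d43a7985e)) (.node (.leaf 0x5cc1d008fd) (.leaf 0x0))) (.node (.node (.leaf 0x4c00ef8405) (.leaf 0x7484a723d7)) (.node (.leaf 0x6582bd8fe7) (.leaf 0x0)))) (.node (.node (.node (.leaf 0x4540820203) (.leaf 0x7184241d8e)) (.node (.leaf 0x60c2480c53) (.leaf 0x0))) (.node (.node (.leaf 0x55415d0686) (.leaf 0x788544acd2)) (.node (.leaf 0x69433093f2) (.leaf 0x0))))) (.node (.node (.node (.node (.leaf 0x3d004f8122) (.leaf 0x7043e81b13)) (.node (.leaf 0x5c020b8aab) (.leaf 0x0))) (.node (.node (.leaf 0x5001250531) (.leaf 0x7844f1a821)) (.node (.leaf 0x68c2f911f5) (.leaf 0x0)))) (.node (.node (.node (.leaf 0x4800b902fd) (.leaf 0x74846620d7)) (.node (.leaf 0x6502878e04) (.leaf 0x0))) (.node (.node (.leaf 0x58c19387bc) (.leaf 0x7c859e3395)) (.node (.leaf 0x6d836c1628) (.leaf 0x0))))))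
def Lv0T_7 : BT ℕ := .node (.node (.node (.node (.node (.node (.leaf 0x2cc0140041) (.leaf 0x6d039997d2)) (.node (.leaf 0x5901bf88a3) (.leaf 0x8445f6be76))) (.node (.node (.leaf 0x4d40e103da) (.leaf 0x75449522db)) (.node (.leaf 0x6502b00f7b) (.leaf 0x0)))) (.node (.node (.node (.leaf 0x46007681c6) (.leaf 0x7184139cd6)) (.node (.leaf 0x61823a0bd7) (.leaf 0x0))) (.node (.node (.leaf 0x544150062e) (.leaf 0x79852dab5a)) (.node (.leaf 0x6983211365) (.leaf 0x0))))) (.node (.node (.node (.node (.leaf 0x3c004380f1) (.leaf 0x7183da9a87)) (.node (.leaf 0x5c41f88a3b) (.leaf 0x0))) (.node (.node (.leaf 0x5201180504) (.leaf 0x7884e2277a)) (.node (.leaf 0x6802ed1172) (.leaf 0x0)))) (.node (.node (.node (.leaf 0x4800ab82c5) (.leaf 0x7604582039)) (.node (.leaf 0x6182778d98) (.leaf 0x0))) (.node (.node (.leaf 0x58c186875c) (.leaf 0x7d0583b11b)) (.node (.leaf 0x6c836015ae) (.leaf 0x0)))))) (.node (.node (.node (.node (.node (.leaf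 0x35402b8092) (.leaf 0x6c43b6190d)) (.node (.leaf 0x5d01dc896f) (.leaf 0x0))) (.node (.node (.leaf 0x5140fc8453) (.leaf 0x7604b4a480)) (.node (.leaf 0x6442ce108c) (.leaf 0x0)))) (.node (.node (.node (.leaf 0x448091023a) (.leaf 0x7144341e55)) (.node (.leaf 0x6102548cb1) (.leaf 0x0))) (.node (.node (.leaf 0x55416a06b4) (.leaf 0x7d8559af4a)) (.node (.leaf 0x69434194a1) (.leaf 0x0))))) (.node (.node (.node (.node (.leaf 0x40405b8158) (.leaf 0x7183f39b93)) (.node (.leaf 0x5c02208af6) (.leaf 0x0))) (.node (.node (.leaf 0x5441340577) (.leaf 0x78c500a8b4)) (.node (.leaf 0x6903071285) (.leaf 0x0)))) (.node (.node (.node (.leaf 0x4e00c6033e) (.leaf 0x758471a169)) (.node (.leaf 0x6502948e8c) (.leaf 0x0))) (.node (.node (.leaf 0x58c1a1881e) (.leaf 0x8085b6b71a)) (.node (.leaf 0x6c837c16ce) (.leaf 0x0))))))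
def Lv0T_8 : BT ℕ := .node (.node (.node (.node (.node (.node (.leaf 0x1000018006) (.leaf 0x6d838096fb)) (.node (.leaf 0x5981a68845) (.leaf 0x80c5c2b815))) (.node (.node (.leaf 0x4d40cb035f) (.leaf 0x74c47821a2)) (.node (.leaf 0x6502998ebd) (.leaf 0x0)))) (.node (.node (.node (.leaf 0x42005f016b) (.leaf 0x7183f99bc1)) (.node (.leaf 0x5e02258b14) (.leaf 0x0))) (.node (.node (.leaf 0x5541388593) (.leaf 0x784508290e)) (.node (.leaf 0x69830b92b6) (.leaf 0x0))))) (.node (.node (.node (.node (.leaf 0x38c03000a2) (.leaf 0x6d03c11977)) (.node (.leaf 0x5c01e309a1) (.leaf 0x0))) (.node (.node (.leaf 0x5081018478) (.leaf 0x74c4bd2505)) (.node (.leaf 0x6542d510b6) (.leaf 0x0)))) (.node (.node (.node (.leaf 0x4940978252) (.leaf 0x70c4399ea7)) (.node (.leaf 0x6182598cd2) (.leaf 0x0))) (.node (.node (.leaf 0x54816f06c7) (.leaf 0x7cc5612f96)) (.node (.leaf 0x69834614c0) (.leaf 0x0)))))) (.node (.node (.node (.node (.node (.leaf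 0x308019004d) (.leaf 0x6c039f980b)) (.node (.leaf 0x5981c688b8) (.leaf 0x844600bf78))) (.node (.node (.leaf 0x4d00e603e9) (.leaf 0x74449f2369)) (.node (.leaf 0x6582b58fa8) (.leaf 0x0)))) (.node (.node (.node (.leaf 0x44007b01df) (.leaf 0x71841c1d31)) (.node (.leaf 0x6142410c19) (.leaf 0x0))) (.node (.node (.leaf 0x5401550650) (.leaf 0x78c535abad)) (.node (.leaf 0x698326938f) (.leaf 0x0))))) (.node (.node (.node (.node (.leaf 0x3d40478105) (.leaf 0x7043e01abb)) (.node (.leaf 0x5d81fd8a61) (.leaf 0x0))) (.node (.node (.leaf 0x51411c8514) (.leaf 0x7884e7a7c0)) (.node (.leaf 0x68c2f211a9) (.leaf 0x0)))) (.node (.node (.node (.leaf 0x4a00b082e5) (.leaf 0x75045f2089)) (.node (.leaf 0x61427f0dbc) (.leaf 0x0))) (.node (.node (.leaf 0x58418b8787) (.leaf 0x7c858fb213)) (.node (.leaf 0x6d036395d8) (.leaf 0x0))))))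
def Lv0T_9 : BT ℕ := .node (.node (.node (.node (.node (.node (.leaf 0x28000d0027) (.leaf 0x6d838e9773)) (.node (.leaf 0x5981b3887f) (.leaf 0x8085d83928))) (.node (.node (.leaf 0x4e00d883a5) (.leaf 0x75048a226c)) (.node (.leaf 0x6502a70f42) (.leaf 0x0)))) (.node (.node (.node (.leaf 0x42006c019e) (.leaf 0x7184091c6f)) (.node (.leaf 0x6002340b8e) (.leaf 0x0))) (.node (.node (.leaf 0x54414685f6) (.leaf 0x78c51e2a21)) (.node (.leaf 0x6983181316) (.leaf 0x0))))) (.node (.node (.node (.node (.leaf 0x39403b00d0) (.leaf 0x7183d19a13)) (.node (.leaf 0x5c01f08a01) (.leaf 0x0))) (.node (.node (.leaf 0x50410f04c4) (.leaf 0x78c4d626c8)) (.node (.leaf 0x64c2e39113) (.leaf 0x0)))) (.node (.node (.node (.leaf 0x4a00a30299) (.leaf 0x75844f9fc5)) (.node (.leaf 0x60c26c8d64) (.leaf 0x0))) (.node (.node (.leaf 0x58417e871d) (.leaf 0x7d8576b0a2)) (.node (.leaf 0x6d03571542) (.leaf 0x0)))))) (.node (.node (.node (.node (.node (.leaf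 0x3540238077) (.leaf 0x6cc3ac989c)) (.node (.leaf 0x5c01d5091f) (.leaf 0x0))) (.node (.node (.leaf 0x5100f58424) (.leaf 0x7584ab2409)) (.node (.leaf 0x6582c39019) (.leaf 0x0)))) (.node (.node (.node (.leaf 0x4600888223) (.leaf 0x7184291dbe)) (.node (.leaf 0x61824c8c71) (.leaf 0x0))) (.node (.node (.leaf 0x544162869a) (.leaf 0x7cc54f2e78)) (.node (.leaf 0x6943361431) (.leaf 0x0))))) (.node (.node (.node (.node (.leaf 0x4180550130) (.leaf 0x7143ec9b49)) (.node (.leaf 0x5d02138ac5) (.leaf 0x0))) (.node (.node (.leaf 0x50c12a0540) (.leaf 0x78c4f62857)) (.node (.leaf 0x6982fd9220) (.leaf 0x0)))) (.node (.node (.node (.leaf 0x48c0bf830d) (.leaf 0x75846aa10e)) (.node (.leaf 0x64428e8e3f) (.leaf 0x0))) (.node (.node (.leaf 0x58419987e5) (.leaf 0x8005ad3669)) (.node (.leaf 0x6d8371165e) (.leaf 0x0))))))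
def Lv0T_10 : BT ℕ := .node (.node (.node (.node (.node (.node (.leaf 0x2180068016) (.leaf 0x6c03881739)) (.node (.leaf 0x5841ac8865) (.leaf 0x8205cdb8a7))) (.node (.node (.leaf 0x4d40d1037e) (.leaf 0x74c48021e1)) (.node (.leaf 0x6402a20f14) (.leaf 0x0)))) (.node (.node (.node (.leaf 0x420066018c) (.leaf 0x7004029c35)) (.node (.leaf 0x61822c0b4c) (.leaf 0x0))) (.node (.node (.leaf 0x54c13f05cb) (.leaf 0x78c513299f)) (.node (.leaf 0x69031192e6) (.leaf 0x0))))) (.node (.node (.node (.node (.leaf 0x39403580bd) (.leaf 0x6e03c919b2)) (.node (.leaf 0x5d81e909cf) (.leaf 0x0))) (.node (.node (.leaf 0x510107849c) (.leaf 0x7a04cfa674)) (.node (.leaf 0x6502dd10e6) (.leaf 0x0)))) (.node (.node (.node (.leaf 0x48409e027c) (.leaf 0x7204441f38)) (.node (.leaf 0x6182630d20) (.leaf 0x0))) (.node (.node (.leaf 0x54417686e1) (.leaf 0x7d856d3033)) (.node (.leaf 0x68434e14f0) (.leaf 0x0)))))) (.node (.node (.node (.node (.node (.leaf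 0x30401d8063) (.leaf 0x6cc3a51840)) (.node (.leaf 0x5c81cf08f2) (.leaf 0x88061bc559))) (.node (.node (.leaf 0x4c40ed83ff) (.leaf 0x74c4a4a3b2)) (.node (.leaf 0x6502bb8fd9) (.leaf 0x0)))) (.node (.node (.node (.leaf 0x45408081fa) (.leaf 0x7184229d7c)) (.node (.leaf 0x60c2468c49) (.leaf 0x0))) (.node (.node (.leaf 0x56015b8681) (.leaf 0x7a05422ca7)) (.node (.leaf 0x69432e13d2) (.leaf 0x0))))) (.node (.node (.node (.node (.leaf 0x3d004d811e) (.leaf 0x7183e61b03)) (.node (.leaf 0x5c02070aa1) (.leaf 0x0))) (.node (.node (.leaf 0x5201230528) (.leaf 0x7984ef27fc)) (.node (.leaf 0x68c2f791e3) (.leaf 0x0)))) (.node (.node (.node (.leaf 0x4940b702f7) (.leaf 0x74c464a0c4)) (.node (.leaf 0x6582860df4) (.leaf 0x0))) (.node (.node (.leaf 0x58c19207b4) (.leaf 0x7cc59bb38d)) (.node (.leaf 0x6d036a9619) (.leaf 0x0))))))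
def Lv0T_11 : BT ℕ := .node (.node (.node (.node (.node (.node (.leaf 0x2e0012003a) (.leaf 0x6cc39717b6)) (.node (.leaf 0x5881be089f) (.leaf 0x8445f43e3a))) (.node (.node (.leaf 0x4d40e003d5) (.leaf 0x758492a2c4)) (.node (.leaf 0x6582ad8f6f) (.leaf 0x0)))) (.node (.node (.node (.leaf 0x45407501bd) (.leaf 0x70c40f9cae)) (.node (.leaf 0x6102390bcb) (.leaf 0x0))) (.node (.node (.leaf 0x54014e0621) (.leaf 0x78452aab2a)) (.node (.leaf 0x6903201359) (.leaf 0x0))))) (.node (.node (.node (.node (.leaf 0x3c404200ea) (.leaf 0x70c3d91a76)) (.node (.leaf 0x5d01f58a29) (.leaf 0x0))) (.node (.node (.leaf 0x51811684f5) (.leaf 0x7984e02766)) (.node (.leaf 0x6842ea9154) (.leaf 0x0)))) (.node (.node (.node (.leaf 0x4940a982ba) (.leaf 0x7584572033)) (.node (.leaf 0x6182760d8f) (.leaf 0x0))) (.node (.node (.leaf 0x580185074b) (.leaf 0x7c45813114)) (.node (.leaf 0x6c835f15a0) (.leaf 0x0)))))) (.node (.node (.node (.node (.node (.leaf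 0x34002a008e) (.leaf 0x6e03b398fb)) (.node (.leaf 0x5cc1db8963) (.leaf 0x0))) (.node (.node (.leaf 0x5200fa8448) (.leaf 0x7444b32465)) (.node (.leaf 0x6602cb9076) (.leaf 0x0)))) (.node (.node (.node (.leaf 0x44008f0235) (.leaf 0x7044321e34)) (.node (.leaf 0x60c2538ca9) (.leaf 0x0))) (.node (.node (.leaf 0x55016806ac) (.leaf 0x7c85572f0d)) (.node (.leaf 0x69833e9488) (.leaf 0x0))))) (.node (.node (.node (.node (.leaf 0x40805a0150) (.leaf 0x7103f31b8f)) (.node (.leaf 0x5d021d0ae8) (.leaf 0x0))) (.node (.node (.leaf 0x5601320568) (.leaf 0x7844fda89e)) (.node (.leaf 0x690305126d) (.leaf 0x0)))) (.node (.node (.node (.leaf 0x4d00c58338) (.leaf 0x758470214e)) (.node (.leaf 0x64c2938e80) (.leaf 0x0))) (.node (.node (.leaf 0x59019f880f) (.leaf 0x8045b53713)) (.node (.leaf 0x6d8376969c) (.leaf 0x0))))))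
def Lv0T_12 : BT ℕ := .node (.node (.node (.node (.node (.node (.leaf 0x1a0003800e) (.leaf 0x6cc384171a)) (.node (.leaf 0x5841a9885a) (.leaf 0x8045c7b835))) (.node (.node (.leaf 0x4d40ce0370) (.leaf 0x75447d21d6)) (.node (.leaf 0x65029d8ee7) (.leaf 0x0)))) (.node (.node (.node (.leaf 0x420062017a) (.leaf 0x7203fd9bfd)) (.node (.leaf 0x60c2290b32) (.leaf 0x0))) (.node (.node (.leaf 0x54013c05ac) (.leaf 0x7a050c2959)) (.node (.leaf 0x69830e92cd) (.leaf 0x0))))) (.node (.node (.node (.node (.leaf 0x38803280af) (.leaf 0x6e03c59998)) (.node (.leaf 0x5cc1e689be) (.leaf 0x0))) (.node (.node (.leaf 0x500104848b) (.leaf 0x7484c1a546)) (.node (.leaf 0x6442d910ce) (.leaf 0x0)))) (.node (.node (.node (.leaf 0x49009b0268) (.leaf 0x70443f9f0b)) (.node (.leaf 0x61825e8cf8) (.leaf 0x0))) (.node (.node (.leaf 0x55817206d2) (.leaf 0x7cc5662fdd)) (.node (.leaf 0x69834a94db) (.leaf 0x0)))))) (.node (.node (.node (.node (.node (.leaf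 0x32001a8059) (.leaf 0x6d03a2982a)) (.node (.leaf 0x5981cb08cd) (.leaf 0x8486073ff4))) (.node (.node (.leaf 0x4d40e983f4) (.leaf 0x74c4a1a392)) (.node (.leaf 0x6582b88fc0) (.leaf 0x0)))) (.node (.node (.node (.leaf 0x46007e01ed) (.leaf 0x70c41f9d5d)) (.node (.leaf 0x6082448c38) (.leaf 0x0))) (.node (.node (.leaf 0x5581588669) (.leaf 0x78053a2bed)) (.node (.leaf 0x68832b13b7) (.leaf 0x0))))) (.node (.node (.node (.node (.leaf 0x3c804b0116) (.leaf 0x7103e31add)) (.node (.leaf 0x5e02030a8e) (.leaf 0x0))) (.node (.node (.leaf 0x508120051e) (.leaf 0x7984eaa7df)) (.node (.leaf 0x6982f491c4) (.leaf 0x0)))) (.node (.node (.node (.leaf 0x4880b482ee) (.leaf 0x75046220a9)) (.node (.leaf 0x6042828dd2) (.leaf 0x0))) (.node (.node (.leaf 0x58018f07a0) (.leaf 0x7cc596b330)) (.node (.leaf 0x6c03681600) (.leaf 0x0))))))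
def Lv0T_13 : BT ℕ := .node (.node (.node (.node (.node (.node (.leaf 0x2a000e8031) (.leaf 0x6d83929793)) (.node (.leaf 0x5901b8888b) (.leaf 0x8045e4bb0e))) (.node (.node (.leaf 0x4c40dd03bf) (.leaf 0x74c48ca287)) (.node (.leaf 0x6442aa8f59) (.leaf 0x0)))) (.node (.node (.node (.leaf 0x40407101a8) (.leaf 0x71840c1c92)) (.node (.leaf 0x6102368baf) (.leaf 0x0))) (.node (.node (.leaf 0x5501498607) (.leaf 0x78c525aaeb)) (.node (.leaf 0x69031d133c) (.leaf 0x0))))) (.node (.node (.node (.node (.leaf 0x3e003f00da) (.leaf 0x7183d51a39)) (.node (.leaf 0x5d01f30a19) (.leaf 0x0))) (.node (.node (.leaf 0x50011304de) (.leaf 0x7a04da2722)) (.node (.leaf 0x6882e79138) (.leaf 0x0)))) (.node (.node (.node (.leaf 0x4800a682ab) (.leaf 0x7584531fef)) (.node (.leaf 0x6182718d7a) (.leaf 0x0))) (.node (.node (.leaf 0x594181072e) (.leaf 0x7c457ab0b0)) (.node (.leaf 0x6d835a9560) (.leaf 0x0)))))) (.node (.node (.node (.node (.node (.leaf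 0x3540268084) (.leaf 0x6cc3b018bd)) (.node (.leaf 0x5c41d90941) (.leaf 0x0))) (.node (.node (.leaf 0x5080f9043d) (.leaf 0x7584aea42d)) (.node (.leaf 0x6402c8904b) (.leaf 0x0)))) (.node (.node (.node (.leaf 0x45008c822c) (.leaf 0x71842e1dfe)) (.node (.leaf 0x60c2510c94) (.leaf 0x0))) (.node (.node (.leaf 0x54816586a3) (.leaf 0x7c4553aec4)) (.node (.leaf 0x68c3389452) (.leaf 0x0))))) (.node (.node (.node (.node (.leaf 0x4000578141) (.leaf 0x7083ef1b62)) (.node (.leaf 0x5cc2188ad9) (.leaf 0x0))) (.node (.node (.leaf 0x51812d854b) (.leaf 0x78c4fa2876)) (.node (.leaf 0x680301924f) (.leaf 0x0)))) (.node (.node (.node (.leaf 0x4d00c28324) (.leaf 0x75846da135)) (.node (.leaf 0x64c2910e63) (.leaf 0x0))) (.node (.node (.leaf 0x58c19c07f9) (.leaf 0x80c5b136b6)) (.node (.leaf 0x6d83741686) (.leaf 0x0))))))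
def Lv0T_14 : BT ℕ := .node (.node (.node (.node (.node (.node (.leaf 0x240009801f) (.leaf 0x6d038b1758)) (.node (.leaf 0x5801b00875) (.leaf 0x80c5d238f3))) (.node (.node (.leaf 0x4c00d48392) (.leaf 0x760485a22e)) (.node (.leaf 0x6482a50f2f) (.leaf 0x0)))) (.node (.node (.node (.leaf 0x4200688194) (.leaf 0x70c4051c4d)) (.node (.leaf 0x6002308b6b) (.leaf 0x0))) (.node (.node (.leaf 0x56014285de) (.leaf 0x78c51829d9)) (.node (.leaf 0x69831492fe) (.leaf 0x0))))) (.node (.node (.node (.node (.leaf 0x3a003800c8) (.leaf 0x7143cf19f3)) (.node (.leaf 0x5c41ec89e4) (.leaf 0x0))) (.node (.node (.leaf 0x51410b04ad) (.leaf 0x7884d326a8)) (.node (.leaf 0x64c2df90f8) (.leaf 0x0)))) (.node (.node (.node (.leaf 0x4a00a0828b) (.leaf 0x70444b1f71)) (.node (.leaf 0x6002670d4a) (.leaf 0x0))) (.node (.node (.leaf 0x58017a86fe) (.leaf 0x7e0571305e)) (.node (.leaf 0x6a03521511) (.leaf 0x0)))))) (.node (.node (.node (.node (.node (.leaf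 0x314021006b) (.leaf 0x6d43a99871)) (.node (.leaf 0x5d41d2090b) (.leaf 0x0))) (.node (.node (.leaf 0x4c80f1840b) (.leaf 0x7584a823ed)) (.node (.leaf 0x6402c00ff9) (.leaf 0x0)))) (.node (.node (.node (.leaf 0x460084820e) (.leaf 0x7084261da5)) (.node (.leaf 0x6102490c5c) (.leaf 0x0))) (.node (.node (.leaf 0x55415e868d) (.leaf 0x7c854aae32)) (.node (.leaf 0x68c33193f7) (.leaf 0x0))))) (.node (.node (.node (.node (.leaf 0x3d40508126) (.leaf 0x7103e99b23)) (.node (.leaf 0x5c820d8ab4) (.leaf 0x0))) (.node (.node (.leaf 0x5001270536) (.leaf 0x7884f3a837)) (.node (.leaf 0x6902fa1201) (.leaf 0x0)))) (.node (.node (.node (.leaf 0x4840bb0302) (.leaf 0x754467a0ec)) (.node (.leaf 0x6582890e14) (.leaf 0x0))) (.node (.node (.leaf 0x58419507c5) (.leaf 0x7cc5a1b3f2)) (.node (.leaf 0x6d836e1638) (.leaf 0x0))))))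
def Lv0T_15 : BT ℕ := .node (.node (.node (.node (.node (.node (.leaf 0x2e00148045) (.leaf 0x6d839b17e2)) (.node (.leaf 0x58c1c108aa) (.leaf 0x8605f7be7c))) (.node (.node (.leaf 0x4c00e303e0) (.leaf 0x758496a2e0)) (.node (.leaf 0x6582b10f87) (.leaf 0x0)))) (.node (.node (.node (.leaf 0x44007801cf) (.leaf 0x7184181d0b)) (.node (.leaf 0x61023c8bf0) (.leaf 0x0))) (.node (.node (.leaf 0x5501518636) (.leaf 0x78452fab60)) (.node (.leaf 0x68c324137a) (.leaf 0x0))))) (.node (.node (.node (.node (.leaf 0x3c004480f8) (.leaf 0x7103dc1a97)) (.node (.leaf 0x5c81fb0a4c) (.leaf 0x0))) (.node (.node (.leaf 0x5141198508) (.leaf 0x7884e4278e)) (.node (.leaf 0x6802ef1187) (.leaf 0x0)))) (.node (.node (.node (.leaf 0x4940ae02d1) (.leaf 0x75845b2058)) (.node (.leaf 0x61827a8da5) (.leaf 0x0))) (.node (.node (.leaf 0x590187876c) (.leaf 0x7cc587b187)) (.node (.leaf 0x6d836115ba) (.leaf 0x0)))))) (.node (.node (.node (.node (.node (.leaf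 0x36002d0096) (.leaf 0x6cc3b81931)) (.node (.leaf 0x5d01de897f) (.leaf 0x0))) (.node (.node (.leaf 0x5000fe8464) (.leaf 0x7604b7a4a1)) (.node (.leaf 0x6482d1109d) (.leaf 0x0)))) (.node (.node (.node (.leaf 0x4400930240) (.leaf 0x70c4351e5a)) (.node (.leaf 0x6182558cbb) (.leaf 0x0))) (.node (.node (.leaf 0x54416c06bd) (.leaf 0x7d855c2f63)) (.node (.leaf 0x68c34294a6) (.leaf 0x0))))) (.node (.node (.node (.node (.leaf 0x41005c815d) (.leaf 0x7183f51bac)) (.node (.leaf 0x5c42228aff) (.leaf 0x0))) (.node (.node (.leaf 0x5501360586) (.leaf 0x78c503a8e1)) (.node (.leaf 0x6983079289) (.leaf 0x0)))) (.node (.node (.node (.leaf 0x4c00c8034a) (.leaf 0x758473216e)) (.node (.leaf 0x6582958e98) (.leaf 0x0))) (.node (.node (.leaf 0x58c1a3082b) (.leaf 0x80c5bd37b6)) (.node (.leaf 0x6e037c96d3) (.leaf 0x0))))))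
def Lv0T_16 : BT ℕ := .node (.node (.node (.node (.node (.node (.leaf 0x880008004) (.leaf 0x6cc38016f9)) (.node (.leaf 0x5981a5883b) (.leaf 0x8045c137ea))) (.node (.node (.leaf 0x4cc0cb035d) (.leaf 0x74c476a189)) (.node (.leaf 0x6582980eaf) (.leaf 0x0)))) (.node (.node (.node (.leaf 0x41405e8167) (.leaf 0x7183f81bbe)) (.node (.leaf 0x5cc2250b0c) (.leaf 0x0))) (.node (.node (.leaf 0x560137858f) (.leaf 0x78c507290a)) (.node (.leaf 0x68c30b12b4) (.leaf 0x0))))) (.node (.node (.node (.node (.leaf 0x3a002f009e) (.leaf 0x6d83bf1963)) (.node (.leaf 0x5e01e2099a) (.leaf 0x0))) (.node (.node (.leaf 0x5101010475) (.leaf 0x7604bc2502)) (.node (.leaf 0x6582d410af) (.leaf 0x0)))) (.node (.node (.node (.leaf 0x488097024d) (.leaf 0x7204381e8c)) (.node (.leaf 0x6182580cca) (.leaf 0x0))) (.node (.node (.leaf 0x54816e86c5) (.leaf 0x7cc5602f93)) (.node (.leaf 0x68034614be) (.leaf 0x0)))))) (.node (.node (.node (.node (.node (.leaf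 0x2e0017004b) (.leaf 0x6d039e17ff)) (.node (.leaf 0x5901c508b5) (.leaf 0x8485ffbf60))) (.node (.node (.leaf 0x4cc0e583e7) (.leaf 0x75849ba32b)) (.node (.leaf 0x64c2b50fa6) (.leaf 0x0)))) (.node (.node (.node (.leaf 0x46007a01db) (.leaf 0x71041b9d2f)) (.node (.leaf 0x61823f8c07) (.leaf 0x0))) (.node (.node (.leaf 0x5401540647) (.leaf 0x78c5342b84)) (.node (.leaf 0x684326938d) (.leaf 0x0))))) (.node (.node (.node (.node (.leaf 0x3d40468102) (.leaf 0x7103de9ab0)) (.node (.leaf 0x5cc1fc8a5b) (.leaf 0x0))) (.node (.node (.leaf 0x51411b8511) (.leaf 0x7984e627a5)) (.node (.leaf 0x68c2f191a2) (.leaf 0x0)))) (.node (.node (.node (.leaf 0x4a00b002e2) (.leaf 0x75845da079)) (.node (.leaf 0x60027e0db6) (.leaf 0x0))) (.node (.node (.leaf 0x58418a077e) (.leaf 0x7c458c31c2)) (.node (.leaf 0x6d836315cc) (.leaf 0x0))))))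
def Lv0T_17 : BT ℕ := .node (.node (.node (.node (.node (.node (.leaf 0x24c00b0025) (.leaf 0x6d838d9767)) (.node (.leaf 0x58c1b2087d) (.leaf 0x8105d5b900))) (.node (.node (.leaf 0x4e00d783a0) (.leaf 0x758488a25b)) (.node (.leaf 0x6582a68f3c) (.leaf 0x0)))) (.node (.node (.node (.leaf 0x40406b819b) (.leaf 0x7184079c63)) (.node (.leaf 0x6082338b89) (.leaf 0x0))) (.node (.node (.leaf 0x54014585f1) (.leaf 0x78c51caa1e)) (.node (.leaf 0x6903179314) (.leaf 0x0))))) (.node (.node (.node (.node (.leaf 0x39003a80ce) (.leaf 0x7003d19a11)) (.node (.leaf 0x5c81f009fc) (.leaf 0x0))) (.node (.node (.leaf 0x50410e04bf) (.leaf 0x7984d4a6af)) (.node (.leaf 0x6602e21109) (.leaf 0x0)))) (.node (.node (.node (.leaf 0x4900a30296) (.leaf 0x74044f9fc3)) (.node (.leaf 0x60426c0d60) (.leaf 0x0))) (.node (.node (.leaf 0x58c17d0715) (.leaf 0x7c4575307d)) (.node (.leaf 0x6d83569539) (.leaf 0x0)))))) (.node (.node (.node (.node (.node (.leaf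 0x34c0230073) (.leaf 0x6d83ac1899)) (.node (.leaf 0x5d41d40918) (.leaf 0x0))) (.node (.node (.leaf 0x5140f4841b) (.leaf 0x7484ab2407)) (.node (.leaf 0x6542c31017) (.leaf 0x0)))) (.node (.node (.node (.leaf 0x4540880221) (.leaf 0x7184279dac)) (.node (.leaf 0x60424c8c6f) (.leaf 0x0))) (.node (.node (.leaf 0x5441618696) (.leaf 0x7d854e2e74)) (.node (.leaf 0x6803351425) (.leaf 0x0))))) (.node (.node (.node (.node (.leaf 0x3c0054012e) (.leaf 0x7183eb9b37)) (.node (.leaf 0x5d82110abd) (.leaf 0x0))) (.node (.node (.leaf 0x510129853d) (.leaf 0x7984f5a855)) (.node (.leaf 0x6902fd121e) (.leaf 0x0)))) (.node (.node (.node (.leaf 0x4840be030a) (.leaf 0x758469a10b)) (.node (.leaf 0x64028d8e35) (.leaf 0x0))) (.node (.node (.leaf 0x58019887dd) (.leaf 0x7e05a834e8)) (.node (.leaf 0x6d8370965c) (.leaf 0x0))))))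
def Lv0T_18 : BT ℕ := .node (.node (.node (.node (.node (.node (.leaf 0x2100068014) (.leaf 0x6d0386972d)) (.node (.leaf 0x5941ab8863) (.leaf 0x8045cd38a4))) (.node (.node (.leaf 0x4e00d0837c) (.leaf 0x76047ea1df)) (.node (.leaf 0x6482a00f03) (.leaf 0x0)))) (.node (.node (.node (.leaf 0x420065818a) (.leaf 0x7104011c28)) (.node (.leaf 0x60c22b8b4a) (.leaf 0x0))) (.node (.node (.leaf 0x54813e85c5) (.leaf 0x798512299c)) (.node (.leaf 0x69831012dd) (.leaf 0x0))))) (.node (.node (.node (.node (.leaf 0x3a003480ba) (.leaf 0x6c43c899af)) (.node (.leaf 0x5cc1e889cd) (.leaf 0x0))) (.node (.node (.leaf 0x50c1070498) (.leaf 0x7604c8a5ee)) (.node (.leaf 0x6582db10db) (.leaf 0x0)))) (.node (.node (.node (.leaf 0x49409d0275) (.leaf 0x7204429f2a)) (.node (.leaf 0x6182618d11) (.leaf 0x0))) (.node (.node (.leaf 0x55817506dc) (.leaf 0x7c456bb01a)) (.node (.leaf 0x68c34d14ee) (.leaf 0x0)))))) (.node (.node (.node (.node (.node (.leaf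 0x32001c8061) (.leaf 0x6c83a4983d)) (.node (.leaf 0x5c41ce08e8) (.leaf 0x88861a4511))) (.node (.node (.leaf 0x4c40ec83fc) (.leaf 0x74c4a3a3af)) (.node (.leaf 0x6582ba0fd0) (.leaf 0x0)))) (.node (.node (.node (.leaf 0x45408001f7) (.leaf 0x7184221d7a)) (.node (.leaf 0x6182460c45) (.leaf 0x0))) (.node (.node (.leaf 0x56015b067e) (.leaf 0x784541aca4)) (.node (.leaf 0x69832d13c6) (.leaf 0x0))))) (.node (.node (.node (.node (.leaf 0x3d404d011c) (.leaf 0x7183e51aef)) (.node (.leaf 0x5e02060a9d) (.leaf 0x0))) (.node (.node (.leaf 0x5001228525) (.leaf 0x7984ee27fa)) (.node (.leaf 0x6982f611da) (.leaf 0x0)))) (.node (.node (.node (.leaf 0x4800b682f5) (.leaf 0x74846420c1)) (.node (.leaf 0x64c2858df2) (.leaf 0x0))) (.node (.node (.leaf 0x58c19187b1) (.leaf 0x7c4599b33a)) (.node (.leaf 0x6d836a160f) (.leaf 0x0))))))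
def Lv0T_19 : BT ℕ := .node (.node (.node (.node (.node (.node (.leaf 0x2c40120037) (.leaf 0x6d839697b4)) (.node (.leaf 0x5801bd089b) (.leaf 0x8005edbbda))) (.node (.node (.leaf 0x4e00df83d3) (.leaf 0x74c490a2a4)) (.node (.leaf 0x6402ad8f6d) (.leaf 0x0)))) (.node (.node (.node (.leaf 0x44807481b8) (.leaf 0x70c40e9cab)) (.node (.leaf 0x6182388bc1) (.leaf 0x0))) (.node (.node (.leaf 0x55414d0619) (.leaf 0x7845292b0f)) (.node (.leaf 0x69831f134d) (.leaf 0x0))))) (.node (.node (.node (.node (.leaf 0x3d404100e6) (.leaf 0x70c3d79a61)) (.node (.leaf 0x5d81f50a24) (.leaf 0x0))) (.node (.node (.leaf 0x50811604f1) (.leaf 0x7984df2759)) (.node (.leaf 0x6902e9114a) (.leaf 0x0)))) (.node (.node (.node (.leaf 0x4a00a882b5) (.leaf 0x74c455a00b)) (.node (.leaf 0x60c2758d8d) (.leaf 0x0))) (.node (.node (.leaf 0x5801840742) (.leaf 0x7c857f30e9)) (.node (.leaf 0x6c435e1594) (.leaf 0x0)))))) (.node (.node (.node (.node (.node (.leaf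 0x354029008c) (.leaf 0x6cc3b298e6)) (.node (.leaf 0x5c81db095b) (.leaf 0x0))) (.node (.node (.leaf 0x5140fa0444) (.leaf 0x74c4b12435)) (.node (.leaf 0x64c2cb1066) (.leaf 0x0)))) (.node (.node (.node (.leaf 0x45408e0233) (.leaf 0x70c4311e30)) (.node (.leaf 0x6082530ca3) (.leaf 0x0))) (.node (.node (.leaf 0x55016706a9) (.leaf 0x7c8556af0a)) (.node (.leaf 0x69833c947e) (.leaf 0x0))))) (.node (.node (.node (.node (.leaf 0x404059814e) (.leaf 0x7183f19b7f)) (.node (.leaf 0x5d021b8ae3) (.leaf 0x0))) (.node (.node (.leaf 0x540131055f) (.leaf 0x78c4fca89c)) (.node (.leaf 0x6883039265) (.leaf 0x0)))) (.node (.node (.node (.leaf 0x4c40c50335) (.leaf 0x75846fa14c)) (.node (.leaf 0x6482930e78) (.leaf 0x0))) (.node (.node (.leaf 0x59019e8808) (.leaf 0x8045b436c0)) (.node (.leaf 0x6d8376169a) (.leaf 0x0))))))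
def Lv0T_20 : BT ℕ := .node (.node (.node (.node (.node (.node (.leaf 0x194003000c) (.leaf 0x6d83829713)) (.node (.leaf 0x5a01a88856) (.leaf 0x8045c5b81f))) (.node (.node (.leaf 0x4d40cd036b) (.leaf 0x75847ba1bc)) (.node (.leaf 0x64029c8edd) (.leaf 0x0)))) (.node (.node (.node (.leaf 0x4140618176) (.leaf 0x70c3fd1bfa)) (.node (.leaf 0x6042288b2c) (.leaf 0x0))) (.node (.node (.leaf 0x55413b05a4) (.leaf 0x78450ba954)) (.node (.leaf 0x68c30e12cb) (.leaf 0x0))))) (.node (.node (.node (.node (.leaf 0x38003200ad) (.leaf 0x6e03c41988)) (.node (.leaf 0x5c41e609b9) (.leaf 0x0))) (.node (.node (.leaf 0x5141038485) (.leaf 0x7444c0a544)) (.node (.leaf 0x64c2d810c7) (.leaf 0x0)))) (.node (.node (.node (.leaf 0x48009a0263) (.leaf 0x71843e1ee3)) (.node (.leaf 0x60c25e0cf6) (.leaf 0x0))) (.node (.node (.leaf 0x54c17186d0) (.leaf 0x7c4564afc0)) (.node (.leaf 0x69434994d1) (.leaf 0x0)))))) (.node (.node (.node (.node (.node (.leaf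 0x31401a0056) (.leaf 0x6d83a1181b)) (.node (.leaf 0x5981ca08c7) (.leaf 0x850604bfb4))) (.node (.node (.leaf 0x4d40e883f2) (.leaf 0x7484a1238f)) (.node (.leaf 0x64c2b80fbe) (.leaf 0x0)))) (.node (.node (.node (.leaf 0x46007d01e9) (.leaf 0x70c41e1d48)) (.node (.leaf 0x6042438c30) (.leaf 0x0))) (.node (.node (.leaf 0x54c1578663) (.leaf 0x7845392bb8)) (.node (.leaf 0x69832993a9) (.leaf 0x0))))) (.node (.node (.node (.node (.leaf 0x3e004a0112) (.leaf 0x7183e21acf)) (.node (.leaf 0x5c02018a81) (.leaf 0x0))) (.node (.node (.leaf 0x50c11f051b) (.leaf 0x7984e927c7)) (.node (.leaf 0x68c2f411c2) (.leaf 0x0)))) (.node (.node (.node (.leaf 0x4800b382ec) (.leaf 0x758461209b)) (.node (.leaf 0x60c2818dd0) (.leaf 0x0))) (.node (.node (.leaf 0x59418e0798) (.leaf 0x7c45953307)) (.node (.leaf 0x6d036695f0) (.leaf 0x0))))))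
def Lv0T_21 : BT ℕ := .node (.node (.node (.node (.node (.node (.leaf 0x2a000e002f) (.leaf 0x6d83911784)) (.node (.leaf 0x5901b70888) (.leaf 0x8045e0b9c2))) (.node (.node (.leaf 0x4c00db83b8) (.leaf 0x74848c2284)) (.node (.leaf 0x6502a98f52) (.leaf 0x0)))) (.node (.node (.node (.leaf 0x40006f01a5) (.leaf 0x71040c1c90)) (.node (.leaf 0x60c2360ba7) (.leaf 0x0))) (.node (.node (.leaf 0x54c1488603) (.leaf 0x78c524aae8)) (.node (.leaf 0x69431b132b) (.leaf 0x0))))) (.node (.node (.node (.node (.leaf 0x3c003f00d7) (.leaf 0x7143d49a37)) (.node (.leaf 0x5cc1f28a13) (.leaf 0x0))) (.node (.node (.leaf 0x51411204d6) (.leaf 0x7844d926ee)) (.node (.leaf 0x6842e6912b) (.leaf 0x0)))) (.node (.node (.node (.leaf 0x4800a582a5) (.leaf 0x7584519fda)) (.node (.leaf 0x6002718d78) (.leaf 0x0))) (.node (.node (.leaf 0x5941800728) (.leaf 0x7e057930ae)) (.node (.leaf 0x6d035a155e) (.leaf 0x0)))))) (.node (.node (.node (.node (.node (.leaf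 0x3600258081) (.leaf 0x6d83af18ba)) (.node (.leaf 0x5c01d80937) (.leaf 0x0))) (.node (.node (.leaf 0x5000f80436) (.leaf 0x7544ae242a)) (.node (.leaf 0x6442c79041) (.leaf 0x0)))) (.node (.node (.node (.leaf 0x44808b822a) (.leaf 0x72042c1de8)) (.node (.leaf 0x6082508c8c) (.leaf 0x0))) (.node (.node (.leaf 0x54c16486a0) (.leaf 0x7cc552aec0)) (.node (.leaf 0x6983381450) (.leaf 0x0))))) (.node (.node (.node (.node (.leaf 0x420056813b) (.leaf 0x7143ee9b60)) (.node (.leaf 0x5c42180ad5) (.leaf 0x0))) (.node (.node (.leaf 0x50c12c8549) (.leaf 0x78c4f92873)) (.node (.leaf 0x698300123e) (.leaf 0x0)))) (.node (.node (.node (.leaf 0x4d40c1831c) (.leaf 0x75046da133)) (.node (.leaf 0x6482908e59) (.leaf 0x0))) (.node (.node (.leaf 0x58c19b87f5) (.leaf 0x8045afb68a)) (.node (.leaf 0x6d03741684) (.leaf 0x0))))))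
def Lv0T_22 : BT ℕ := .node (.node (.node (.node (.node (.node (.leaf 0x254009001c) (.leaf 0x6d83899749)) (.node (.leaf 0x5801af0872) (.leaf 0x8085d138c9))) (.node (.node (.leaf 0x4d40d3838d) (.leaf 0x744485222b)) (.node (.leaf 0x6582a40f27) (.leaf 0x0)))) (.node (.node (.node (.leaf 0x4100688192) (.leaf 0x7084049c4a)) (.node (.leaf 0x61422f8b64) (.leaf 0x0))) (.node (.node (.leaf 0x55414205da) (.leaf 0x78c516a9bb)) (.node (.leaf 0x68431492fc) (.leaf 0x0))))) (.node (.node (.node (.node (.leaf 0x38003800c6) (.leaf 0x6e03cc19ca)) (.node (.leaf 0x5d01eb89dd) (.leaf 0x0))) (.node (.node (.leaf 0x52010a04a7) (.leaf 0x7984d1a690)) (.node (.leaf 0x6582df10f6) (.leaf 0x0)))) (.node (.node (.node (.leaf 0x4a009f8287) (.leaf 0x7204481f63)) (.node (.leaf 0x6142660d43) (.leaf 0x0))) (.node (.node (.leaf 0x5a017986f7) (.leaf 0x7cc570b05b)) (.node (.leaf 0x6843519505) (.leaf 0x0)))))) (.node (.node (.node (.node (.node (.leaf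 0x3080208069) (.leaf 0x6d83a81860)) (.node (.leaf 0x5d01d08903) (.leaf 0x0))) (.node (.node (.leaf 0x4c40f08408) (.leaf 0x7484a823eb)) (.node (.leaf 0x6502be8fef) (.leaf 0x0)))) (.node (.node (.node (.leaf 0x4540830208) (.leaf 0x7184249d90)) (.node (.leaf 0x6182488c55) (.leaf 0x0))) (.node (.node (.leaf 0x54015e0688) (.leaf 0x7c4549ae30)) (.node (.leaf 0x69833113f5) (.leaf 0x0))))) (.node (.node (.node (.node (.leaf 0x3e004f8124) (.leaf 0x7183e81b15)) (.node (.leaf 0x5c020c8ab0) (.leaf 0x0))) (.node (.node (.leaf 0x5001260533) (.leaf 0x7904f32835)) (.node (.leaf 0x6982f991f7) (.leaf 0x0)))) (.node (.node (.node (.leaf 0x4840ba02ff) (.leaf 0x74c466a0da)) (.node (.leaf 0x6442890e12) (.leaf 0x0))) (.node (.node (.leaf 0x59019407c1) (.leaf 0x7e05a033be)) (.node (.leaf 0x6d036d9636) (.leaf 0x0))))))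
def Lv0T_23 : BT ℕ := .node (.node (.node (.node (.node (.node (.leaf 0x2e00140043) (.leaf 0x6c039b17e0)) (.node (.leaf 0x5881c088a6) (.leaf 0x8405f7be7a))) (.node (.node (.leaf 0x4d40e203de) (.leaf 0x758495a2de)) (.node (.leaf 0x6402b10f85) (.leaf 0x0)))) (.node (.node (.node (.leaf 0x46007701c9) (.leaf 0x7184159ce8)) (.node (.leaf 0x61023b8be4) (.leaf 0x0))) (.node (.node (.leaf 0x54c1508632) (.leaf 0x78c52eab5e)) (.node (.leaf 0x6983229373) (.leaf 0x0))))) (.node (.node (.node (.node (.leaf 0x3e004380f4) (.leaf 0x7183db9a8f)) (.node (.leaf 0x5d81f88a3d) (.leaf 0x0))) (.node (.node (.leaf 0x5201188506) (.leaf 0x78c4e2a77d)) (.node (.leaf 0x6982ed1174) (.leaf 0x0)))) (.node (.node (.node (.leaf 0x4800ad02cb) (.leaf 0x75845a2050)) (.node (.leaf 0x60027a8da3) (.leaf 0x0))) (.node (.node (.leaf 0x58c1870764) (.leaf 0x7e0584315d)) (.node (.leaf 0x6cc36095b8) (.leaf 0x0)))))) (.node (.node (.node (.node (.node (.leaf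 0x36002c8094) (.leaf 0x6e03b69927)) (.node (.leaf 0x5d01dd8978) (.leaf 0x0))) (.node (.node (.leaf 0x5000fd845b) (.leaf 0x7604b6249d)) (.node (.leaf 0x6402d01097) (.leaf 0x0)))) (.node (.node (.node (.leaf 0x454092023e) (.leaf 0x7184349e58)) (.node (.leaf 0x6042558cb9) (.leaf 0x0))) (.node (.node (.leaf 0x55416b06b9) (.leaf 0x7d855b2f61)) (.node (.leaf 0x69834214a4) (.leaf 0x0))))) (.node (.node (.node (.node (.leaf 0x41405c015a) (.leaf 0x7083f51baa)) (.node (.leaf 0x5d82208af8) (.leaf 0x0))) (.node (.node (.leaf 0x544135057f) (.leaf 0x784502a8cd)) (.node (.leaf 0x6983071287) (.leaf 0x0)))) (.node (.node (.node (.leaf 0x4d40c70343) (.leaf 0x760472216c)) (.node (.leaf 0x6442958e96) (.leaf 0x0))) (.node (.node (.leaf 0x5881a28826) (.leaf 0x8105b7b71c)) (.node (.leaf 0x6d837c16d0) (.leaf 0x0))))))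
def Lv0T_24 : BT ℕ := .node (.node (.node (.node (.node (.node (.leaf 0x14c0020008) (.leaf 0x6d03811704)) (.node (.leaf 0x5801a80850) (.leaf 0x8045c3b81a))) (.node (.node (.leaf 0x4d40cb8362) (.leaf 0x75847a21b7)) (.node (.leaf 0x64029b0ecb) (.leaf 0x0)))) (.node (.node (.node (.leaf 0x420060016f) (.leaf 0x7143fc1bf4)) (.node (.leaf 0x6082270b1b) (.leaf 0x0))) (.node (.node (.leaf 0x5601390597) (.leaf 0x7a0508a911)) (.node (.leaf 0x69030c12bf) (.leaf 0x0))))) (.node (.node (.node (.node (.leaf 0x39403080a6) (.leaf 0x6d83c11979)) (.node (.leaf 0x5d41e409a9) (.leaf 0x0))) (.node (.node (.leaf 0x520101847b) (.leaf 0x7444be2507)) (.node (.leaf 0x6582d590b8) (.leaf 0x0)))) (.node (.node (.node (.leaf 0x4a0098825a) (.leaf 0x70443a9ea9)) (.node (.leaf 0x60025c0ce4) (.leaf 0x0))) (.node (.node (.leaf 0x54c16f86c9) (.leaf 0x7d8562afba)) (.node (.leaf 0x68034794c5) (.leaf 0x0)))))) (.node (.node (.node (.node (.node (.leaf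 0x318019004f) (.leaf 0x6d839f980d)) (.node (.leaf 0x5981c808bd) (.leaf 0x8486033faf))) (.node (.node (.leaf 0x4d40e783eb) (.leaf 0x7484a0236b)) (.node (.leaf 0x6502b60fb2) (.leaf 0x0)))) (.node (.node (.node (.leaf 0x44407c81e3) (.leaf 0x71441d1d43)) (.node (.leaf 0x6042420c22) (.leaf 0x0))) (.node (.node (.leaf 0x5441560658) (.leaf 0x7a05362bb2)) (.node (.leaf 0x690328139b) (.leaf 0x0))))) (.node (.node (.node (.node (.leaf 0x3e00480109) (.leaf 0x7183e01abd)) (.node (.leaf 0x5cc1ff0a6d) (.leaf 0x0))) (.node (.node (.leaf 0x50011d8517) (.leaf 0x7984e7a7c2)) (.node (.leaf 0x68c2f291b0) (.leaf 0x0)))) (.node (.node (.node (.leaf 0x4940b182e7) (.leaf 0x75845fa08b)) (.node (.leaf 0x60c27f8dbe) (.leaf 0x0))) (.node (.node (.leaf 0x59418c078c) (.leaf 0x7c45923233)) (.node (.leaf 0x6c436515e3) (.leaf 0x0))))))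
def Lv0T_25 : BT ℕ := .node (.node (.node (.node (.node (.node (.leaf 0x2a000d002a) (.leaf 0x6cc38f9776)) (.node (.leaf 0x5901b50881) (.leaf 0x8045de399e))) (.node (.node (.leaf 0x4d40d983ab) (.leaf 0x75848a226e)) (.node (.leaf 0x6442a80f4a) (.leaf 0x0)))) (.node (.node (.node (.leaf 0x41406d01a0) (.leaf 0x71840a1c7e)) (.node (.leaf 0x6042350b98) (.leaf 0x0))) (.node (.node (.leaf 0x54c14705f9) (.leaf 0x7845202a45)) (.node (.leaf 0x6983191322) (.leaf 0x0))))) (.node (.node (.node (.node (.leaf 0x39403c80d2) (.leaf 0x7083d31a23)) (.node (.leaf 0x5c41f18a09) (.leaf 0x0))) (.node (.node (.leaf 0x50c10f84c8) (.leaf 0x7a04d726e9)) (.node (.leaf 0x6442e49115) (.leaf 0x0)))) (.node (.node (.node (.leaf 0x4a00a3829c) (.leaf 0x7504511fd6)) (.node (.leaf 0x60c26e0d6a) (.leaf 0x0))) (.node (.node (.leaf 0x59817e871f) (.leaf 0x7cc577b0a7)) (.node (.leaf 0x6d0358954f) (.leaf 0x0)))))) (.node (.node (.node (.node (.node (.leaf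 0x360024007a) (.leaf 0x6e03ad189f)) (.node (.leaf 0x5c01d60927) (.leaf 0x0))) (.node (.node (.leaf 0x5200f60428) (.leaf 0x7604aba40c)) (.node (.leaf 0x6442c5102b) (.leaf 0x0)))) (.node (.node (.node (.leaf 0x4600898226) (.leaf 0x70c42a9dd3)) (.node (.leaf 0x61824e0c7b) (.leaf 0x0))) (.node (.node (.leaf 0x548163869c) (.leaf 0x7e054fae7b)) (.node (.leaf 0x68c3369433) (.leaf 0x0))))) (.node (.node (.node (.node (.leaf 0x40c0558133) (.leaf 0x7083ed1b4b)) (.node (.leaf 0x5d82150ac8) (.leaf 0x0))) (.node (.node (.leaf 0x51012a8542) (.leaf 0x78c4f7285a)) (.node (.leaf 0x6902fe922e) (.leaf 0x0)))) (.node (.node (.node (.leaf 0x48c0c00310) (.leaf 0x74046c211f)) (.node (.leaf 0x64828f8e4b) (.leaf 0x0))) (.node (.node (.leaf 0x58819a87ed) (.leaf 0x8205ad366b)) (.node (.leaf 0x6c03729670) (.leaf 0x0))))))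
def Lv0T_26 : BT ℕ := .node (.node (.node (.node (.node (.node (.leaf 0x2180070018) (.leaf 0x6d8388173b)) (.node (.leaf 0x5a01ad0868) (.leaf 0x8045cf38a9))) (.node (.node (.leaf 0x4e00d18382) (.leaf 0x7604832223)) (.node (.leaf 0x6482a30f1e) (.leaf 0x0)))) (.node (.node (.node (.leaf 0x400067018e) (.leaf 0x7184029c37)) (.node (.leaf 0x61822c8b54) (.leaf 0x0))) (.node (.node (.leaf 0x55014005d1) (.leaf 0x78c51429a2)) (.node (.leaf 0x68031312f2) (.leaf 0x0))))) (.node (.node (.node (.node (.leaf 0x38403680c2) (.leaf 0x6cc3ca99bc)) (.node (.leaf 0x5d01e989d3) (.leaf 0x0))) (.node (.node (.leaf 0x520108849f) (.leaf 0x7904d1268c)) (.node (.leaf 0x6582dd10e8) (.leaf 0x0)))) (.node (.node (.node (.leaf 0x48409f0281) (.leaf 0x7044469f4a)) (.node (.leaf 0x6182640d28) (.leaf 0x0))) (.node (.node (.leaf 0x54017786e6) (.leaf 0x7d856e3036)) (.node (.leaf 0x6a034f14f9) (.leaf 0x0)))))) (.node (.node (.node (.node (.node (.leaf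 0x31401e0065) (.leaf 0x6cc3a69852)) (.node (.leaf 0x5d01cf88f8) (.leaf 0x89061cc55e))) (.node (.node (.leaf 0x4cc0ee0401) (.leaf 0x7544a6a3d5)) (.node (.leaf 0x6502bd0fe5) (.leaf 0x0)))) (.node (.node (.node (.leaf 0x46008101fe) (.leaf 0x7104241d8c)) (.node (.leaf 0x6102470c4e) (.leaf 0x0))) (.node (.node (.leaf 0x54415c8684) (.leaf 0x784543acd0)) (.node (.leaf 0x69832e93d4) (.leaf 0x0))))) (.node (.node (.node (.node (.leaf 0x3d404e0120) (.leaf 0x7183e69b05)) (.node (.leaf 0x5e020a8aa5) (.leaf 0x0))) (.node (.node (.leaf 0x520124052d) (.leaf 0x7984f0a81d)) (.node (.leaf 0x6902f811eb) (.leaf 0x0)))) (.node (.node (.node (.leaf 0x4940b802fb) (.leaf 0x754465a0d5)) (.node (.leaf 0x6502868dfb) (.leaf 0x0))) (.node (.node (.leaf 0x59019287b8) (.leaf 0x7c459d3393)) (.node (.leaf 0x6c436c1626) (.leaf 0x0))))))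
def Lv0T_27 : BT ℕ := .node (.node (.node (.node (.node (.node (.leaf 0x2e0012803d) (.leaf 0x6cc39817b9)) (.node (.leaf 0x58c1bf08a1) (.leaf 0x8445f5be3d))) (.node (.node (.leaf 0x4c00e083d8) (.leaf 0x758493a2c6)) (.node (.leaf 0x6402af0f75) (.leaf 0x0)))) (.node (.node (.node (.leaf 0x44807681c3) (.leaf 0x70c4121cc7)) (.node (.leaf 0x60423a0bd5) (.leaf 0x0))) (.node (.node (.leaf 0x54014f0628) (.leaf 0x78c52bab3e)) (.node (.leaf 0x6843211363) (.leaf 0x0))))) (.node (.node (.node (.node (.leaf 0x3d404280ee) (.leaf 0x70c3d99a7d)) (.node (.leaf 0x5d01f68a30) (.leaf 0x0))) (.node (.node (.leaf 0x5081180501) (.leaf 0x7944e1a778)) (.node (.leaf 0x6982ea9156) (.leaf 0x0)))) (.node (.node (.node (.leaf 0x4940aa82bf) (.leaf 0x74c457a036)) (.node (.leaf 0x6042778d96) (.leaf 0x0))) (.node (.node (.leaf 0x5841860755) (.leaf 0x7c85823118)) (.node (.leaf 0x6c835f95a7) (.leaf 0x0)))))) (.node (.node (.node (.node (.node (.leaf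 0x36002a0090) (.leaf 0x6cc3b5190b)) (.node (.leaf 0x5d81dc0965) (.leaf 0x0))) (.node (.node (.leaf 0x5200fb844d) (.leaf 0x7604b3a47d)) (.node (.leaf 0x6402cd1084) (.leaf 0x0)))) (.node (.node (.node (.leaf 0x4400900238) (.leaf 0x7204329e37)) (.node (.leaf 0x6182540cab) (.leaf 0x0))) (.node (.node (.leaf 0x54416986af) (.leaf 0x7d05582f0f)) (.node (.leaf 0x6943409497) (.leaf 0x0))))) (.node (.node (.node (.node (.leaf 0x41405a8154) (.leaf 0x7183f31b91)) (.node (.leaf 0x5d021e0aed) (.leaf 0x0))) (.node (.node (.leaf 0x554133056e) (.leaf 0x78c4ff28b1)) (.node (.leaf 0x688305926f) (.leaf 0x0)))) (.node (.node (.node (.leaf 0x4e00c5833b) (.leaf 0x748471a167)) (.node (.leaf 0x6582940e82) (.leaf 0x0))) (.node (.node (.leaf 0x5841a10817) (.leaf 0x8085b63717)) (.node (.leaf 0x6d837816ae) (.leaf 0x0))))))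
def Lv0T_28 : BT ℕ := .node (.node (.node (.node (.node (.node (.leaf 0x1d40048010) (.leaf 0x6c43851722)) (.node (.leaf 0x5941aa085e) (.leaf 0x8045cab876))) (.node (.node (.leaf 0x4c40cf0375) (.leaf 0x75847da1d9)) (.node (.leaf 0x64029e8ef3) (.leaf 0x0)))) (.node (.node (.node (.leaf 0x414063017f) (.leaf 0x70c3ff1bff)) (.node (.leaf 0x60c2298b38) (.leaf 0x0))) (.node (.node (.leaf 0x54413d05b6) (.leaf 0x79850f2975)) (.node (.leaf 0x69030f12d3) (.leaf 0x0))))) (.node (.node (.node (.node (.leaf 0x39403300b3) (.leaf 0x6e03c6199a)) (.node (.leaf 0x5c81e789c4) (.leaf 0x0))) (.node (.node (.leaf 0x504105848f) (.leaf 0x7604c22566)) (.node (.leaf 0x6582d910d0) (.leaf 0x0)))) (.node (.node (.node (.leaf 0x4a009b026b) (.leaf 0x7084409f0d)) (.node (.leaf 0x61825f0d02) (.leaf 0x0))) (.node (.node (.leaf 0x55817286d4) (.leaf 0x7c45672fe0)) (.node (.leaf 0x68c34b14dd) (.leaf 0x0)))))) (.node (.node (.node (.node (.node (.leaf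 0x30801b805c) (.leaf 0x6d83a2982c)) (.node (.leaf 0x5c41cc08d4) (.leaf 0x860609c029))) (.node (.node (.leaf 0x4d40ea83f7) (.leaf 0x7544a2a3aa)) (.node (.leaf 0x6502b90fc6) (.leaf 0x0)))) (.node (.node (.node (.leaf 0x44007f01f2) (.leaf 0x7104209d69)) (.node (.leaf 0x6082450c3d) (.leaf 0x0))) (.node (.node (.leaf 0x558159866e) (.leaf 0x7a053bac0b)) (.node (.leaf 0x68c32b93ba) (.leaf 0x0))))) (.node (.node (.node (.node (.leaf 0x3d404b8118) (.leaf 0x7183e39adf)) (.node (.leaf 0x5d42040a93) (.leaf 0x0))) (.node (.node (.leaf 0x50c1208520) (.leaf 0x78c4eba7e2)) (.node (.leaf 0x6902f511cc) (.leaf 0x0)))) (.node (.node (.node (.leaf 0x48c0b502f0) (.leaf 0x758462a0ab)) (.node (.leaf 0x6582838dda) (.leaf 0x0))) (.node (.node (.leaf 0x58019007a7) (.leaf 0x7c4597b335)) (.node (.leaf 0x6d83681602) (.leaf 0x0))))))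
def Lv0T_29 : BT ℕ := .node (.node (.node (.node (.node (.node (.leaf 0x28c0100033) (.leaf 0x6d4394979c)) (.node (.leaf 0x5a01bb0890) (.leaf 0x8045e5bb10))) (.node (.node (.leaf 0x4c00de03c6) (.leaf 0x74c48da28a)) (.node (.leaf 0x6582aa8f5b) (.leaf 0x0)))) (.node (.node (.node (.leaf 0x44407301ae) (.leaf 0x71840c9c94)) (.node (.leaf 0x6082378bb7) (.leaf 0x0))) (.node (.node (.leaf 0x55414b060d) (.leaf 0x7985272b09)) (.node (.leaf 0x69831d133e) (.leaf 0x0))))) (.node (.node (.node (.node (.leaf 0x3e003f80dd) (.leaf 0x7143d69a5c)) (.node (.leaf 0x5c81f40a1d) (.leaf 0x0))) (.node (.node (.leaf 0x50011404e5) (.leaf 0x7844dba726)) (.node (.leaf 0x68c2e8113f) (.leaf 0x0)))) (.node (.node (.node (.leaf 0x4880a782af) (.leaf 0x754454a006)) (.node (.leaf 0x6002740d82) (.leaf 0x0))) (.node (.node (.leaf 0x5a01820734) (.leaf 0x7c057d30d2)) (.node (.leaf 0x6d435c157e) (.leaf 0x0)))))) (.node (.node (.node (.node (.node (.leaf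 0x3600278088) (.leaf 0x6d83b118d5)) (.node (.leaf 0x5cc1d98948) (.leaf 0x0))) (.node (.node (.leaf 0x5140f9843f) (.leaf 0x74c4af2430)) (.node (.leaf 0x6402c9905b) (.leaf 0x0)))) (.node (.node (.node (.leaf 0x46008c822e) (.leaf 0x70c42e9e01)) (.node (.leaf 0x6182518c96) (.leaf 0x0))) (.node (.node (.leaf 0x54c16606a5) (.leaf 0x7e05542ec7)) (.node (.leaf 0x6a03399467) (.leaf 0x0))))) (.node (.node (.node (.node (.leaf 0x4080580143) (.leaf 0x70c3ef9b65)) (.node (.leaf 0x5cc2198add) (.leaf 0x0))) (.node (.node (.leaf 0x51812e854f) (.leaf 0x7984fb2895)) (.node (.leaf 0x6983019251) (.leaf 0x0)))) (.node (.node (.node (.leaf 0x4d40c30329) (.leaf 0x75846e2137)) (.node (.leaf 0x6582918e65) (.leaf 0x0))) (.node (.node (.leaf 0x59019c87fe) (.leaf 0x8045b236bb)) (.node (.leaf 0x6d83749688) (.leaf 0x0))))))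
def Lv0T_30 : BT ℕ := .node (.node (.node (.node (.node (.node (.leaf 0x2600098021) (.leaf 0x6c838b975a)) (.node (.leaf 0x5881b10877) (.leaf 0x8205d338fa))) (.node (.node (.leaf 0x4c00d58397) (.leaf 0x744487a24d)) (.node (.leaf 0x6482a58f34) (.leaf 0x0)))) (.node (.node (.node (.leaf 0x4140698196) (.leaf 0x7184061c56)) (.node (.leaf 0x6002318b73) (.leaf 0x0))) (.node (.node (.leaf 0x55414385e4) (.leaf 0x78c51a29ff)) (.node (.leaf 0x6903161308) (.leaf 0x0))))) (.node (.node (.node (.node (.leaf 0x38003900ca) (.leaf 0x70c3cf99f5)) (.node (.leaf 0x5d81ec89e6) (.leaf 0x0))) (.node (.node (.leaf 0x51410c04b4) (.leaf 0x7984d326aa)) (.node (.leaf 0x6542e110ff) (.leaf 0x0)))) (.node (.node (.node (.leaf 0x4800a18290) (.leaf 0x70844c1f73)) (.node (.leaf 0x6002680d50) (.leaf 0x0))) (.node (.node (.leaf 0x58417b8707) (.leaf 0x7cc572b060)) (.node (.leaf 0x6c03551529) (.leaf 0x0)))))) (.node (.node (.node (.node (.node (.leaf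 0x358022006d) (.leaf 0x6d83aa1874)) (.node (.leaf 0x5e01d2090e) (.leaf 0x0))) (.node (.node (.leaf 0x4d80f2040d) (.leaf 0x7604a8a3f0)) (.node (.leaf 0x6582c00ffb) (.leaf 0x0)))) (.node (.node (.node (.leaf 0x4540858213) (.leaf 0x7184261da7)) (.node (.leaf 0x60424a8c61) (.leaf 0x0))) (.node (.node (.leaf 0x55415f8691) (.leaf 0x7d854bae52)) (.node (.leaf 0x680333140c) (.leaf 0x0))))) (.node (.node (.node (.node (.leaf 0x3d40518129) (.leaf 0x7183ea1b25)) (.node (.leaf 0x5d020f0ab6) (.leaf 0x0))) (.node (.node (.leaf 0x5041280539) (.leaf 0x78c4f4283a)) (.node (.leaf 0x6842fb920e) (.leaf 0x0)))) (.node (.node (.node (.leaf 0x4900bc0304) (.leaf 0x74846820ee)) (.node (.leaf 0x65428b8e26) (.leaf 0x0))) (.node (.node (.leaf 0x59419687cd) (.leaf 0x7e05a2b3f9)) (.node (.leaf 0x6d036f1648) (.leaf 0x0))))))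
def Lv0T_31 : BT ℕ := .node (.node (.node (.node (.node (.node (.leaf 0x2c40158047) (.leaf 0x6c839c97f3)) (.node (.leaf 0x5981c188ac) (.leaf 0x8405f93e7e))) (.node (.node (.leaf 0x4c40e403e2) (.leaf 0x75849822f9)) (.node (.leaf 0x6482b28f92) (.leaf 0x0)))) (.node (.node (.node (.leaf 0x44807981d5) (.leaf 0x70c4191d0f)) (.node (.leaf 0x61023d8bf9) (.leaf 0x0))) (.node (.node (.leaf 0x54c152063a) (.leaf 0x7985312b7d)) (.node (.leaf 0x698324937c) (.leaf 0x0))))) (.node (.node (.node (.node (.leaf 0x3d404580fb) (.leaf 0x7043dd1aa3)) (.node (.leaf 0x5cc1fb8a54) (.leaf 0x0))) (.node (.node (.leaf 0x50011a050b) (.leaf 0x78c4e4a791)) (.node (.leaf 0x6842f01190) (.leaf 0x0)))) (.node (.node (.node (.leaf 0x4800af02d8) (.leaf 0x74445ca06d)) (.node (.leaf 0x61427c0dad) (.leaf 0x0))) (.node (.node (.leaf 0x58c1888771) (.leaf 0x7cc58931a0)) (.node (.leaf 0x6d036195c2) (.leaf 0x0)))))) (.node (.node (.node (.node (.node (.leaf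 0x38402e8098) (.leaf 0x6cc3bc995a)) (.node (.leaf 0x5c41df8987) (.leaf 0x0))) (.node (.node (.leaf 0x5080ff846c) (.leaf 0x7444b924d7)) (.node (.leaf 0x64c2d190a2) (.leaf 0x0)))) (.node (.node (.node (.leaf 0x4400948243) (.leaf 0x7184369e76)) (.node (.leaf 0x6102570cc1) (.leaf 0x0))) (.node (.node (.leaf 0x54416d06bf) (.leaf 0x7cc55daf7a)) (.node (.leaf 0x68c34414ac) (.leaf 0x0))))) (.node (.node (.node (.node (.leaf 0x41405d0161) (.leaf 0x7203f59baf)) (.node (.leaf 0x5c02238b04) (.leaf 0x0))) (.node (.node (.leaf 0x5541368588) (.leaf 0x784504a8e3)) (.node (.leaf 0x698309129a) (.leaf 0x0)))) (.node (.node (.node (.leaf 0x4c00c90351) (.leaf 0x758474a183)) (.node (.leaf 0x6502970ea3) (.leaf 0x0))) (.node (.node (.leaf 0x5881a40832) (.leaf 0x80c5be37b8)) (.node (.leaf 0x6d837d96d5) (.leaf 0x0))))))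
def Lv0T_32 : BT ℕ := .node (.node (.node (.node (.node (.node (.leaf 0x500000003) (.leaf 0x6cc37f96f3)) (.node (.leaf 0x5981a50838) (.leaf 0x80c5c0b7e8))) (.node (.node (.leaf 0x4cc0ca0359) (.leaf 0x7584762187)) (.node (.leaf 0x6502980eae) (.leaf 0x0)))) (.node (.node (.node (.leaf 0x41005e8166) (.leaf 0x70c3f71bb3)) (.node (.leaf 0x5d82248b0b) (.leaf 0x0))) (.node (.node (.leaf 0x560137058d) (.leaf 0x78c506a907)) (.node (.leaf 0x68c30a92ae) (.leaf 0x0))))) (.node (.node (.node (.node (.leaf 0x38c02f009c) (.leaf 0x6c43be195e)) (.node (.leaf 0x5d01e10992) (.leaf 0x0))) (.node (.node (.leaf 0x5101000472) (.leaf 0x7584bc2500)) (.node (.leaf 0x6402d410ae) (.leaf 0x0)))) (.node (.node (.node (.leaf 0x44c0960247) (.leaf 0x70c4381e8b)) (.node (.leaf 0x6102580cc9) (.leaf 0x0))) (.node (.node (.leaf 0x54416e06c3) (.leaf 0x7d855faf91)) (.node (.leaf 0x69834514b6) (.leaf 0x0)))))) (.node (.node (.node (.node (.node (.leaf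 0x2c4017004a) (.leaf 0x6c439e17fe)) (.node (.leaf 0x5841c508b4) (.leaf 0x8445ff3f46))) (.node (.node (.leaf 0x4c80e583e6) (.leaf 0x74449b231a)) (.node (.leaf 0x64c2b48f9f) (.leaf 0x0)))) (.node (.node (.node (.leaf 0x45007a01d9) (.leaf 0x70041b9d2e)) (.node (.leaf 0x61823f0c06) (.leaf 0x0))) (.node (.node (.leaf 0x5581530640) (.leaf 0x7a0532ab83)) (.node (.leaf 0x6983251385) (.leaf 0x0))))) (.node (.node (.node (.node (.leaf 0x3e00460100) (.leaf 0x7043de9aaf)) (.node (.leaf 0x5c81fc8a5a) (.leaf 0x0))) (.node (.node (.leaf 0x52011b0510) (.leaf 0x7884e627a4)) (.node (.leaf 0x6882f191a1) (.leaf 0x0)))) (.node (.node (.node (.leaf 0x4940b002e1) (.leaf 0x75045da078)) (.node (.leaf 0x60c27d0db1) (.leaf 0x0))) (.node (.node (.leaf 0x5981898778) (.leaf 0x7cc58ab1a4)) (.node (.leaf 0x6d036295cb) (.leaf 0x0))))))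
def Lv0T_33 : BT ℕ := .node (.node (.node (.node (.node (.node (.leaf 0x26000a8024) (.leaf 0x6d838d1766)) (.node (.leaf 0x5881b2087c) (.leaf 0x8205d4b8ff))) (.node (.node (.leaf 0x4d00d7039e) (.leaf 0x750488a25a)) (.node (.leaf 0x6502a60f3b) (.leaf 0x0)))) (.node (.node (.node (.leaf 0x40006b019a) (.leaf 0x7184071c62)) (.node (.leaf 0x6042330b82) (.leaf 0x0))) (.node (.node (.leaf 0x54014505ee) (.leaf 0x79851c2a1c)) (.node (.leaf 0x6803179313) (.leaf 0x0))))) (.node (.node (.node (.node (.leaf 0x3a003a00cd) (.leaf 0x7183d01a05)) (.node (.leaf 0x5c41ef89f6) (.leaf 0x0))) (.node (.node (.leaf 0x50410d84bd) (.leaf 0x78c4d426ae)) (.node (.leaf 0x6582e21108) (.leaf 0x0)))) (.node (.node (.node (.leaf 0x48c0a30295) (.leaf 0x74c44e9fb1)) (.node (.leaf 0x60026b8d5d) (.leaf 0x0))) (.node (.node (.leaf 0x58817d0714) (.leaf 0x7e0574307c)) (.node (.leaf 0x6d03561538) (.leaf 0x0)))))) (.node (.node (.node (.node (.node (.leaf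 0x3600228072) (.leaf 0x6cc3ab1877)) (.node (.leaf 0x5d41d38915) (.leaf 0x0))) (.node (.node (.leaf 0x5200f40418) (.leaf 0x74c4aa23f4)) (.node (.leaf 0x6502c31016) (.leaf 0x0)))) (.node (.node (.node (.leaf 0x4500880220) (.leaf 0x70c4271dab)) (.node (.leaf 0x61024b8c68) (.leaf 0x0))) (.node (.node (.leaf 0x5401610695) (.leaf 0x7cc54d2e56)) (.node (.leaf 0x698333940f) (.leaf 0x0))))) (.node (.node (.node (.node (.leaf 0x3d4053812d) (.leaf 0x7183eb1b36)) (.node (.leaf 0x5d02108abc) (.leaf 0x0))) (.node (.node (.leaf 0x508129053c) (.leaf 0x7984f52853)) (.node (.leaf 0x6802fd121d) (.leaf 0x0)))) (.node (.node (.node (.leaf 0x4800bd8309) (.leaf 0x748469a10a)) (.node (.leaf 0x64028d0e31) (.leaf 0x0))) (.node (.node (.leaf 0x59419807d9) (.leaf 0x7c45a834e6)) (.node (.leaf 0x6d0370965b) (.leaf 0x0))))))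
def Lv0T_34 : BT ℕ := .node (.node (.node (.node (.node (.node (.leaf 0x1e00050013) (.leaf 0x6c4386972c)) (.node (.leaf 0x5a01ab0862) (.leaf 0x80c5ccb8a2))) (.node (.node (.leaf 0x4d00d0837a) (.leaf 0x74c47ea1de)) (.node (.leaf 0x65829f0ef6) (.leaf 0x0)))) (.node (.node (.node (.leaf 0x4140658189) (.leaf 0x7044011c27)) (.node (.leaf 0x61822a8b40) (.leaf 0x0))) (.node (.node (.leaf 0x54413e05c1) (.leaf 0x78c5112987)) (.node (.leaf 0x69031012dc) (.leaf 0x0))))) (.node (.node (.node (.node (.leaf 0x3a003400b8) (.leaf 0x6e03c799ad)) (.node (.leaf 0x5cc1e809c9) (.leaf 0x0))) (.node (.node (.leaf 0x5081070497) (.leaf 0x7604c825ed)) (.node (.leaf 0x6502db10da) (.leaf 0x0)))) (.node (.node (.node (.leaf 0x4a009c8272) (.leaf 0x7184429f29)) (.node (.leaf 0x6042618d10) (.leaf 0x0))) (.node (.node (.leaf 0x54c17486db) (.leaf 0x7cc56b3017)) (.node (.leaf 0x68c34c94ec) (.leaf 0x0)))))) (.node (.node (.node (.node (.node (.leaf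 0x30c01c8060) (.leaf 0x6cc3a39830)) (.node (.leaf 0x5c01cd88e3) (.leaf 0x848615c253))) (.node (.node (.leaf 0x4c40ec03fb) (.leaf 0x7604a323ae)) (.node (.leaf 0x6502ba0fcf) (.leaf 0x0)))) (.node (.node (.node (.leaf 0x45008001f6) (.leaf 0x7144221d79)) (.node (.leaf 0x6102458c44) (.leaf 0x0))) (.node (.node (.leaf 0x55415b067c) (.leaf 0x7a0540aca2)) (.node (.leaf 0x69832c93c5) (.leaf 0x0))))) (.node (.node (.node (.node (.leaf 0x3c804d011b) (.leaf 0x7183e49aee)) (.node (.leaf 0x5c02058a9b) (.leaf 0x0))) (.node (.node (.leaf 0x5101218523) (.leaf 0x7984eda7f8)) (.node (.leaf 0x6902f611d9) (.leaf 0x0)))) (.node (.node (.node (.leaf 0x4a00b602f4) (.leaf 0x758463a0c0)) (.node (.leaf 0x64c2850dec) (.leaf 0x0))) (.node (.node (.leaf 0x58819187b0) (.leaf 0x7c85993339)) (.node (.leaf 0x6d0369960e) (.leaf 0x0))))))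
def Lv0T_35 : BT ℕ := .node (.node (.node (.node (.node (.node (.leaf 0x2a00110036) (.leaf 0x6d839617b2)) (.node (.leaf 0x5841bc8899) (.leaf 0x8085e73b49))) (.node (.node (.leaf 0x4d40df83d2) (.leaf 0x75849022a2)) (.node (.leaf 0x6582ac0f64) (.leaf 0x0)))) (.node (.node (.node (.leaf 0x44007481b7) (.leaf 0x71840e1ca9)) (.node (.leaf 0x6102380bc0) (.leaf 0x0))) (.node (.node (.leaf 0x55414c8616) (.leaf 0x7a05282b0e)) (.node (.leaf 0x68c31e1342) (.leaf 0x0))))) (.node (.node (.node (.node (.leaf 0x3e004080e3) (.leaf 0x7203d71a60)) (.node (.leaf 0x5d01f48a23) (.leaf 0x0))) (.node (.node (.leaf 0x50c11584ee) (.leaf 0x7984dda748)) (.node (.leaf 0x6842e91149) (.leaf 0x0)))) (.node (.node (.node (.leaf 0x4940a882b3) (.leaf 0x760455200a)) (.node (.leaf 0x60c2750d89) (.leaf 0x0))) (.node (.node (.leaf 0x580183873e) (.leaf 0x7e057e30e8)) (.node (.leaf 0x6cc35d1582) (.leaf 0x0)))))) (.node (.node (.node (.node (.node (.leaf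 0x360028808b) (.leaf 0x6e03b218e5)) (.node (.leaf 0x5cc1da8954) (.leaf 0x0))) (.node (.node (.leaf 0x5080fa0443) (.leaf 0x7444b0a434)) (.node (.leaf 0x6582ca9065) (.leaf 0x0)))) (.node (.node (.node (.leaf 0x46008d8232) (.leaf 0x7044301e05)) (.node (.leaf 0x60c2528c9f) (.leaf 0x0))) (.node (.node (.leaf 0x54416706a8) (.leaf 0x7e0555af08)) (.node (.leaf 0x68c33c1479) (.leaf 0x0))))) (.node (.node (.node (.node (.leaf 0x400059014b) (.leaf 0x70c3f11b7e)) (.node (.leaf 0x5d821a8ae2) (.leaf 0x0))) (.node (.node (.leaf 0x554130855b) (.leaf 0x78c4fc289a)) (.node (.leaf 0x6983031264) (.leaf 0x0)))) (.node (.node (.node (.leaf 0x4c00c48332) (.leaf 0x75446fa14b)) (.node (.leaf 0x64c2928e71) (.leaf 0x0))) (.node (.node (.leaf 0x58c19e8807) (.leaf 0x8085b3b6bf)) (.node (.leaf 0x6d43761699) (.leaf 0x0))))))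
def Lv0T_36 : BT ℕ := .node (.node (.node (.node (.node (.node (.leaf 0x184003000b) (.leaf 0x6d03829712)) (.node (.leaf 0x5801a88854) (.leaf 0x8085c5381e))) (.node (.node (.leaf 0x4d40cc8369) (.leaf 0x74c47b21bb)) (.node (.leaf 0x65829b8ece) (.leaf 0x0)))) (.node (.node (.node (.leaf 0x40c0618175) (.leaf 0x7203fc9bf9)) (.node (.leaf 0x6002280b27) (.leaf 0x0))) (.node (.node (.leaf 0x54013a85a1) (.leaf 0x7a050aa951)) (.node (.leaf 0x68c30d92c6) (.leaf 0x0))))) (.node (.node (.node (.node (.leaf 0x39403180ab) (.leaf 0x6d83c41987)) (.node (.leaf 0x5c41e589b5) (.leaf 0x0))) (.node (.node (.leaf 0x5201030482) (.leaf 0x7444c0252b)) (.node (.leaf 0x64c2d790c3) (.leaf 0x0)))) (.node (.node (.node (.leaf 0x4940998260) (.leaf 0x70843c1ebe)) (.node (.leaf 0x61825c8ce7) (.leaf 0x0))) (.node (.node (.leaf 0x55017086cc) (.leaf 0x7e0563afbf)) (.node (.leaf 0x69834814cd) (.leaf 0x0)))))) (.node (.node (.node (.node (.node (.leaf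 0x3200198054) (.leaf 0x6d03a1181a)) (.node (.leaf 0x5801ca08c6) (.leaf 0x860603bfb3))) (.node (.node (.leaf 0x4e00e803f0) (.leaf 0x7584a0a38e)) (.node (.leaf 0x64c2b78fb9) (.leaf 0x0)))) (.node (.node (.node (.leaf 0x46007c81e7) (.leaf 0x71841d9d46)) (.node (.leaf 0x6002430c2c) (.leaf 0x0))) (.node (.node (.leaf 0x5481578662) (.leaf 0x788538abb7)) (.node (.leaf 0x69032993a8) (.leaf 0x0))))) (.node (.node (.node (.node (.leaf 0x3d4049810f) (.leaf 0x7183e19ace)) (.node (.leaf 0x5d82000a75) (.leaf 0x0))) (.node (.node (.leaf 0x50811f051a) (.leaf 0x78c4e8a7c6)) (.node (.leaf 0x6982f391bb) (.leaf 0x0)))) (.node (.node (.node (.leaf 0x4940b302eb) (.leaf 0x758460a09a)) (.node (.leaf 0x60c2808dc7) (.leaf 0x0))) (.node (.node (.leaf 0x59418d8795) (.leaf 0x7cc594b306)) (.node (.leaf 0x6c436695ef) (.leaf 0x0))))))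
def Lv0T_37 : BT ℕ := .node (.node (.node (.node (.node (.node (.leaf 0x29800e002e) (.leaf 0x6d83909783)) (.node (.leaf 0x5981b68887) (.leaf 0x8085e039c1))) (.node (.node (.leaf 0x4c00db03b5) (.leaf 0x74c48b2272)) (.node (.leaf 0x64c2a98f51) (.leaf 0x0)))) (.node (.node (.node (.leaf 0x41406e81a4) (.leaf 0x70c40b1c82)) (.node (.leaf 0x6082360ba6) (.leaf 0x0))) (.node (.node (.leaf 0x54c1480600) (.leaf 0x7985242ae7)) (.node (.leaf 0x69031b132a) (.leaf 0x0))))) (.node (.node (.node (.node (.leaf 0x38003e80d6) (.leaf 0x7103d49a36)) (.node (.leaf 0x5c81f28a12) (.leaf 0x0))) (.node (.node (.leaf 0x50011184d3) (.leaf 0x7a04d826ed)) (.node (.leaf 0x6482e61122) (.leaf 0x0)))) (.node (.node (.node (.leaf 0x4940a502a3) (.leaf 0x7484519fd9)) (.node (.leaf 0x6182700d72) (.leaf 0x0))) (.node (.node (.leaf 0x5a017f8725) (.leaf 0x7c457930ad)) (.node (.leaf 0x6c035a155d) (.leaf 0x0)))))) (.node (.node (.node (.node (.node (.leaf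 0x348025807f) (.leaf 0x6d43af18b9)) (.node (.leaf 0x5c01d78933) (.leaf 0x0))) (.node (.node (.leaf 0x5140f78432) (.leaf 0x74c4ad2410)) (.node (.leaf 0x6582c69039) (.leaf 0x0)))) (.node (.node (.node (.leaf 0x44408b0229) (.leaf 0x71842c1de7)) (.node (.leaf 0x6042500c86) (.leaf 0x0))) (.node (.node (.leaf 0x54c164069f) (.leaf 0x7c45522e9a)) (.node (.leaf 0x68c3379445) (.leaf 0x0))))) (.node (.node (.node (.node (.leaf 0x4040568139) (.leaf 0x7103ee9b5f)) (.node (.leaf 0x5c02178ad2) (.leaf 0x0))) (.node (.node (.leaf 0x50812c8548) (.leaf 0x7a04f8a872)) (.node (.leaf 0x690300123d) (.leaf 0x0)))) (.node (.node (.node (.leaf 0x4e00c10319) (.leaf 0x75846ca122)) (.node (.leaf 0x64c2900e53) (.leaf 0x0))) (.node (.node (.leaf 0x58819b87f4) (.leaf 0x80c5af3689)) (.node (.leaf 0x6d83731673) (.leaf 0x0))))))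
def Lv0T_38 : BT ℕ := .node (.node (.node (.node (.node (.node (.leaf 0x220008001b) (.leaf 0x6d03899748)) (.node (.leaf 0x5941ae8870) (.leaf 0x8205d038c8))) (.node (.node (.leaf 0x4d40d3038a) (.leaf 0x7604842229)) (.node (.leaf 0x6502a38f26) (.leaf 0x0)))) (.node (.node (.node (.leaf 0x4040688191) (.leaf 0x7184041c49)) (.node (.leaf 0x61422f0b61) (.leaf 0x0))) (.node (.node (.leaf 0x55414185d9) (.leaf 0x78451629ba)) (.node (.leaf 0x69831392f5) (.leaf 0x0))))) (.node (.node (.node (.node (.leaf 0x38003780c5) (.leaf 0x6c43cc19c9)) (.node (.leaf 0x5cc1eb89dc) (.leaf 0x0))) (.node (.node (.leaf 0x52010984a5) (.leaf 0x7884d1a68f)) (.node (.leaf 0x6582de90f4) (.leaf 0x0)))) (.node (.node (.node (.leaf 0x4a009f0285) (.leaf 0x7044481f61)) (.node (.leaf 0x60c2658d36) (.leaf 0x0))) (.node (.node (.leaf 0x58417906f1) (.leaf 0x7d85703059)) (.node (.leaf 0x6a03509504) (.leaf 0x0)))))) (.node (.node (.node (.node (.node (.leaf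 0x3140200068) (.leaf 0x6d83a7985f)) (.node (.leaf 0x5cc1d08902) (.leaf 0x0))) (.node (.node (.leaf 0x4c40f00407) (.leaf 0x74c4a7a3d9)) (.node (.leaf 0x6442be8fee) (.leaf 0x0)))) (.node (.node (.node (.leaf 0x4400828205) (.leaf 0x7084249d8f)) (.node (.leaf 0x6102480c54) (.leaf 0x0))) (.node (.node (.leaf 0x54015d8687) (.leaf 0x8045c6ad5c)) (.node (.leaf 0x69833093f3) (.leaf 0x0))))) (.node (.node (.node (.node (.leaf 0x3d404f8123) (.leaf 0x7103e81b14)) (.node (.leaf 0x5c420c0aae) (.leaf 0x0))) (.node (.node (.leaf 0x5141258532) (.leaf 0x78c4f22822)) (.node (.leaf 0x6902f911f6) (.leaf 0x0)))) (.node (.node (.node (.leaf 0x4800b982fe) (.leaf 0x75846620d8)) (.node (.leaf 0x6582878e05) (.leaf 0x0))) (.node (.node (.leaf 0x58c19407c0) (.leaf 0x7c459eb396)) (.node (.leaf 0x6c036d9635) (.leaf 0x0))))))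
def Lv0T_39 : BT ℕ := .node (.node (.node (.node (.node (.node (.leaf 0x2d80140042) (.leaf 0x6d839997d3)) (.node (.leaf 0x5981c008a4) (.leaf 0x8485f73e78))) (.node (.node (.leaf 0x4e00e183dc) (.leaf 0x75849522dc)) (.node (.leaf 0x6482b08f7c) (.leaf 0x0)))) (.node (.node (.node (.leaf 0x45007701c7) (.leaf 0x7184141cd8)) (.node (.leaf 0x60423b8be3) (.leaf 0x0))) (.node (.node (.leaf 0x5481508631) (.leaf 0x78c52e2b5c)) (.node (.leaf 0x6903229372) (.leaf 0x0))))) (.node (.node (.node (.node (.leaf 0x3c804380f2) (.leaf 0x70c3db1a8e)) (.node (.leaf 0x5d01f88a3c) (.leaf 0x0))) (.node (.node (.leaf 0x5001188505) (.leaf 0x7984e2277b)) (.node (.leaf 0x6902ed1173) (.leaf 0x0)))) (.node (.node (.node (.leaf 0x4800ac02c7) (.leaf 0x744459203a)) (.node (.leaf 0x6042798d9d) (.leaf 0x0))) (.node (.node (.leaf 0x5881870763) (.leaf 0x7c4584315b)) (.node (.leaf 0x6cc36015af) (.leaf 0x0)))))) (.node (.node (.node (.node (.node (.leaf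 0x36002b8093) (.leaf 0x6c43b69926)) (.node (.leaf 0x5c41dd8977) (.leaf 0x0))) (.node (.node (.leaf 0x5000fd0457) (.leaf 0x74c4b6249b)) (.node (.leaf 0x64c2cf9093) (.leaf 0x0)))) (.node (.node (.node (.leaf 0x460091823c) (.leaf 0x7184341e56)) (.node (.leaf 0x6182550cb2) (.leaf 0x0))) (.node (.node (.leaf 0x54016a86b7) (.leaf 0x7cc55a2f4c)) (.node (.leaf 0x69834194a2) (.leaf 0x0))))) (.node (.node (.node (.node (.leaf 0x40805c0159) (.leaf 0x70c3f41b95)) (.node (.leaf 0x5d02208af7) (.leaf 0x0))) (.node (.node (.leaf 0x540134857b) (.leaf 0x78c501a8c9)) (.node (.leaf 0x6943071286) (.leaf 0x0)))) (.node (.node (.node (.leaf 0x4e00c68340) (.leaf 0x758472216b)) (.node (.leaf 0x6582950e8d) (.leaf 0x0))) (.node (.node (.leaf 0x5841a20822) (.leaf 0x8205b6b71b)) (.node (.leaf 0x6d437c16cf) (.leaf 0x0))))))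
def Lv0T_40 : BT ℕ := .node (.node (.node (.node (.node (.node (.leaf 0x10c0018007) (.leaf 0x6c43811703)) (.node (.leaf 0x5901a7884d) (.leaf 0x80c5c33818))) (.node (.node (.leaf 0x4e00cb0361) (.leaf 0x74c47921a4)) (.node (.leaf 0x6582998ebe) (.leaf 0x0)))) (.node (.node (.node (.leaf 0x41405f816d) (.leaf 0x7183fa9bd1)) (.node (.leaf 0x5cc2260b15) (.leaf 0x0))) (.node (.node (.leaf 0x5601388595) (.leaf 0x784508a910)) (.node (.leaf 0x68430c12be) (.leaf 0x0))))) (.node (.node (.node (.node (.leaf 0x3a003000a4) (.leaf 0x6d43c11978)) (.node (.leaf 0x5c41e389a6) (.leaf 0x0))) (.node (.node (.leaf 0x5141018479) (.leaf 0x7604bd2506)) (.node (.leaf 0x6582d510b7) (.leaf 0x0)))) (.node (.node (.node (.leaf 0x4880988258) (.leaf 0x7204399ea8)) (.node (.leaf 0x61825b0cda) (.leaf 0x0))) (.node (.node (.leaf 0x54c16f06c8) (.leaf 0x7d85622fb8)) (.node (.leaf 0x69834694c1) (.leaf 0x0)))))) (.node (.node (.node (.node (.node (.leaf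 0x30c019004e) (.leaf 0x6d039f980c)) (.node (.leaf 0x58c1c788bc) (.leaf 0x844602bfad))) (.node (.node (.leaf 0x4c40e703ea) (.leaf 0x76049f236a)) (.node (.leaf 0x6442b60fb1) (.leaf 0x0)))) (.node (.node (.node (.leaf 0x44407b81e1) (.leaf 0x71041d1d42)) (.node (.leaf 0x6002418c1d) (.leaf 0x0))) (.node (.node (.leaf 0x5441558654) (.leaf 0x78c5362bb0)) (.node (.leaf 0x680328139a) (.leaf 0x0))))) (.node (.node (.node (.node (.leaf 0x3e00478107) (.leaf 0x7103e01abc)) (.node (.leaf 0x5d81fe0a65) (.leaf 0x0))) (.node (.node (.leaf 0x50011d0516) (.leaf 0x7944e7a7c1)) (.node (.leaf 0x6882f291af) (.leaf 0x0)))) (.node (.node (.node (.leaf 0x4a00b102e6) (.leaf 0x75845f208a)) (.node (.leaf 0x61827f0dbd) (.leaf 0x0))) (.node (.node (.leaf 0x5a018b8789) (.leaf 0x7c45903214)) (.node (.leaf 0x6d836395d9) (.leaf 0x0))))))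
def Lv0T_41 : BT ℕ := .node (.node (.node (.node (.node (.node (.leaf 0x29800d0028) (.leaf 0x6d838f1774)) (.node (.leaf 0x5901b40880) (.leaf 0x8105db3955))) (.node (.node (.leaf 0x4d40d903a8) (.leaf 0x75448a226d)) (.node (.leaf 0x6582a78f43) (.leaf 0x0)))) (.node (.node (.node (.leaf 0x42006c819f) (.leaf 0x71440a1c7d)) (.node (.leaf 0x6042348b93) (.leaf 0x0))) (.node (.node (.leaf 0x54814705f8) (.leaf 0x78c51f2a41)) (.node (.leaf 0x6903191321) (.leaf 0x0))))) (.node (.node (.node (.node (.leaf 0x3a003c00d1) (.leaf 0x7183d21a14)) (.node (.leaf 0x5c41f10a05) (.leaf 0x0))) (.node (.node (.leaf 0x50810f84c7) (.leaf 0x7984d726e7)) (.node (.leaf 0x6602e39114) (.leaf 0x0)))) (.node (.node (.node (.leaf 0x4940a3829a) (.leaf 0x7584501fc6)) (.node (.leaf 0x60826d8d67) (.leaf 0x0))) (.node (.node (.leaf 0x59417e871e) (.leaf 0x7cc57730a4)) (.node (.leaf 0x6d83571543) (.leaf 0x0)))))) (.node (.node (.node (.node (.node (.leaf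 0x3440240078) (.leaf 0x6cc3ad189e)) (.node (.leaf 0x5c01d58923) (.leaf 0x0))) (.node (.node (.leaf 0x5200f58426) (.leaf 0x7584aba40b)) (.node (.leaf 0x64c2c4101b) (.leaf 0x0)))) (.node (.node (.node (.leaf 0x4540890224) (.leaf 0x70c4299dc0)) (.node (.leaf 0x61024e0c7a) (.leaf 0x0))) (.node (.node (.leaf 0x544163069b) (.leaf 0x7cc54fae7a)) (.node (.leaf 0x6983361432) (.leaf 0x0))))) (.node (.node (.node (.node (.leaf 0x4200550132) (.leaf 0x7183ec9b4a)) (.node (.leaf 0x5d82138ac6) (.leaf 0x0))) (.node (.node (.leaf 0x50c12a8541) (.leaf 0x7984f6a858)) (.node (.leaf 0x6842fe922d) (.leaf 0x0)))) (.node (.node (.node (.leaf 0x4880c0030f) (.leaf 0x74c46b2110)) (.node (.leaf 0x64428f0e44) (.leaf 0x0))) (.node (.node (.leaf 0x58419a07e9) (.leaf 0x8085ad366a)) (.node (.leaf 0x6cc3719660) (.leaf 0x0))))))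
def Lv0T_42 : BT ℕ := .node (.node (.node (.node (.node (.node (.leaf 0x2000070017) (.leaf 0x6d0388173a)) (.node (.leaf 0x5841ad0866) (.leaf 0x8085ceb8a8))) (.node (.node (.leaf 0x4e00d10380) (.leaf 0x7584832221)) (.node (.leaf 0x6442a28f19) (.leaf 0x0)))) (.node (.node (.node (.leaf 0x414066818d) (.leaf 0x7104029c36)) (.node (.leaf 0x61022c8b53) (.leaf 0x0))) (.node (.node (.leaf 0x55013f05cc) (.leaf 0x798513a9a0)) (.node (.leaf 0x69831192e7) (.leaf 0x0))))) (.node (.node (.node (.node (.leaf 0x3a003600c0) (.leaf 0x6c83ca19b3)) (.node (.leaf 0x5cc1e989d2) (.leaf 0x0))) (.node (.node (.leaf 0x508108849d) (.leaf 0x7844d0a675)) (.node (.leaf 0x6542dd10e7) (.leaf 0x0)))) (.node (.node (.node (.leaf 0x48c09e827f) (.leaf 0x7204449f39)) (.node (.leaf 0x6002640d27) (.leaf 0x0))) (.node (.node (.leaf 0x55817686e2) (.leaf 0x7cc56db035)) (.node (.leaf 0x69834f14f8) (.leaf 0x0)))))) (.node (.node (.node (.node (.node (.leaf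 0x32001d8064) (.leaf 0x6d83a61850)) (.node (.leaf 0x5cc1cf08f3) (.leaf 0x88861bc55a))) (.node (.node (.leaf 0x4c80ee0400) (.leaf 0x74c4a5a3c5)) (.node (.leaf 0x6582bb8fda) (.leaf 0x0)))) (.node (.node (.node (.leaf 0x46008081fc) (.leaf 0x70c4231d7e)) (.node (.leaf 0x60c2470c4d) (.leaf 0x0))) (.node (.node (.leaf 0x55415c0683) (.leaf 0x7885432ca8)) (.node (.leaf 0x69832e13d3) (.leaf 0x0))))) (.node (.node (.node (.node (.leaf 0x3e004d811f) (.leaf 0x7083e69b04)) (.node (.leaf 0x5c42078aa3) (.leaf 0x0))) (.node (.node (.leaf 0x514123852b) (.leaf 0x78c4efa7fe)) (.node (.leaf 0x68c2f811ea) (.leaf 0x0)))) (.node (.node (.node (.leaf 0x4a00b782f9) (.leaf 0x750465a0d4)) (.node (.leaf 0x64c2868dfa) (.leaf 0x0))) (.node (.node (.leaf 0x58c19287b7) (.leaf 0x7cc59c3390)) (.node (.leaf 0x6d836a961a) (.leaf 0x0))))))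
def Lv0T_43 : BT ℕ := .node (.node (.node (.node (.node (.node (.leaf 0x2cc012803b) (.leaf 0x6d839797b7)) (.node (.leaf 0x58c1be08a0) (.leaf 0x8445f4be3c))) (.node (.node (.leaf 0x4e00e003d7) (.leaf 0x74c49322c5)) (.node (.leaf 0x6582ae0f70) (.leaf 0x0)))) (.node (.node (.node (.leaf 0x44007581c0) (.leaf 0x7184119cc6)) (.node (.leaf 0x6182398bcc) (.leaf 0x0))) (.node (.node (.leaf 0x54414e8625) (.leaf 0x79852b2b3d)) (.node (.leaf 0x698320935a) (.leaf 0x0))))) (.node (.node (.node (.node (.leaf 0x3e004200ec) (.leaf 0x7083d99a7c)) (.node (.leaf 0x5d81f60a2a) (.leaf 0x0))) (.node (.node (.leaf 0x50411704fa) (.leaf 0x7984e0a767)) (.node (.leaf 0x6902ea9155) (.leaf 0x0)))) (.node (.node (.node (.leaf 0x4a00aa02bc) (.leaf 0x7604572035)) (.node (.leaf 0x60c2768d92) (.leaf 0x0))) (.node (.node (.leaf 0x5841858750) (.leaf 0x7e05813116)) (.node (.leaf 0x6cc35f15a1) (.leaf 0x0)))))) (.node (.node (.node (.node (.node (.leaf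 0x34802a008f) (.leaf 0x6cc3b418fc)) (.node (.leaf 0x5d01db8964) (.leaf 0x0))) (.node (.node (.leaf 0x5140fb044b) (.leaf 0x7584b3a47b)) (.node (.leaf 0x64c2cc1077) (.leaf 0x0)))) (.node (.node (.node (.leaf 0x45408f8237) (.leaf 0x7044329e36)) (.node (.leaf 0x6102538caa) (.leaf 0x0))) (.node (.node (.leaf 0x55416906ae) (.leaf 0x7e05572f0e)) (.node (.leaf 0x69833f148e) (.leaf 0x0))))) (.node (.node (.node (.node (.leaf 0x42005a0152) (.leaf 0x7143f31b90)) (.node (.leaf 0x5c421e0aec) (.leaf 0x0))) (.node (.node (.leaf 0x554132856b) (.leaf 0x78c4fe289f)) (.node (.leaf 0x694305126e) (.leaf 0x0)))) (.node (.node (.node (.leaf 0x4d40c58339) (.leaf 0x74c470a150)) (.node (.leaf 0x6502938e81) (.leaf 0x0))) (.node (.node (.leaf 0x59819f8810) (.leaf 0x8205b53715)) (.node (.leaf 0x6c837816ad) (.leaf 0x0))))))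
def Lv0T_44 : BT ℕ := .node (.node (.node (.node (.node (.node (.leaf 0x1c8004800f) (.leaf 0x6d8384971b)) (.node (.leaf 0x5a01a9885c) (.leaf 0x80c5ca3874))) (.node (.node (.leaf 0x4c00ce8373) (.leaf 0x75847d21d7)) (.node (.leaf 0x64829e0ee8) (.leaf 0x0)))) (.node (.node (.node (.leaf 0x414062817d) (.leaf 0x7043fe9bfe)) (.node (.leaf 0x6082298b37) (.leaf 0x0))) (.node (.node (.leaf 0x54413c85b1) (.leaf 0x78850d295b)) (.node (.leaf 0x68c30f12d2) (.leaf 0x0))))) (.node (.node (.node (.node (.leaf 0x3a003280b1) (.leaf 0x6cc3c61999)) (.node (.leaf 0x5c41e709c1) (.leaf 0x0))) (.node (.node (.leaf 0x500105048d) (.leaf 0x7444c22565)) (.node (.leaf 0x6502d910cf) (.leaf 0x0)))) (.node (.node (.node (.leaf 0x49409b0269) (.leaf 0x72043f9f0c)) (.node (.leaf 0x61025f0d01) (.leaf 0x0))) (.node (.node (.leaf 0x55017286d3) (.leaf 0x7cc566afdf)) (.node (.leaf 0x6a034a94dc) (.leaf 0x0)))))) (.node (.node (.node (.node (.node (.leaf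 0x30001b805b) (.leaf 0x6d43a2982b)) (.node (.leaf 0x58c1cb88ce) (.leaf 0x844607bff5))) (.node (.node (.leaf 0x4c00ea03f5) (.leaf 0x7484a2a3a9)) (.node (.leaf 0x64c2b90fc5) (.leaf 0x0)))) (.node (.node (.node (.leaf 0x45407e81f0) (.leaf 0x7004209d68)) (.node (.leaf 0x60c2448c39) (.leaf 0x0))) (.node (.node (.leaf 0x54c159066d) (.leaf 0x7a053aac09)) (.node (.leaf 0x69832b13b8) (.leaf 0x0))))) (.node (.node (.node (.node (.leaf 0x3e004b0117) (.leaf 0x7183e31ade)) (.node (.leaf 0x5e02038a90) (.leaf 0x0))) (.node (.node (.leaf 0x50c120051f) (.leaf 0x7984eb27e1)) (.node (.leaf 0x68c2f511cb) (.leaf 0x0)))) (.node (.node (.node (.leaf 0x48c0b482ef) (.leaf 0x75846220aa)) (.node (.leaf 0x64c2830dd9) (.leaf 0x0))) (.node (.node (.leaf 0x58418f87a4) (.leaf 0x7cc5973333)) (.node (.leaf 0x6d03681601) (.leaf 0x0))))))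
def Lv0T_45 : BT ℕ := .node (.node (.node (.node (.node (.node (.leaf 0x28400f8032) (.leaf 0x6d83939795)) (.node (.leaf 0x5901b9888d) (.leaf 0x8085e53b0f))) (.node (.node (.leaf 0x4cc0dd83c2) (.leaf 0x75848d2288)) (.node (.leaf 0x6502aa8f5a) (.leaf 0x0)))) (.node (.node (.node (.leaf 0x46007201ab) (.leaf 0x70840c9c93)) (.node (.leaf 0x6182370bb0) (.leaf 0x0))) (.node (.node (.leaf 0x56014a860a) (.leaf 0x798526ab07)) (.node (.leaf 0x69431d133d) (.leaf 0x0))))) (.node (.node (.node (.node (.leaf 0x3cc03f80db) (.leaf 0x70c3d59a3b)) (.node (.leaf 0x5d81f38a1a) (.leaf 0x0))) (.node (.node (.leaf 0x50411384e2) (.leaf 0x7844db2724)) (.node (.leaf 0x68c2e79139) (.leaf 0x0)))) (.node (.node (.node (.leaf 0x4840a702ad) (.leaf 0x74c4539ff1)) (.node (.leaf 0x6182720d7b) (.leaf 0x0))) (.node (.node (.leaf 0x5801818732) (.leaf 0x7c457c30bf)) (.node (.leaf 0x6d035c157d) (.leaf 0x0)))))) (.node (.node (.node (.node (.node (.leaf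 0x34c0278087) (.leaf 0x6d43b118d4)) (.node (.leaf 0x5c81d98947) (.leaf 0x0))) (.node (.node (.leaf 0x5100f9843e) (.leaf 0x7604aea42f)) (.node (.leaf 0x6582c8904c) (.leaf 0x0)))) (.node (.node (.node (.leaf 0x45408c822d) (.leaf 0x72042e1e00)) (.node (.leaf 0x6102510c95) (.leaf 0x0))) (.node (.node (.leaf 0x54c16586a4) (.leaf 0x7c45542ec6)) (.node (.leaf 0x68c3399466) (.leaf 0x0))))) (.node (.node (.node (.node (.leaf 0x4000580142) (.leaf 0x7183ef1b63)) (.node (.leaf 0x5c82198adc) (.leaf 0x0))) (.node (.node (.leaf 0x50c12e054e) (.leaf 0x7944fb2894)) (.node (.leaf 0x6903019250) (.leaf 0x0)))) (.node (.node (.node (.leaf 0x4e00c28326) (.leaf 0x74846e2136)) (.node (.leaf 0x6502910e64) (.leaf 0x0))) (.node (.node (.leaf 0x58c19c87fd) (.leaf 0x80c5b1b6b9)) (.node (.leaf 0x6c83749687) (.leaf 0x0))))))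
def Lv0T_46 : BT ℕ := .node (.node (.node (.node (.node (.node (.leaf 0x2580098020) (.leaf 0x6d838b1759)) (.node (.leaf 0x5841b08876) (.leaf 0x8045d338f8))) (.node (.node (.leaf 0x4c40d50394) (.leaf 0x748486a22f)) (.node (.leaf 0x64c2a50f30) (.leaf 0x0)))) (.node (.node (.node (.leaf 0x4200690195) (.leaf 0x7044061c55)) (.node (.leaf 0x6002310b6f) (.leaf 0x0))) (.node (.node (.leaf 0x55414305e1) (.leaf 0x78c518a9da)) (.node (.leaf 0x6803161307) (.leaf 0x0))))) (.node (.node (.node (.node (.leaf 0x39403880c9) (.leaf 0x7183cf19f4)) (.node (.leaf 0x5d01ec89e5) (.leaf 0x0))) (.node (.node (.leaf 0x50010b84b1) (.leaf 0x7944d326a9)) (.node (.leaf 0x64c2e010f9) (.leaf 0x0)))) (.node (.node (.node (.leaf 0x4940a1028e) (.leaf 0x72044b1f72)) (.node (.leaf 0x6142678d4d) (.leaf 0x0))) (.node (.node (.leaf 0x58017b0702) (.leaf 0x7c4572305f)) (.node (.leaf 0x6883531512) (.leaf 0x0)))))) (.node (.node (.node (.node (.node (.leaf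 0x34c022006c) (.leaf 0x6d83a99872)) (.node (.leaf 0x5d81d2090c) (.leaf 0x0))) (.node (.node (.leaf 0x4cc0f1840c) (.leaf 0x7584a8a3ef)) (.node (.leaf 0x6502c00ffa) (.leaf 0x0)))) (.node (.node (.node (.leaf 0x4600850210) (.leaf 0x7144261da6)) (.node (.leaf 0x6182490c5d) (.leaf 0x0))) (.node (.node (.leaf 0x56015f068f) (.leaf 0x7d854b2e50)) (.node (.leaf 0x68c33213f8) (.leaf 0x0))))) (.node (.node (.node (.node (.leaf 0x3e00510128) (.leaf 0x7183e99b24)) (.node (.leaf 0x5cc20d8ab5) (.leaf 0x0))) (.node (.node (.leaf 0x5041278538) (.leaf 0x7984f3a838)) (.node (.leaf 0x6982fa1202) (.leaf 0x0)))) (.node (.node (.node (.leaf 0x4880bb8303) (.leaf 0x758467a0ed)) (.node (.leaf 0x65828a8e1e) (.leaf 0x0))) (.node (.node (.leaf 0x59019507c6) (.leaf 0x7c45a233f5)) (.node (.leaf 0x6c036f1647) (.leaf 0x0))))))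
def Lv0T_47 : BT ℕ := .node (.node (.node (.node (.node (.node (.leaf 0x2d40150046) (.leaf 0x6d839b97e3)) (.node (.leaf 0x5901c108ab) (.leaf 0x8505f8be7d))) (.node (.node (.leaf 0x4c00e383e1) (.leaf 0x74c49722e2)) (.node (.leaf 0x6582b18f88) (.leaf 0x0)))) (.node (.node (.node (.leaf 0x44407881d2) (.leaf 0x70c4189d0d)) (.node (.leaf 0x60423d8bf8) (.leaf 0x0))) (.node (.node (.leaf 0x5481520639) (.leaf 0x78c5302b61)) (.node (.leaf 0x690324137b) (.leaf 0x0))))) (.node (.node (.node (.node (.leaf 0x3c804580fa) (.leaf 0x7183dc9a98)) (.node (.leaf 0x5cc1fb0a4d) (.leaf 0x0))) (.node (.node (.leaf 0x520119850a) (.leaf 0x7984e4278f)) (.node (.leaf 0x6802ef918b) (.leaf 0x0)))) (.node (.node (.node (.leaf 0x4940ae82d4) (.leaf 0x75845ba064)) (.node (.leaf 0x61027c0dac) (.leaf 0x0))) (.node (.node (.leaf 0x5881888770) (.leaf 0x7cc5883188)) (.node (.leaf 0x6cc36195c1) (.leaf 0x0)))))) (.node (.node (.node (.node (.node (.leaf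 0x35402d8097) (.leaf 0x6d83b89937)) (.node (.leaf 0x5d81df0980) (.leaf 0x0))) (.node (.node (.leaf 0x5040ff0468) (.leaf 0x7484b8a4a2)) (.node (.leaf 0x64c2d1109e) (.leaf 0x0)))) (.node (.node (.node (.leaf 0x4400938241) (.leaf 0x70c4359e5b)) (.node (.leaf 0x60c2570cc0) (.leaf 0x0))) (.node (.node (.leaf 0x54016c86be) (.leaf 0x7cc55caf65)) (.node (.leaf 0x68c34314a7) (.leaf 0x0))))) (.node (.node (.node (.node (.leaf 0x42005c815f) (.leaf 0x7183f59bae)) (.node (.leaf 0x5d82228b00) (.leaf 0x0))) (.node (.node (.leaf 0x5481368587) (.leaf 0x7a0503a8e2)) (.node (.leaf 0x68c308128b) (.leaf 0x0)))) (.node (.node (.node (.leaf 0x4d40c8834d) (.leaf 0x74c473a170)) (.node (.leaf 0x64c2970ea2) (.leaf 0x0))) (.node (.node (.leaf 0x5981a3882f) (.leaf 0x8045bdb7b7)) (.node (.leaf 0x6cc37d16d4) (.leaf 0x0))))))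
def Lv0T_48 : BT ℕ := .node (.node (.node (.node (.node (.node (.leaf 0xc40010005) (.leaf 0x6d038016fa)) (.node (.leaf 0x5841a68844) (.leaf 0x80c5c1b7eb))) (.node (.node (.leaf 0x4d00cb035e) (.leaf 0x758477a1a0)) (.node (.leaf 0x6442998ebc) (.leaf 0x0)))) (.node (.node (.node (.leaf 0x42005e8169) (.leaf 0x7183f89bc0)) (.node (.leaf 0x5d82258b13) (.leaf 0x0))) (.node (.node (.leaf 0x5541380592) (.leaf 0x7a0507290c)) (.node (.leaf 0x69030b12b5) (.leaf 0x0))))) (.node (.node (.node (.node (.leaf 0x39402f80a1) (.leaf 0x6c03c0196d)) (.node (.leaf 0x5d41e2899d) (.leaf 0x0))) (.node (.node (.leaf 0x5201010477) (.leaf 0x74c4bca503)) (.node (.leaf 0x6502d510b5) (.leaf 0x0)))) (.node (.node (.node (.leaf 0x4a0097024f) (.leaf 0x7044391e8d)) (.node (.leaf 0x6102598cd1) (.leaf 0x0))) (.node (.node (.leaf 0x54c16e86c6) (.leaf 0x7d8560af94)) (.node (.leaf 0x69034614bf) (.leaf 0x0)))))) (.node (.node (.node (.node (.node (.leaf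 0x2d4017804c) (.leaf 0x6d839e1800)) (.node (.leaf 0x5981c508b6) (.leaf 0x8446003f61))) (.node (.node (.leaf 0x4cc0e603e8) (.leaf 0x74449ea367)) (.node (.leaf 0x6502b50fa7) (.leaf 0x0)))) (.node (.node (.node (.leaf 0x45407a81dd) (.leaf 0x71841b9d30)) (.node (.leaf 0x6082408c11) (.leaf 0x0))) (.node (.node (.leaf 0x544154864c) (.leaf 0x7985352bab)) (.node (.leaf 0x690326938e) (.leaf 0x0))))) (.node (.node (.node (.node (.leaf 0x3c40478104) (.leaf 0x7183de9ab1)) (.node (.leaf 0x5cc1fd0a60) (.leaf 0x0))) (.node (.node (.leaf 0x50011c0512) (.leaf 0x78c4e6a7a7)) (.node (.leaf 0x6882f211a8) (.leaf 0x0)))) (.node (.node (.node (.leaf 0x4940b082e3) (.leaf 0x74045f2088)) (.node (.leaf 0x61827e0db7) (.leaf 0x0))) (.node (.node (.leaf 0x59018a077f) (.leaf 0x7c458d31c4)) (.node (.leaf 0x6c436395d7) (.leaf 0x0))))))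
def Lv0T_49 : BT ℕ := .node (.node (.node (.node (.node (.node (.leaf 0x26000b0026) (.leaf 0x6d438e9772)) (.node (.leaf 0x5901b3087e) (.leaf 0x8005d83927))) (.node (.node (.leaf 0x4d40d803a3) (.leaf 0x758489225c)) (.node (.leaf 0x64c2a70f41) (.leaf 0x0)))) (.node (.node (.node (.leaf 0x41406c019c) (.leaf 0x7184089c6e)) (.node (.leaf 0x60c2338b8a) (.leaf 0x0))) (.node (.node (.leaf 0x54414605f4) (.leaf 0x78c51d2a20)) (.node (.leaf 0x6983179315) (.leaf 0x0))))) (.node (.node (.node (.node (.leaf 0x3a003a80cf) (.leaf 0x7103d19a12)) (.node (.leaf 0x5cc1f009fd) (.leaf 0x0))) (.node (.node (.leaf 0x50810e84c1) (.leaf 0x78c4d526b1)) (.node (.leaf 0x64c2e2910a) (.leaf 0x0)))) (.node (.node (.node (.leaf 0x4940a30297) (.leaf 0x75044f9fc4)) (.node (.leaf 0x60826c8d63) (.leaf 0x0))) (.node (.node (.leaf 0x59017d8719) (.leaf 0x7cc575b07e)) (.node (.leaf 0x6c43571541) (.leaf 0x0)))))) (.node (.node (.node (.node (.node (.leaf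 0x3600230075) (.leaf 0x6e03ac189b)) (.node (.leaf 0x5d41d4891b) (.leaf 0x0))) (.node (.node (.leaf 0x5000f5041f) (.leaf 0x7544ab2408)) (.node (.leaf 0x6582c31018) (.leaf 0x0)))) (.node (.node (.node (.leaf 0x4600880222) (.leaf 0x70c4281dae)) (.node (.leaf 0x61024c8c70) (.leaf 0x0))) (.node (.node (.leaf 0x5401620698) (.leaf 0x7d854eae76)) (.node (.leaf 0x6983351426) (.leaf 0x0))))) (.node (.node (.node (.node (.leaf 0x414055012f) (.leaf 0x7103ec9b48)) (.node (.leaf 0x5c42138ac4) (.leaf 0x0))) (.node (.node (.leaf 0x50812a053f) (.leaf 0x7a04f5a856)) (.node (.leaf 0x6982fd121f) (.leaf 0x0)))) (.node (.node (.node (.leaf 0x4840bf030c) (.leaf 0x74c46a210d)) (.node (.leaf 0x64428e0e3a) (.leaf 0x0))) (.node (.node (.leaf 0x58019907e1) (.leaf 0x7c85a934ea)) (.node (.leaf 0x6c8371165d) (.leaf 0x0))))))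
def Lv0T_50 : BT ℕ := .node (.node (.node (.node (.node (.node (.leaf 0x2140068015) (.leaf 0x6d8386972e)) (.node (.leaf 0x5801ac0864) (.leaf 0x8045cdb8a6))) (.node (.node (.leaf 0x4c80d1037d) (.leaf 0x74447fa1e0)) (.node (.leaf 0x6582a00f04) (.leaf 0x0)))) (.node (.node (.node (.leaf 0x410066018b) (.leaf 0x7184011c29)) (.node (.leaf 0x61022b8b4b) (.leaf 0x0))) (.node (.node (.leaf 0x54c13e85c6) (.leaf 0x798512a99e)) (.node (.leaf 0x68431192e5) (.leaf 0x0))))) (.node (.node (.node (.node (.leaf 0x38403580bc) (.leaf 0x6c43c919b1)) (.node (.leaf 0x5d01e889ce) (.leaf 0x0))) (.node (.node (.leaf 0x50c107849b) (.leaf 0x78c4cfa673)) (.node (.leaf 0x6402dc90e0) (.leaf 0x0)))) (.node (.node (.node (.leaf 0x48009d8279) (.leaf 0x7204439f2e)) (.node (.leaf 0x6042630d1f) (.leaf 0x0))) (.node (.node (.leaf 0x55817586dd) (.leaf 0x7c456cb01c)) (.node (.leaf 0x6a034d14ef) (.leaf 0x0)))))) (.node (.node (.node (.node (.node (.leaf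 0x31401d0062) (.leaf 0x6d83a4983e)) (.node (.leaf 0x5c41ce88ed) (.leaf 0x88061b4513))) (.node (.node (.leaf 0x4c80ed03fd) (.leaf 0x7584a423b0)) (.node (.leaf 0x6442bb8fd8) (.leaf 0x0)))) (.node (.node (.node (.leaf 0x46008001f9) (.leaf 0x7084229d7b)) (.node (.leaf 0x6082468c48) (.leaf 0x0))) (.node (.node (.leaf 0x54015b867f) (.leaf 0x7845422ca6)) (.node (.leaf 0x69032e13d1) (.leaf 0x0))))) (.node (.node (.node (.node (.leaf 0x3e004d011d) (.leaf 0x7103e61b02)) (.node (.leaf 0x5d42068a9f) (.leaf 0x0))) (.node (.node (.leaf 0x5001230526) (.leaf 0x78c4eea7fb)) (.node (.leaf 0x6882f791e2) (.leaf 0x0)))) (.node (.node (.node (.leaf 0x4a00b682f6) (.leaf 0x75846420c2)) (.node (.leaf 0x6502858df3) (.leaf 0x0))) (.node (.node (.leaf 0x58819207b3) (.leaf 0x7cc59ab368)) (.node (.leaf 0x6c436a9618) (.leaf 0x0))))))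
def Lv0T_51 : BT ℕ := .node (.node (.node (.node (.node (.node (.leaf 0x2d80120038) (.leaf 0x6e039697b5)) (.node (.leaf 0x5841bd889d) (.leaf 0x8045ee3c1a))) (.node (.node (.leaf 0x4c80e003d4) (.leaf 0x74c491a2b1)) (.node (.leaf 0x6502ad8f6e) (.leaf 0x0)))) (.node (.node (.node (.leaf 0x46007481ba) (.leaf 0x71840f1cac)) (.node (.leaf 0x60c2390bca) (.leaf 0x0))) (.node (.node (.leaf 0x54014d861d) (.leaf 0x78c529ab10)) (.node (.leaf 0x68c3201358) (.leaf 0x0))))) (.node (.node (.node (.node (.leaf 0x3c004180e9) (.leaf 0x70c3d81a62)) (.node (.leaf 0x5cc1f58a28) (.leaf 0x0))) (.node (.node (.leaf 0x50c11604f2) (.leaf 0x7904e02765)) (.node (.leaf 0x6982e9114b) (.leaf 0x0)))) (.node (.node (.node (.leaf 0x4a00a902b7) (.leaf 0x74c456200c)) (.node (.leaf 0x6102758d8e) (.leaf 0x0))) (.node (.node (.leaf 0x5841848747) (.leaf 0x7cc580310f)) (.node (.leaf 0x6c435e9599) (.leaf 0x0)))))) (.node (.node (.node (.node (.node (.leaf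 0x340029808d) (.leaf 0x6d83b398fa)) (.node (.leaf 0x5cc1db095c) (.leaf 0x0))) (.node (.node (.leaf 0x5200fa0446) (.leaf 0x74c4b2244a)) (.node (.leaf 0x6582cb9075) (.leaf 0x0)))) (.node (.node (.node (.leaf 0x45408e8234) (.leaf 0x7204311e32)) (.node (.leaf 0x60c2530ca4) (.leaf 0x0))) (.node (.node (.leaf 0x54016806ab) (.leaf 0x7c05572f0c)) (.node (.leaf 0x68433d1482) (.leaf 0x0))))) (.node (.node (.node (.node (.leaf 0x40005a014f) (.leaf 0x70c3f21b81)) (.node (.leaf 0x5cc21d0ae7) (.leaf 0x0))) (.node (.node (.leaf 0x5481320566) (.leaf 0x7a04fca89d)) (.node (.leaf 0x6983039266) (.leaf 0x0)))) (.node (.node (.node (.leaf 0x4cc0c58337) (.leaf 0x748470214d)) (.node (.leaf 0x64c2930e79) (.leaf 0x0))) (.node (.node (.leaf 0x59819f0809) (.leaf 0x8005b4b6e0)) (.node (.leaf 0x6c8376969b) (.leaf 0x0))))))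
def Lv0T_52 : BT ℕ := .node (.node (.node (.node (.node (.node (.leaf 0x198003000d) (.leaf 0x6d83831714)) (.node (.leaf 0x5941a90859) (.leaf 0x8045c63833))) (.node (.node (.leaf 0x4c00cd836d) (.leaf 0x74c47c21be)) (.node (.leaf 0x65029c8ede) (.leaf 0x0)))) (.node (.node (.node (.leaf 0x4200618178) (.leaf 0x70c3fd9bfc)) (.node (.leaf 0x6082290b31) (.leaf 0x0))) (.node (.node (.leaf 0x54013b85a8) (.leaf 0x78450c2957)) (.node (.leaf 0x69030e12cc) (.leaf 0x0))))) (.node (.node (.node (.node (.leaf 0x38003280ae) (.leaf 0x6e03c5198c)) (.node (.leaf 0x5c81e689bd) (.leaf 0x0))) (.node (.node (.leaf 0x5141040488) (.leaf 0x7604c0a545)) (.node (.leaf 0x6582d890c8) (.leaf 0x0)))) (.node (.node (.node (.leaf 0x48409b0267) (.leaf 0x70443f1f09)) (.node (.leaf 0x61025e0cf7) (.leaf 0x0))) (.node (.node (.leaf 0x55017186d1) (.leaf 0x7cc5652fc1)) (.node (.leaf 0x69434a14d9) (.leaf 0x0)))))) (.node (.node (.node (.node (.node (.leaf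 0x30401a8057) (.leaf 0x6d83a1981c)) (.node (.leaf 0x5941cb08cc) (.leaf 0x844606bff2))) (.node (.node (.leaf 0x4e00e903f3) (.leaf 0x7584a12390)) (.node (.leaf 0x6502b80fbf) (.leaf 0x0)))) (.node (.node (.node (.leaf 0x45407d81eb) (.leaf 0x71841f1d5b)) (.node (.leaf 0x6042440c34) (.leaf 0x0))) (.node (.node (.leaf 0x54c1580666) (.leaf 0x784539abd2)) (.node (.leaf 0x69832a13aa) (.leaf 0x0))))) (.node (.node (.node (.node (.leaf 0x3c004b0115) (.leaf 0x7003e31adc)) (.node (.leaf 0x5d82018a82) (.leaf 0x0))) (.node (.node (.leaf 0x50411f851d) (.leaf 0x78c4e9a7c9)) (.node (.leaf 0x6902f411c3) (.leaf 0x0)))) (.node (.node (.node (.leaf 0x4840b402ed) (.leaf 0x74046220a8)) (.node (.leaf 0x6202818dd1) (.leaf 0x0))) (.node (.node (.leaf 0x58018e879c) (.leaf 0x7cc595b308)) (.node (.leaf 0x6d836695f1) (.leaf 0x0))))))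
def Lv0T_53 : BT ℕ := .node (.node (.node (.node (.node (.node (.leaf 0x28c00e8030) (.leaf 0x6c83929792)) (.node (.leaf 0x5981b70889) (.leaf 0x8045e43b0c))) (.node (.node (.leaf 0x4c40dc03bb) (.leaf 0x75848c2285)) (.node (.leaf 0x6582aa0f53) (.leaf 0x0)))) (.node (.node (.node (.leaf 0x40007081a7) (.leaf 0x71440c1c91)) (.node (.leaf 0x60c2368bae) (.leaf 0x0))) (.node (.node (.leaf 0x5501488604) (.leaf 0x7985252ae9)) (.node (.leaf 0x68831c1330) (.leaf 0x0))))) (.node (.node (.node (.node (.leaf 0x3d803f00d8) (.leaf 0x7183d49a38)) (.node (.leaf 0x5cc1f30a18) (.leaf 0x0))) (.node (.node (.leaf 0x50011284da) (.leaf 0x78c4da2720)) (.node (.leaf 0x6982e6912c) (.leaf 0x0)))) (.node (.node (.node (.leaf 0x4940a602a8) (.leaf 0x74c4521fdc)) (.node (.leaf 0x6102718d79) (.leaf 0x0))) (.node (.node (.leaf 0x594180872b) (.leaf 0x7c857a30af)) (.node (.leaf 0x6d835a155f) (.leaf 0x0)))))) (.node (.node (.node (.node (.node (.leaf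 0x3480268083) (.leaf 0x6d83af98bb)) (.node (.leaf 0x5c41d8893c) (.leaf 0x0))) (.node (.node (.leaf 0x5040f8843a) (.leaf 0x7584ae242b)) (.node (.leaf 0x6582c79042) (.leaf 0x0)))) (.node (.node (.node (.leaf 0x44c08b822b) (.leaf 0x70c42c9de9)) (.node (.leaf 0x60c2508c8d) (.leaf 0x0))) (.node (.node (.leaf 0x55016486a1) (.leaf 0x7e0552aec2)) (.node (.leaf 0x6a03381451) (.leaf 0x0))))) (.node (.node (.node (.node (.leaf 0x414057013e) (.leaf 0x7183ee9b61)) (.node (.leaf 0x5c82188ad8) (.leaf 0x0))) (.node (.node (.leaf 0x50c12d054a) (.leaf 0x7984f9a874)) (.node (.leaf 0x698300923f) (.leaf 0x0)))) (.node (.node (.node (.leaf 0x4c40c28323) (.leaf 0x75446da134)) (.node (.leaf 0x64c2908e5a) (.leaf 0x0))) (.node (.node (.leaf 0x58819c07f8) (.leaf 0x80c5b0368b)) (.node (.leaf 0x6d43741685) (.leaf 0x0))))))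
def Lv0T_54 : BT ℕ := .node (.node (.node (.node (.node (.node (.leaf 0x258009001d) (.leaf 0x6d838a174a)) (.node (.leaf 0x5841af8874) (.leaf 0x8045d1b8ca))) (.node (.node (.leaf 0x4c00d40390) (.leaf 0x744485a22d)) (.node (.leaf 0x6442a48f2b) (.leaf 0x0)))) (.node (.node (.node (.leaf 0x4140688193) (.leaf 0x7184049c4b)) (.node (.leaf 0x6142300b67) (.leaf 0x0))) (.node (.node (.leaf 0x56014205dc) (.leaf 0x78c517a9c8)) (.node (.leaf 0x69031492fd) (.leaf 0x0))))) (.node (.node (.node (.node (.leaf 0x38803800c7) (.leaf 0x6c83cd19cb)) (.node (.leaf 0x5d81ec09de) (.leaf 0x0))) (.node (.node (.leaf 0x51410a84aa) (.leaf 0x78c4d22692)) (.node (.leaf 0x6602df10f7) (.leaf 0x0)))) (.node (.node (.node (.leaf 0x4940a00289) (.leaf 0x7084491f65)) (.node (.leaf 0x6142668d46) (.leaf 0x0))) (.node (.node (.leaf 0x59417a06fa) (.leaf 0x7cc571305d)) (.node (.leaf 0x6843521510) (.leaf 0x0)))))) (.node (.node (.node (.node (.node (.leaf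 0x320020806a) (.leaf 0x6cc3a89862)) (.node (.leaf 0x5d81d10904) (.leaf 0x0))) (.node (.node (.leaf 0x4cc0f10409) (.leaf 0x7544a823ec)) (.node (.leaf 0x6582be8ff0) (.leaf 0x0)))) (.node (.node (.node (.leaf 0x440083820b) (.leaf 0x70c4251d92)) (.node (.leaf 0x6042490c5b) (.leaf 0x0))) (.node (.node (.leaf 0x56015e068a) (.leaf 0x7e0549ae31)) (.node (.leaf 0x6a033113f6) (.leaf 0x0))))) (.node (.node (.node (.node (.leaf 0x3e00500125) (.leaf 0x7003e99b22)) (.node (.leaf 0x5c420d0ab2) (.leaf 0x0))) (.node (.node (.leaf 0x5041268534) (.leaf 0x7984f32836)) (.node (.leaf 0x6842fa1200) (.leaf 0x0)))) (.node (.node (.node (.leaf 0x4800ba8301) (.leaf 0x750467a0eb)) (.node (.leaf 0x6502890e13) (.leaf 0x0))) (.node (.node (.leaf 0x59819487c2) (.leaf 0x7c45a133bf)) (.node (.leaf 0x6d836d9637) (.leaf 0x0))))))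
def Lv0T_55 : BT ℕ := .node (.node (.node (.node (.node (.node (.leaf 0x2cc0148044) (.leaf 0x6d039b17e1)) (.node (.leaf 0x58c1c088a7) (.leaf 0x8485f7be7b))) (.node (.node (.leaf 0x4d40e283df) (.leaf 0x74c49622df)) (.node (.leaf 0x6502b10f86) (.leaf 0x0)))) (.node (.node (.node (.leaf 0x45407781cc) (.leaf 0x7184179d09)) (.node (.leaf 0x60023c8bef) (.leaf 0x0))) (.node (.node (.leaf 0x5481510634) (.leaf 0x7a052eab5f)) (.node (.leaf 0x6983231374) (.leaf 0x0))))) (.node (.node (.node (.node (.leaf 0x3d404400f6) (.leaf 0x70c3dc1a96)) (.node (.leaf 0x5d81fa0a45) (.leaf 0x0))) (.node (.node (.leaf 0x5141190507) (.leaf 0x7984e3a78d)) (.node (.leaf 0x6982ed9175) (.leaf 0x0)))) (.node (.node (.node (.leaf 0x4840ad82ce) (.leaf 0x74c45aa057)) (.node (.leaf 0x61027a8da4) (.leaf 0x0))) (.node (.node (.leaf 0x58c187876b) (.leaf 0x7c85853161)) (.node (.leaf 0x6d036095b9) (.leaf 0x0)))))) (.node (.node (.node (.node (.node (.leaf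 0x35002d0095) (.leaf 0x6c83b79928)) (.node (.leaf 0x5cc1de897e) (.leaf 0x0))) (.node (.node (.leaf 0x5040fe0460) (.leaf 0x7444b7a4a0)) (.node (.leaf 0x6442d0909a) (.leaf 0x0)))) (.node (.node (.node (.leaf 0x454092823f) (.leaf 0x7204349e59)) (.node (.leaf 0x6102558cba) (.leaf 0x0))) (.node (.node (.leaf 0x54016b86bb) (.leaf 0x7cc55baf62)) (.node (.leaf 0x6a034214a5) (.leaf 0x0))))) (.node (.node (.node (.node (.leaf 0x42005c015c) (.leaf 0x7143f51bab)) (.node (.leaf 0x5d82210af9) (.leaf 0x0))) (.node (.node (.leaf 0x5481358583) (.leaf 0x78c50328df)) (.node (.leaf 0x6883079288) (.leaf 0x0)))) (.node (.node (.node (.leaf 0x4d40c78346) (.leaf 0x74c472a16d)) (.node (.leaf 0x6502958e97) (.leaf 0x0))) (.node (.node (.leaf 0x58c1a28827) (.leaf 0x80c5bc379f)) (.node (.leaf 0x6d837c96d2) (.leaf 0x0))))))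
def Lv0T_56 : BT ℕ := .node (.node (.node (.node (.node (.node (.leaf 0x1540020009) (.leaf 0x6d83811705)) (.node (.leaf 0x5941a80851) (.leaf 0x8045c4381c))) (.node (.node (.leaf 0x4e00cb8364) (.leaf 0x75847aa1b9)) (.node (.leaf 0x65029b0ecc) (.leaf 0x0)))) (.node (.node (.node (.leaf 0x4140608172) (.leaf 0x7183fc1bf5)) (.node (.leaf 0x60c2270b1c) (.leaf 0x0))) (.node (.node (.leaf 0x554139859a) (.leaf 0x788509a912)) (.node (.leaf 0x69830c12c0) (.leaf 0x0))))) (.node (.node (.node (.node (.leaf 0x38403100a7) (.leaf 0x6d43c3197e)) (.node (.leaf 0x5c01e489ad) (.leaf 0x0))) (.node (.node (.leaf 0x520102047d) (.leaf 0x74c4bf2529)) (.node (.leaf 0x64c2d610ba) (.leaf 0x0)))) (.node (.node (.node (.leaf 0x490099025b) (.leaf 0x70443b1ebc)) (.node (.leaf 0x61025c0ce5) (.leaf 0x0))) (.node (.node (.leaf 0x55016f86ca) (.leaf 0x7cc5632fbc)) (.node (.leaf 0x69034814cb) (.leaf 0x0)))))) (.node (.node (.node (.node (.node (.leaf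 0x3200190051) (.leaf 0x6d83a0180e)) (.node (.leaf 0x5841c888c1) (.leaf 0x840603bfb1))) (.node (.node (.leaf 0x4e00e783ed) (.leaf 0x7504a0a38c)) (.node (.leaf 0x6582b60fb3) (.leaf 0x0)))) (.node (.node (.node (.leaf 0x45007c81e4) (.leaf 0x71841d1d44)) (.node (.leaf 0x6082428c27) (.leaf 0x0))) (.node (.node (.leaf 0x54c156865c) (.leaf 0x784537abb5)) (.node (.leaf 0x698328139c) (.leaf 0x0))))) (.node (.node (.node (.node (.leaf 0x3d4048810b) (.leaf 0x7003e19acc)) (.node (.leaf 0x5d81ff8a6e) (.leaf 0x0))) (.node (.node (.leaf 0x50411e0518) (.leaf 0x7984e827c4)) (.node (.leaf 0x68c2f311b9) (.leaf 0x0)))) (.node (.node (.node (.leaf 0x4940b202e8) (.leaf 0x740460a098)) (.node (.leaf 0x6182800dc5) (.leaf 0x0))) (.node (.node (.leaf 0x58018c8790) (.leaf 0x7c0593325b)) (.node (.leaf 0x6d036515e4) (.leaf 0x0))))))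
def Lv0T_57 : BT ℕ := .node (.node (.node (.node (.node (.node (.leaf 0x28c00d802b) (.leaf 0x6d03909781)) (.node (.leaf 0x58c1b60885) (.leaf 0x8045df39be))) (.node (.node (.leaf 0x4c00da03af) (.leaf 0x74848aa26f)) (.node (.leaf 0x6502a80f4b) (.leaf 0x0)))) (.node (.node (.node (.leaf 0x41406d81a1) (.leaf 0x70840a9c7f)) (.node (.leaf 0x6082358b9e) (.leaf 0x0))) (.node (.node (.leaf 0x54414785fc) (.leaf 0x788520aa64)) (.node (.leaf 0x6883199323) (.leaf 0x0))))) (.node (.node (.node (.node (.leaf 0x3a003d80d4) (.leaf 0x7183d31a24)) (.node (.leaf 0x5c81f20a0d) (.leaf 0x0))) (.node (.node (.leaf 0x51011004ca) (.leaf 0x78c4d7a6ea)) (.node (.leaf 0x6442e51120) (.leaf 0x0)))) (.node (.node (.node (.leaf 0x4a00a4029e) (.leaf 0x7544511fd7)) (.node (.leaf 0x61026e0d6b) (.leaf 0x0))) (.node (.node (.leaf 0x5a017e8721) (.leaf 0x7e0577b0a9)) (.node (.leaf 0x6d83589550) (.leaf 0x0)))))) (.node (.node (.node (.node (.node (.leaf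 0x354024807c) (.leaf 0x6c43ae18a0)) (.node (.leaf 0x5c41d6892c) (.leaf 0x0))) (.node (.node (.leaf 0x5140f6842b) (.leaf 0x74c4ac240d)) (.node (.leaf 0x6502c5102c) (.leaf 0x0)))) (.node (.node (.node (.leaf 0x45408a0227) (.leaf 0x71442b9de4)) (.node (.leaf 0x61824e8c7c) (.leaf 0x0))) (.node (.node (.leaf 0x54c163869d) (.leaf 0x7c4550ae7c)) (.node (.leaf 0x6943371443) (.leaf 0x0))))) (.node (.node (.node (.node (.leaf 0x4200558135) (.leaf 0x7183ed1b4c)) (.node (.leaf 0x5c82160aca) (.leaf 0x0))) (.node (.node (.leaf 0x51812b0543) (.leaf 0x7984f8286f)) (.node (.leaf 0x6982fe922f) (.leaf 0x0)))) (.node (.node (.node (.leaf 0x4980c08311) (.leaf 0x75046c2120)) (.node (.leaf 0x64c28f8e4c) (.leaf 0x0))) (.node (.node (.leaf 0x58c19a87ee) (.leaf 0x8105ae366c)) (.node (.leaf 0x6d03729671) (.leaf 0x0))))))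
def Lv0T_58 : BT ℕ := .node (.node (.node (.node (.node (.node (.leaf 0x2200070019) (.leaf 0x6d8388973c)) (.node (.leaf 0x5941ad886b) (.leaf 0x8045cfb8c5))) (.node (.node (.leaf 0x4d40d20385) (.leaf 0x74c483a224)) (.node (.leaf 0x64c2a30f1f) (.leaf 0x0)))) (.node (.node (.node (.leaf 0x404067818f) (.leaf 0x7184031c38)) (.node (.leaf 0x62022e0b5c) (.leaf 0x0))) (.node (.node (.leaf 0x54814105d4) (.leaf 0x79851529b6)) (.node (.leaf 0x69031312f3) (.leaf 0x0))))) (.node (.node (.node (.node (.leaf 0x3a003680c3) (.leaf 0x6e03ca99bd)) (.node (.leaf 0x5c41ea89d6) (.leaf 0x0))) (.node (.node (.leaf 0x51410904a2) (.leaf 0x7944d1268d)) (.node (.leaf 0x64c2de10ea) (.leaf 0x0)))) (.node (.node (.node (.leaf 0x49009f0282) (.leaf 0x7204469f4b)) (.node (.leaf 0x6142650d34) (.leaf 0x0))) (.node (.node (.leaf 0x55817786e7) (.leaf 0x7cc56eb038)) (.node (.leaf 0x68c34f94fa) (.leaf 0x0)))))) (.node (.node (.node (.node (.node (.leaf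 0x30001f0066) (.leaf 0x6d03a7985d)) (.node (.leaf 0x5c81d008fc) (.leaf 0x0))) (.node (.node (.leaf 0x4d00ee8402) (.leaf 0x7584a6a3d6)) (.node (.leaf 0x6582bd0fe6) (.leaf 0x0)))) (.node (.node (.node (.leaf 0x4540818201) (.leaf 0x7144241d8d)) (.node (.leaf 0x6182478c4f) (.leaf 0x0))) (.node (.node (.leaf 0x56015c8685) (.leaf 0x7a0543acd1)) (.node (.leaf 0x68c32f13d6) (.leaf 0x0))))) (.node (.node (.node (.node (.leaf 0x3c004e8121) (.leaf 0x70c3e71b07)) (.node (.leaf 0x5d420b0aa8) (.leaf 0x0))) (.node (.node (.leaf 0x514124852f) (.leaf 0x78c4f1281f)) (.node (.leaf 0x6982f891ec) (.leaf 0x0)))) (.node (.node (.node (.leaf 0x4940b882fc) (.leaf 0x758465a0d6)) (.node (.leaf 0x6582870dfc) (.leaf 0x0))) (.node (.node (.leaf 0x58819387bb) (.leaf 0x7e059d3394)) (.node (.leaf 0x6d036c1627) (.leaf 0x0))))))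
def Lv0T_59 : BT ℕ := .node (.node (.node (.node (.node (.node (.leaf 0x2c4013803f) (.leaf 0x6c439997d1)) (.node (.leaf 0x58c1bf88a2) (.leaf 0x8445f63e73))) (.node (.node (.leaf 0x4e00e083d9) (.leaf 0x74c49422c8)) (.node (.leaf 0x6502af0f76) (.leaf 0x0)))) (.node (.node (.node (.leaf 0x45407681c4) (.leaf 0x7144139cd5)) (.node (.leaf 0x61023a0bd6) (.leaf 0x0))) (.node (.node (.leaf 0x54414f862b) (.leaf 0x79852d2b58)) (.node (.leaf 0x6903211364) (.leaf 0x0))))) (.node (.node (.node (.node (.leaf 0x3c004300f0) (.leaf 0x70c3da1a86)) (.node (.leaf 0x5d81f68a31) (.leaf 0x0))) (.node (.node (.leaf 0x5141180502) (.leaf 0x7984e1a779)) (.node (.leaf 0x6982ec1161) (.leaf 0x0)))) (.node (.node (.node (.leaf 0x4940ab02c2) (.leaf 0x74c4582038)) (.node (.leaf 0x6102778d97) (.leaf 0x0))) (.node (.node (.leaf 0x588186875b) (.leaf 0x7c8582b11a)) (.node (.leaf 0x6cc35f95a8) (.leaf 0x0)))))) (.node (.node (.node (.node (.node (.leaf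 0x35402a8091) (.leaf 0x6e03b5190c)) (.node (.leaf 0x5cc1dc896e) (.leaf 0x0))) (.node (.node (.leaf 0x5140fc0450) (.leaf 0x74c4b4a47f)) (.node (.leaf 0x6402cd9088) (.leaf 0x0)))) (.node (.node (.node (.leaf 0x4440908239) (.leaf 0x7084339e38)) (.node (.leaf 0x60c2548cb0) (.leaf 0x0))) (.node (.node (.leaf 0x56016986b1) (.leaf 0x7cc5592f3b)) (.node (.leaf 0x68c3411498) (.leaf 0x0))))) (.node (.node (.node (.node (.leaf 0x40005b0156) (.leaf 0x7083f39b92)) (.node (.leaf 0x5d821e0aee) (.leaf 0x0))) (.node (.node (.leaf 0x5401338572) (.leaf 0x78c4ffa8b3)) (.node (.leaf 0x6883061276) (.leaf 0x0)))) (.node (.node (.node (.leaf 0x4d40c6033c) (.leaf 0x754471a168)) (.node (.leaf 0x64c2948e8b) (.leaf 0x0))) (.node (.node (.leaf 0x5881a1881d) (.leaf 0x8005b6b719)) (.node (.leaf 0x6d837916b0) (.leaf 0x0))))))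
def Lv0T_60 : BT ℕ := .node (.node (.node (.node (.node (.node (.leaf 0x1d80048011) (.leaf 0x6d03851723)) (.node (.leaf 0x5801aa8860) (.leaf 0x80c5cb3877))) (.node (.node (.leaf 0x4c80cf8377) (.leaf 0x76047da1db)) (.node (.leaf 0x65029e8ef4) (.leaf 0x0)))) (.node (.node (.node (.leaf 0x4200648184) (.leaf 0x70c4001c1e)) (.node (.leaf 0x60c22a0b3e) (.leaf 0x0))) (.node (.node (.leaf 0x54813d85bc) (.leaf 0x7985102984)) (.node (.leaf 0x69830f92d4) (.leaf 0x0))))) (.node (.node (.node (.node (.leaf 0x38803400b5) (.leaf 0x6c43c7199b)) (.node (.leaf 0x5cc1e789c5) (.leaf 0x0))) (.node (.node (.leaf 0x5001060492) (.leaf 0x7484c32567)) (.node (.leaf 0x6442da90d4) (.leaf 0x0)))) (.node (.node (.node (.leaf 0x4a009b826d) (.leaf 0x7144419f1a)) (.node (.leaf 0x60c2608d08) (.leaf 0x0))) (.node (.node (.leaf 0x54817406d7) (.leaf 0x7cc567afe1)) (.node (.leaf 0x69834c14e9) (.leaf 0x0)))))) (.node (.node (.node (.node (.node (.leaf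 0x31801c005e) (.leaf 0x6c83a3182d)) (.node (.leaf 0x5cc1cc88d9) (.leaf 0x84060c4044))) (.node (.node (.leaf 0x4c00eb03f9) (.leaf 0x7584a2a3ab)) (.node (.leaf 0x6582b98fc7) (.leaf 0x0)))) (.node (.node (.node (.leaf 0x44407f81f4) (.leaf 0x7184209d6a)) (.node (.leaf 0x60c2450c3e) (.leaf 0x0))) (.node (.node (.leaf 0x54815a8677) (.leaf 0x7a053cac30)) (.node (.leaf 0x68032c93c3) (.leaf 0x0))))) (.node (.node (.node (.node (.leaf 0x3c004c0119) (.leaf 0x7003e49aec)) (.node (.leaf 0x5e02048a95) (.leaf 0x0))) (.node (.node (.leaf 0x5101208521) (.leaf 0x7984ec27e3)) (.node (.leaf 0x6982f591cd) (.leaf 0x0)))) (.node (.node (.node (.leaf 0x4880b602f1) (.leaf 0x750463a0be)) (.node (.leaf 0x6442848de6) (.leaf 0x0))) (.node (.node (.leaf 0x58419087aa) (.leaf 0x7c45983337)) (.node (.leaf 0x6d83689603) (.leaf 0x0))))))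
def Lv0T_61 : BT ℕ := .node (.node (.node (.node (.node (.node (.leaf 0x2a00100034) (.leaf 0x6c839617b0)) (.node (.leaf 0x5941bb8893) (.leaf 0x8045e63b44))) (.node (.node (.leaf 0x4c00de83ca) (.leaf 0x75848ea294)) (.node (.leaf 0x6442ac0f62) (.leaf 0x0)))) (.node (.node (.node (.leaf 0x46007301b0) (.leaf 0x70c40d1c96)) (.node (.leaf 0x60c2378bb8) (.leaf 0x0))) (.node (.node (.leaf 0x54014b8611) (.leaf 0x78c527ab0b)) (.node (.leaf 0x68831d933f) (.leaf 0x0))))) (.node (.node (.node (.node (.leaf 0x3d404000e0) (.leaf 0x7183d69a5d)) (.node (.leaf 0x5cc1f40a1e) (.leaf 0x0))) (.node (.node (.leaf 0x50411484e8) (.leaf 0x7a04dba727)) (.node (.leaf 0x6902e81140) (.leaf 0x0)))) (.node (.node (.node (.leaf 0x4900a802b0) (.leaf 0x758454a007)) (.node (.leaf 0x6042748d85) (.leaf 0x0))) (.node (.node (.leaf 0x5941828737) (.leaf 0x7c457db0e5)) (.node (.leaf 0x6d835c157f) (.leaf 0x0)))))) (.node (.node (.node (.node (.node (.leaf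 0x3540280089) (.leaf 0x6cc3b198d6)) (.node (.leaf 0x5c41da094d) (.leaf 0x0))) (.node (.node (.leaf 0x5180f98440) (.leaf 0x74c4afa432)) (.node (.leaf 0x6582c9905c) (.leaf 0x0)))) (.node (.node (.node (.leaf 0x45408d022f) (.leaf 0x70c42f1e03)) (.node (.leaf 0x6042520c9a) (.leaf 0x0))) (.node (.node (.leaf 0x55016606a6) (.leaf 0x7c85552ec8)) (.node (.leaf 0x68433a9468) (.leaf 0x0))))) (.node (.node (.node (.node (.leaf 0x4200580145) (.leaf 0x7083f09b7b)) (.node (.leaf 0x5cc21a0ae0) (.leaf 0x0))) (.node (.node (.leaf 0x50412f8553) (.leaf 0x7984fba897)) (.node (.leaf 0x6983021252) (.leaf 0x0)))) (.node (.node (.node (.leaf 0x4e00c3832b) (.leaf 0x74c46ea139)) (.node (.leaf 0x6442920e6a) (.leaf 0x0))) (.node (.node (.leaf 0x59819d07ff) (.leaf 0x8045b2b6bd)) (.node (.leaf 0x6cc375168a) (.leaf 0x0))))))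
def Lv0T_62 : BT ℕ := .node (.node (.node (.node (.node (.node (.leaf 0x24c00a0022) (.leaf 0x6d838b975b)) (.node (.leaf 0x58c1b10878) (.leaf 0x8085d438fc))) (.node (.node (.leaf 0x4c40d6039a) (.leaf 0x758487a24e)) (.node (.leaf 0x64c2a58f35) (.leaf 0x0)))) (.node (.node (.node (.leaf 0x42006a0198) (.leaf 0x7004071c60)) (.node (.leaf 0x6042320b78) (.leaf 0x0))) (.node (.node (.leaf 0x54014405e8) (.leaf 0x78451aaa00)) (.node (.leaf 0x6983161309) (.leaf 0x0))))) (.node (.node (.node (.node (.leaf 0x38803a00cb) (.leaf 0x7043d01a03)) (.node (.leaf 0x5d01ee09eb) (.leaf 0x0))) (.node (.node (.leaf 0x50010c84b7) (.leaf 0x7984d3a6ac)) (.node (.leaf 0x6582e11100) (.leaf 0x0)))) (.node (.node (.node (.leaf 0x4840a20292) (.leaf 0x75844e1faf)) (.node (.leaf 0x6042688d53) (.leaf 0x0))) (.node (.node (.leaf 0x58817c070c) (.leaf 0x7cc573b079)) (.node (.leaf 0x6d8355152a) (.leaf 0x0)))))) (.node (.node (.node (.node (.node (.leaf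 0x360022006f) (.leaf 0x6e03aa1875)) (.node (.leaf 0x5e01d28910) (.leaf 0x0))) (.node (.node (.leaf 0x4cc0f28410) (.leaf 0x74c4a923f1)) (.node (.leaf 0x6582c08ffc) (.leaf 0x0)))) (.node (.node (.node (.leaf 0x4540860216) (.leaf 0x7184269da9)) (.node (.leaf 0x61024a8c62) (.leaf 0x0))) (.node (.node (.leaf 0x5401600693) (.leaf 0x7cc54c2e53)) (.node (.leaf 0x690333140d) (.leaf 0x0))))) (.node (.node (.node (.node (.leaf 0x3c0052012a) (.leaf 0x7003eb1b34)) (.node (.leaf 0x5c82100ab8) (.leaf 0x0))) (.node (.node (.leaf 0x508128853a) (.leaf 0x7884f52851)) (.node (.leaf 0x6902fb920f) (.leaf 0x0)))) (.node (.node (.node (.leaf 0x4940bc8306) (.leaf 0x75846820ef)) (.node (.leaf 0x65428c0e29) (.leaf 0x0))) (.node (.node (.leaf 0x58019707d1) (.leaf 0x7c05a533fb)) (.node (.leaf 0x6d836f1649) (.leaf 0x0))))))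
def Lv0T_63 : BT ℕ := .node (.node (.node (.node (.node (.node (.leaf 0x2e00158048) (.leaf 0x6d839c97f4)) (.node (.leaf 0x5901c208ad) (.leaf 0x8545f9be9d))) (.node (.node (.leaf 0x4c00e483e4) (.leaf 0x74c498a2fb)) (.node (.leaf 0x6582b28f93) (.leaf 0x0)))) (.node (.node (.node (.leaf 0x45407981d6) (.leaf 0x7204191d10)) (.node (.leaf 0x61823d8bfa) (.leaf 0x0))) (.node (.node (.leaf 0x54c152863e) (.leaf 0x798531ab7f)) (.node (.leaf 0x6843251383) (.leaf 0x0))))) (.node (.node (.node (.node (.leaf 0x3e004580fd) (.leaf 0x7103dd1aa4)) (.node (.leaf 0x5d01fb8a55) (.leaf 0x0))) (.node (.node (.leaf 0x52011a050d) (.leaf 0x7904e5a7a2)) (.node (.leaf 0x6842f09195) (.leaf 0x0)))) (.node (.node (.node (.leaf 0x48c0b002df) (.leaf 0x75845ca06e)) (.node (.leaf 0x61827c0dae) (.leaf 0x0))) (.node (.node (.leaf 0x58c1890776) (.leaf 0x7cc589b1a2)) (.node (.leaf 0x6d836215c3) (.leaf 0x0)))))) (.node (.node (.node (.node (.node (.leaf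 0x39802e8099) (.leaf 0x6cc3bd195c)) (.node (.leaf 0x5d01df8988) (.leaf 0x0))) (.node (.node (.leaf 0x50c0ff846d) (.leaf 0x7604b924d9)) (.node (.leaf 0x6502d190a3) (.leaf 0x0)))) (.node (.node (.node (.leaf 0x4440950244) (.leaf 0x7204369e77)) (.node (.leaf 0x6182578cc2) (.leaf 0x0))) (.node (.node (.leaf 0x54816d86c0) (.leaf 0x7d855e2f7b)) (.node (.leaf 0x69834494af) (.leaf 0x0))))) (.node (.node (.node (.node (.leaf 0x40005d8163) (.leaf 0x70c3f61bb0)) (.node (.leaf 0x5d82238b05) (.leaf 0x0))) (.node (.node (.leaf 0x5581368589) (.leaf 0x78c50528e4)) (.node (.leaf 0x68430a12a8) (.leaf 0x0)))) (.node (.node (.node (.leaf 0x4c40c98355) (.leaf 0x7584752185)) (.node (.leaf 0x6582978ea4) (.leaf 0x0))) (.node (.node (.leaf 0x58c1a40833) (.leaf 0x8045bf37d1)) (.node (.leaf 0x6cc37e16d7) (.leaf 0x0))))))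
def Lv0T : BT ℕ := .node (.node (.node (.node (.node (.node (Lv0T_0) (Lv0T_1)) (.node (Lv0T_2) (Lv0T_3))) (.node (.node (Lv0T_4) (Lv0T_5)) (.node (Lv0T_6) (Lv0T_7)))) (.node (.node (.node (Lv0T_8) (Lv0T_9)) (.node (Lv0T_10) (Lv0T_11))) (.node (.node (Lv0T_12) (Lv0T_13)) (.node (Lv0T_14) (Lv0T_15))))) (.node (.node (.node (.node (Lv0T_16) (Lv0T_17)) (.node (Lv0T_18) (Lv0T_19))) (.node (.node (Lv0T_20) (Lv0T_21)) (.node (Lv0T_22) (Lv0T_23)))) (.node (.node (.node (Lv0T_24) (Lv0T_25)) (.node (Lv0T_26) (Lv0T_27))) (.node (.node (Lv0T_28) (Lv0T_29)) (.node (Lv0T_30) (Lv0T_31)))))) (.node (.node (.node (.node (.node (Lv0T_32) (Lv0T_33)) (.node (Lv0T_34) (Lv0T_35))) (.node (.node (Lv0T_36) (Lv0T_37)) (.node (Lv0T_38) (Lv0T_39)))) (.node (.node (.node (Lv0T_40) (Lv0T_41)) (.node (Lv0T_42) (Lv0T_43))) (.node (.node (Lv0T_44) (Lv0T_45)) (.node (Lv0T_46) (Lv0T_47))))) (.node (.node (.node (.node (Lv0T_48) (Lv0T_49)) (.node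 (Lv0T_50) (Lv0T_51))) (.node (.node (Lv0T_52) (Lv0T_53)) (.node (Lv0T_54) (Lv0T_55)))) (.node (.node (.node (Lv0T_56) (Lv0T_57)) (.node (Lv0T_58) (Lv0T_59))) (.node (.node (Lv0T_60) (Lv0T_61)) (.node (Lv0T_62) (Lv0T_63))))))
noncomputable def Lv0 : LTab := { n := 3159, b := 2, T := Lv0T }
theorem Lv0_c : allB (fun t => P.lvlOK Lv0 [1, 0] t) 3159 = true := by decide +kernel
theorem Lv0_ok : ∀ t < Lv0.n, P.lvlOK Lv0 [1, 0] t = true := allB_iff.mp Lv0_c
def Lv1T_0 : BT ℕ := .node (.node (.node (.node (.node (.node (.leaf 0x3) (.leaf 0x508071869e)) (.node (.leaf 0x3c4035018f) (.leaf 0x0))) (.node (.node (.leaf 0x2d40190068) (.leaf 0x0)) (.node (.leaf 0x4580538311) (.leaf 0x0)))) (.node (.node (.node (.leaf 0x24400c002d) (.leaf 0x0)) (.node (.leaf 0x4000438238) (.leaf 0x0))) (.node (.node (.leaf 0x36002600cf) (.leaf 0x0)) (.node (.leaf 0x4c00628512) (.leaf 0x0))))) (.node (.node (.node (.node (.leaf 0x1a00048013) (.leaf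 0x51807906d4)) (.node (.leaf 0x40403d021f) (.leaf 0x0))) (.node (.node (.leaf 0x32001f0093) (.leaf 0x0)) (.node (.leaf 0x49405a83f4) (.leaf 0x0)))) (.node (.node (.node (.leaf 0x2840118047) (.leaf 0x0)) (.node (.leaf 0x44404b02ed) (.leaf 0x0))) (.node (.node (.leaf 0x39402d0120) (.leaf 0x0)) (.node (.leaf 0x4cc069853b) (.leaf 0x0)))))) (.node (.node (.node (.node (.node (.leaf 0x144002800b) (.leaf 0x50007586be)) (.node (.leaf 0x3c0038019a) (.leaf 0x0))) (.node (.node (.leaf 0x32001c008b) (.leaf 0x0)) (.node (.leaf 0x48005683e1) (.leaf 0x0)))) (.node (.node (.node (.leaf 0x25400e8035) (.leaf 0x0)) (.node (.leaf 0x44c04802df) (.leaf 0x0))) (.node (.node (.leaf 0x3a002a0117) (.leaf 0x0)) (.node (.leaf 0x4cc0658520) (.leaf 0x0))))) (.node (.node (.node (.node (.leaf 0x200008801f) (.leaf 0x54407d8876)) (.node (.leaf 0x408040022a) (.leaf 0x0))) (.node (.node (.leaf 0x34002380c6) (.leaf 0x0)) (.node (.leaf 0x48405e8408)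 (.leaf 0x0)))) (.node (.node (.node (.leaf 0x2cc0158060) (.leaf 0x0)) (.node (.leaf 0x44004e82fd) (.leaf 0x0))) (.node (.node (.leaf 0x394031012b) (.leaf 0x0)) (.node (.leaf 0x51406e0686) (.leaf 0x0))))))
def Lv1T_1 : BT ℕ := .node (.node (.node (.node (.node (.node (.leaf 0xcc0010007) (.leaf 0x51807386a7)) (.node (.leaf 0x3e00360194) (.leaf 0x0))) (.node (.node (.leaf 0x30c01b0087) (.leaf 0x0)) (.node (.leaf 0x4a005483d9) (.leaf 0x0)))) (.node (.node (.node (.leaf 0x26000c8031) (.leaf 0x0)) (.node (.leaf 0x4000458240) (.leaf 0x0))) (.node (.node (.leaf 0x35402900d5) (.leaf 0x0)) (.node (.leaf 0x4c8064851a) (.leaf 0x0))))) (.node (.node (.node (.node (.leaf 0x1d80068018) (.leaf 0x55407b8863)) (.node (.leaf 0x41403e0224) (.leaf 0x0))) (.node (.node (.leaf 0x34402200c2) (.leaf 0x0)) (.node (.leaf 0x48405c83fc) (.leaf 0x0)))) (.node (.node (.node (.leaf 0x2a0013004b) (.leaf 0x0)) (.node (.leaf 0x44004d02f5) (.leaf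 0x0))) (.node (.node (.leaf 0x3a002f0125) (.leaf 0x0)) (.node (.leaf 0x4cc06c054a) (.leaf 0x0)))))) (.node (.node (.node (.node (.node (.leaf 0x188004000f) (.leaf 0x50807706c7)) (.node (.leaf 0x3d403a01a1) (.leaf 0x0))) (.node (.node (.leaf 0x30801d808f) (.leaf 0x0)) (.node (.leaf 0x48c05803e7) (.leaf 0x0)))) (.node (.node (.node (.leaf 0x2a00100043) (.leaf 0x0)) (.node (.leaf 0x45404902e7) (.leaf 0x0))) (.node (.node (.leaf 0x38802c011b) (.leaf 0x0)) (.node (.leaf 0x4c00680533) (.leaf 0x0))))) (.node (.node (.node (.node (.leaf 0x2180098023) (.leaf 0x5580818889)) (.node (.leaf 0x4200418232) (.leaf 0x0))) (.node (.node (.leaf 0x34002480ca) (.leaf 0x0)) (.node (.leaf 0x4e00608506) (.leaf 0x0)))) (.node (.node (.node (.leaf 0x2e00168064) (.leaf 0x0)) (.node (.leaf 0x4480508303) (.leaf 0x0))) (.node (.node (.leaf 0x3e0033018a) (.leaf 0x0)) (.node (.leaf 0x5040700696) (.leaf 0x0))))))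
def Lv1T_2 : BT ℕ := .node (.node (.node (.node (.node (.node (.leaf 0x840008005) (.leaf 0x50c07206a0)) (.node (.leaf 0x3c40360191) (.leaf 0x0))) (.node (.node (.leaf 0x2e0019806a) (.leaf 0x0)) (.node (.leaf 0x4a005403d3) (.leaf 0x0)))) (.node (.node (.node (.leaf 0x26000c002f) (.leaf 0x0)) (.node (.leaf 0x408044823a) (.leaf 0x0))) (.node (.node (.leaf 0x36002780d1) (.leaf 0x0)) (.node (.leaf 0x4c40638518) (.leaf 0x0))))) (.node (.node (.node (.node (.leaf 0x1d80060016) (.leaf 0x54807b0861)) (.node (.leaf 0x42003d0222) (.leaf 0x0))) (.node (.node (.leaf 0x3200208096) (.leaf 0x0)) (.node (.leaf 0x48005b83fa) (.leaf 0x0)))) (.node (.node (.node (.leaf 0x2800128049) (.leaf 0x0)) (.node (.leaf 0x44c04b82ef) (.leaf 0x0))) (.node (.node (.leaf 0x39402e8123) (.leaf 0x0)) (.node (.leaf 0x4cc06b0541) (.leaf 0x0)))))) (.node (.node (.node (.node (.node (.leaf 0x158002800d) (.leaf 0x50807686c0)) (.node (.leaf 0x3e0039019f)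 (.leaf 0x0))) (.node (.node (.leaf 0x30001d008d) (.leaf 0x0)) (.node (.leaf 0x48405783e5) (.leaf 0x0)))) (.node (.node (.node (.leaf 0x28c0100041) (.leaf 0x0)) (.node (.leaf 0x46004802e2) (.leaf 0x0))) (.node (.node (.leaf 0x38002b0119) (.leaf 0x0)) (.node (.leaf 0x4c00670525) (.leaf 0x0))))) (.node (.node (.node (.node (.leaf 0x2200088021) (.leaf 0x54c07e0878)) (.node (.leaf 0x414041022d) (.leaf 0x0))) (.node (.node (.leaf 0x36002380c8) (.leaf 0x0)) (.node (.leaf 0x49805f840d) (.leaf 0x0)))) (.node (.node (.node (.leaf 0x2d40160062) (.leaf 0x0)) (.node (.leaf 0x44404f82ff) (.leaf 0x0))) (.node (.node (.leaf 0x3c80330188) (.leaf 0x0)) (.node (.leaf 0x51406f0694) (.leaf 0x0))))))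
def Lv1T_3 : BT ℕ := .node (.node (.node (.node (.node (.node (.leaf 0x1140018009) (.leaf 0x50007486ab)) (.node (.leaf 0x3d40370196) (.leaf 0x0))) (.node (.node (.leaf 0x31401b8089) (.leaf 0x0)) (.node (.leaf 0x49405583df) (.leaf 0x0)))) (.node (.node (.node (.leaf 0x24c00e0033) (.leaf 0x0)) (.node (.leaf 0x4040470244) (.leaf 0x0))) (.node (.node (.leaf 0x38002a0115) (.leaf 0x0)) (.node (.leaf 0x4c8065051e) (.leaf 0x0))))) (.node (.node (.node (.node (.leaf 0x1cc007001a) (.leaf 0x54407c8865)) (.node (.leaf 0x40003f0228) (.leaf 0x0))) (.node (.node (.leaf 0x35402280c4) (.leaf 0x0)) (.node (.leaf 0x48805d8400) (.leaf 0x0)))) (.node (.node (.node (.leaf 0x2d8015005e) (.leaf 0x0)) (.node (.leaf 0x45404d82f7) (.leaf 0x0))) (.node (.node (.leaf 0x3940300129) (.leaf 0x0)) (.node (.leaf 0x50406d8684) (.leaf 0x0)))))) (.node (.node (.node (.node (.node (.leaf 0x1980040011) (.leaf 0x50c07786c9)) (.node (.leaf 0x3c003b01a5)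 (.leaf 0x0))) (.node (.node (.leaf 0x31401e0091) (.leaf 0x0)) (.node (.leaf 0x48405983ea) (.leaf 0x0)))) (.node (.node (.node (.leaf 0x2a00108045) (.leaf 0x0)) (.node (.leaf 0x44004a02e9) (.leaf 0x0))) (.node (.node (.leaf 0x3a002c011d) (.leaf 0x0)) (.node (.leaf 0x4c40690539) (.leaf 0x0))))) (.node (.node (.node (.node (.leaf 0x20c00a0025) (.leaf 0x54c08508a2)) (.node (.leaf 0x4140428234) (.leaf 0x0))) (.node (.node (.leaf 0x35402580cc) (.leaf 0x0)) (.node (.leaf 0x4e00618510) (.leaf 0x0)))) (.node (.node (.node (.leaf 0x2c00180066) (.leaf 0x0)) (.node (.leaf 0x444052030a) (.leaf 0x0))) (.node (.node (.leaf 0x3d4034018d) (.leaf 0x0)) (.node (.leaf 0x508071069c) (.leaf 0x0))))))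
def Lv1T_4 : BT ℕ := .node (.node (.node (.node (.node (.node (.leaf 0x480000004) (.leaf 0x50c071869f)) (.node (.leaf 0x3c80358190) (.leaf 0x0))) (.node (.node (.leaf 0x2c80198069) (.leaf 0x0)) (.node (.leaf 0x49405403d2) (.leaf 0x0)))) (.node (.node (.node (.leaf 0x25800c002e) (.leaf 0x0)) (.node (.leaf 0x4040440239) (.leaf 0x0))) (.node (.node (.leaf 0x35402680d0) (.leaf 0x0)) (.node (.leaf 0x4c00630517) (.leaf 0x0))))) (.node (.node (.node (.node (.leaf 0x1d40060015) (.leaf 0x51807a06dd)) (.node (.leaf 0x41403d0221) (.leaf 0x0))) (.node (.node (.leaf 0x3200200094) (.leaf 0x0)) (.node (.leaf 0x48005b03f5) (.leaf 0x0)))) (.node (.node (.node (.leaf 0x2a00118048) (.leaf 0x0)) (.node (.leaf 0x44804b82ee) (.leaf 0x0))) (.node (.node (.leaf 0x38002d8121) (.leaf 0x0)) (.node (.leaf 0x4c806a053c) (.leaf 0x0)))))) (.node (.node (.node (.node (.node (.leaf 0x154002800c) (.leaf 0x50407606bf)) (.node (.leaf 0x3c4038819b)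 (.leaf 0x0))) (.node (.node (.leaf 0x31401c808c) (.leaf 0x0)) (.node (.leaf 0x48405703e2) (.leaf 0x0)))) (.node (.node (.node (.leaf 0x26000f0036) (.leaf 0x0)) (.node (.leaf 0x45404802e1) (.leaf 0x0))) (.node (.node (.leaf 0x39402a8118) (.leaf 0x0)) (.node (.leaf 0x4c40668522) (.leaf 0x0))))) (.node (.node (.node (.node (.leaf 0x2180088020) (.leaf 0x54807e0877)) (.node (.leaf 0x40c040022b) (.leaf 0x0))) (.node (.node (.leaf 0x34802380c7) (.leaf 0x0)) (.node (.leaf 0x48c05f0409) (.leaf 0x0)))) (.node (.node (.node (.leaf 0x2e00158061) (.leaf 0x0)) (.node (.leaf 0x44004f02fe) (.leaf 0x0))) (.node (.node (.leaf 0x380032012e) (.leaf 0x0)) (.node (.leaf 0x50006e8687) (.leaf 0x0))))))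
def Lv1T_5 : BT ℕ := .node (.node (.node (.node (.node (.node (.leaf 0x10c0018008) (.leaf 0x50407406a8)) (.node (.leaf 0x3e00368195) (.leaf 0x0))) (.node (.node (.leaf 0x32001b0088) (.leaf 0x0)) (.node (.leaf 0x49405503da) (.leaf 0x0)))) (.node (.node (.node (.leaf 0x24400d8032) (.leaf 0x0)) (.node (.leaf 0x4000460241) (.leaf 0x0))) (.node (.node (.leaf 0x34002980d6) (.leaf 0x0)) (.node (.leaf 0x4cc064851b) (.leaf 0x0))))) (.node (.node (.node (.node (.leaf 0x1e00068019) (.leaf 0x54007c0864)) (.node (.leaf 0x41403e8227) (.leaf 0x0))) (.node (.node (.leaf 0x36002200c3) (.leaf 0x0)) (.node (.leaf 0x48805d03fd) (.leaf 0x0)))) (.node (.node (.node (.leaf 0x294013804c) (.leaf 0x0)) (.node (.leaf 0x46004d02f6) (.leaf 0x0))) (.node (.node (.leaf 0x39402f8126) (.leaf 0x0)) (.node (.leaf 0x4d806c854b) (.leaf 0x0)))))) (.node (.node (.node (.node (.node (.leaf 0x1940040010) (.leaf 0x50c07706c8)) (.node (.leaf 0x3c003a81a2)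 (.leaf 0x0))) (.node (.node (.leaf 0x32001d8090) (.leaf 0x0)) (.node (.leaf 0x48c05883e8) (.leaf 0x0)))) (.node (.node (.node (.leaf 0x28c0108044) (.leaf 0x0)) (.node (.leaf 0x45404982e8) (.leaf 0x0))) (.node (.node (.leaf 0x39402c011c) (.leaf 0x0)) (.node (.leaf 0x4c40688534) (.leaf 0x0))))) (.node (.node (.node (.node (.leaf 0x2200098024) (.leaf 0x54c08488a1)) (.node (.leaf 0x4140420233) (.leaf 0x0))) (.node (.node (.leaf 0x34802580cb) (.leaf 0x0)) (.node (.leaf 0x4d40610507) (.leaf 0x0)))) (.node (.node (.node (.leaf 0x2d40170065) (.leaf 0x0)) (.node (.leaf 0x4400518309) (.leaf 0x0))) (.node (.node (.leaf 0x3e0033818c) (.leaf 0x0)) (.node (.leaf 0x504070869b) (.leaf 0x0))))))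
def Lv1T_6 : BT ℕ := .node (.node (.node (.node (.node (.node (.leaf 0xc00010006) (.leaf 0x50c07306a5)) (.node (.leaf 0x3d40360193) (.leaf 0x0))) (.node (.node (.leaf 0x2d401a006b) (.leaf 0x0)) (.node (.leaf 0x48005483d8) (.leaf 0x0)))) (.node (.node (.node (.leaf 0x24c00c8030) (.leaf 0x0)) (.node (.leaf 0x414045023f) (.leaf 0x0))) (.node (.node (.leaf 0x35402800d2) (.leaf 0x0)) (.node (.leaf 0x4c40640519) (.leaf 0x0))))) (.node (.node (.node (.node (.leaf 0x1c00068017) (.leaf 0x56007b0862)) (.node (.leaf 0x42003d8223) (.leaf 0x0))) (.node (.node (.leaf 0x3140210097) (.leaf 0x0)) (.node (.leaf 0x48405c03fb) (.leaf 0x0)))) (.node (.node (.node (.leaf 0x284013004a) (.leaf 0x0)) (.node (.leaf 0x44c04c02f0) (.leaf 0x0))) (.node (.node (.leaf 0x3a002e8124) (.leaf 0x0)) (.node (.leaf 0x4d806b8543) (.leaf 0x0)))))) (.node (.node (.node (.node (.node (.leaf 0x160003000e) (.leaf 0x50c07686c1)) (.node (.leaf 0x3d403981a0)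 (.leaf 0x0))) (.node (.node (.leaf 0x30001d808e) (.leaf 0x0)) (.node (.leaf 0x48805803e6) (.leaf 0x0)))) (.node (.node (.node (.leaf 0x2980100042) (.leaf 0x0)) (.node (.leaf 0x46004882e6) (.leaf 0x0))) (.node (.node (.leaf 0x38402b811a) (.leaf 0x0)) (.node (.leaf 0x4d40678532) (.leaf 0x0))))) (.node (.node (.node (.node (.leaf 0x20c0090022) (.leaf 0x55807f887f)) (.node (.leaf 0x420041022e) (.leaf 0x0))) (.node (.node (.leaf 0x35402400c9) (.leaf 0x0)) (.node (.leaf 0x4c00608505) (.leaf 0x0)))) (.node (.node (.node (.leaf 0x2c40168063) (.leaf 0x0)) (.node (.leaf 0x4440500302) (.leaf 0x0))) (.node (.node (.leaf 0x3d40330189) (.leaf 0x0)) (.node (.leaf 0x50006f8695) (.leaf 0x0))))))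
def Lv1T_7 : BT ℕ := .node (.node (.node (.node (.node (.node (.leaf 0x118002000a) (.leaf 0x51407506ae)) (.node (.leaf 0x3d40378199) (.leaf 0x0))) (.node (.node (.leaf 0x30401c008a) (.leaf 0x0)) (.node (.leaf 0x48005603e0) (.leaf 0x0)))) (.node (.node (.node (.leaf 0x26000e0034) (.leaf 0x0)) (.node (.leaf 0x40c0478247) (.leaf 0x0))) (.node (.node (.leaf 0x38802a0116) (.leaf 0x0)) (.node (.leaf 0x4cc065051f) (.leaf 0x0))))) (.node (.node (.node (.node (.leaf 0x1e0007801b) (.leaf 0x54007d0875)) (.node (.leaf 0x40403f8229) (.leaf 0x0))) (.node (.node (.leaf 0x34002300c5) (.leaf 0x0)) (.node (.leaf 0x48c05d8401) (.leaf 0x0)))) (.node (.node (.node (.leaf 0x2e0015005f) (.leaf 0x0)) (.node (.leaf 0x45404e02fc) (.leaf 0x0))) (.node (.node (.leaf 0x380030812a) (.leaf 0x0)) (.node (.leaf 0x52006d8685) (.leaf 0x0)))))) (.node (.node (.node (.node (.node (.leaf 0x1980048012) (.leaf 0x51807806cb)) (.node (.leaf 0x3c403c81a8)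 (.leaf 0x0))) (.node (.node (.leaf 0x31401f0092) (.leaf 0x0)) (.node (.leaf 0x4a005a03f3) (.leaf 0x0)))) (.node (.node (.node (.leaf 0x2940110046) (.leaf 0x0)) (.node (.leaf 0x44004a82ec) (.leaf 0x0))) (.node (.node (.leaf 0x3a002c811f) (.leaf 0x0)) (.node (.leaf 0x4c8069853a) (.leaf 0x0))))) (.node (.node (.node (.node (.leaf 0x22000a0026) (.leaf 0x55808588a4)) (.node (.leaf 0x4000430235) (.leaf 0x0))) (.node (.node (.leaf 0x36002580cd) (.leaf 0x0)) (.node (.leaf 0x4d40620511) (.leaf 0x0)))) (.node (.node (.node (.leaf 0x2e00180067) (.leaf 0x0)) (.node (.leaf 0x44c053030d) (.leaf 0x0))) (.node (.node (.leaf 0x3c0034818e) (.leaf 0x0)) (.node (.leaf 0x50c071069d) (.leaf 0x0))))))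
def Lv1T : BT ℕ := .node (.node (.node (Lv1T_0) (Lv1T_1)) (.node (Lv1T_2) (Lv1T_3))) (.node (.node (Lv1T_4) (Lv1T_5)) (.node (Lv1T_6) (Lv1T_7)))
noncomputable def Lv1 : LTab := { n := 288, b := 3, T := Lv1T }
theorem Lv1_c : allB (fun t => P.lvlOK Lv1 [2, 1, 0] t) 288 = true := by decide +kernel
theorem Lv1_ok : ∀ t < Lv1.n, P.lvlOK Lv1 [2, 1, 0] t = true := allB_iff.mp Lv1_c
def Lv2T : BT ℕ := .node (.node (.node (.node (.node (.node (.leaf 0x4) (.leaf 0x29400e806b)) (.node (.leaf 0x1980058018) (.leaf 0x0))) (.node (.node (.leaf 0x114002000c) (.leaf 0x0)) (.node (.leaf 0x20c00a0033) (.leaf 0x0)))) (.node (.node (.node (.leaf 0xcc0010008) (.leaf 0x0)) (.node (.leaf 0x1d80078023) (.leaf 0x0))) (.node (.node (.leaf 0x1580038011) (.leaf 0x0)) (.node (.leaf 0x24400c004a) (.leaf 0x0))))) (.node (.node (.node (.node (.leaf 0x800008006) (.leaf 0x30001080d6)) (.node (.leaf 0x18c006001a) (.leaf 0x0))) (.node (.node (.leaf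 0x120002800e) (.leaf 0x0)) (.node (.leaf 0x21400a8035) (.leaf 0x0)))) (.node (.node (.node (.leaf 0xd8001800a) (.leaf 0x0)) (.node (.leaf 0x1cc0080025) (.leaf 0x0))) (.node (.node (.leaf 0x1600040013) (.leaf 0x0)) (.node (.leaf 0x25400c804c) (.leaf 0x0)))))) (.node (.node (.node (.node (.node (.leaf 0x440000005) (.leaf 0x2d400f8097)) (.node (.leaf 0x1a00058019) (.leaf 0x0))) (.node (.node (.leaf 0x118002000d) (.leaf 0x0)) (.node (.leaf 0x22000a0034) (.leaf 0x0)))) (.node (.node (.node (.leaf 0xd40010009) (.leaf 0x0)) (.node (.leaf 0x1e00078024) (.leaf 0x0))) (.node (.node (.leaf 0x1580040012) (.leaf 0x0)) (.node (.leaf 0x26000c004b) (.leaf 0x0))))) (.node (.node (.node (.node (.leaf 0x8c0008007) (.leaf 0x0)) (.node (.leaf 0x1a0006801b) (.leaf 0x0))) (.node (.node (.leaf 0x1540038010) (.leaf 0x0)) (.node (.leaf 0x22000b0036) (.leaf 0x0)))) (.node (.node (.node (.leaf 0x104002000b) (.leaf 0x0)) (.node (.leaf 0x1e00080026)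 (.leaf 0x0))) (.node (.node (.leaf 0x1800058017) (.leaf 0x0)) (.node (.leaf 0x2a000e006a) (.leaf 0x0))))))
noncomputable def Lv2 : LTab := { n := 35, b := 4, T := Lv2T }
theorem Lv2_c : allB (fun t => P.lvlOK Lv2 [3, 2, 1, 0] t) 35 = true := by decide +kernel
theorem Lv2_ok : ∀ t < Lv2.n, P.lvlOK Lv2 [3, 2, 1, 0] t = true := allB_iff.mp Lv2_c
def Lv3T : BT ℕ := .node (.node (.node (.node (.leaf 0x5) (.leaf 0xe0002000e)) (.node (.leaf 0x940008009) (.leaf 0x0))) (.node (.node (.leaf 0x4c0000007) (.leaf 0x1200030013)) (.node (.leaf 0xd4001800c) (.leaf 0x0)))) (.node (.node (.node (.leaf 0x400000006) (.leaf 0x1180030012)) (.node (.leaf 0x98001000a) (.leaf 0x0))) (.node (.node (.leaf 0x8c0008008) (.leaf 0x160004801b)) (.node (.leaf 0xd8001800d) (.leaf 0x0))))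
noncomputable def Lv3 : LTab := { n := 12, b := 5, T := Lv3T }
theorem Lv3_c : allB (fun t => P.lvlOK Lv3 [4, 3, 2, 1, 0] t) 12 = true := by decide +kernel
theorem Lv3_ok : ∀ t < Lv3.n, P.lvlOK Lv3 [4, 3, 2, 1, 0] t = true := allB_iff.mp Lv3_c
def Lv4T : BT ℕ := .node (.node (.leaf 0x6) (.leaf 0xa0000800e)) (.node (.leaf 0x540000009) (.leaf 0x0))
noncomputable def Lv4 : LTab := { n := 3, b := 6, T := Lv4T }
theorem Lv4_c : allB (fun t => P.lvlOK Lv4 [5, 4, 3, 2, 1, 0] t) 3 = true := by decide +kernel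
theorem Lv4_ok : ∀ t < Lv4.n, P.lvlOK Lv4 [5, 4, 3, 2, 1, 0] t = true := allB_iff.mp Lv4_c
def Lv5T : BT ℕ := .node (.leaf 0x580008007) (.leaf 0xa)
noncomputable def Lv5 : LTab := { n := 2, b := 10, T := Lv5T }
theorem Lv5_c : allB (fun t => P.lvlOK Lv5 [6, 5, 4, 3, 2, 1, 0] t) 2 = true := by decide +kernel
theorem Lv5_ok : ∀ t < Lv5.n, P.lvlOK Lv5 [6, 5, 4, 3, 2, 1, 0] t = true := allB_iff.mp Lv5_c
def Lv6T : BT ℕ := .node (.leaf 0x9) (.leaf 0x60000000e)
noncomputable def Lv6 : LTab := { n := 2, b := 9, T := Lv6T }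
theorem Lv6_c : allB (fun t => P.lvlOK Lv6 [10, 6, 5, 4, 3, 2, 1, 0] t) 2 = true := by decide +kernel
theorem Lv6_ok : ∀ t < Lv6.n, P.lvlOK Lv6 [10, 6, 5, 4, 3, 2, 1, 0] t = true := allB_iff.mp Lv6_c
def base : List ℕ := [9, 10, 6, 5, 4, 3, 2, 1, 0]
theorem trans {Γ : Type*} [Group Γ] {s : ℕ → Γ} {ρ : Γ →* Equiv.Perm ℕ}
    (hρ : ∀ k < P.A, ρ (s k) = PTab.sig good k) : ∀ x < P.N, ∃ g, ρ g 0 = x :=
  rank3_trans (s := s) (n1 := 28161) good hρ (Sw := Sw) (by decide +kernel) (by decide) (by decide) orb1 orb2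
    [9] [9, 7, 4, 2, 1, 0, 3, 1, 2, 4, 7, 9] (by decide) (by decide) root1 root2
theorem lower {Γ : Type*} [Group Γ] [Finite Γ] {s : ℕ → Γ} {ρ : Γ →* Equiv.Perm ℕ}
    (hρ : ∀ k < P.A, ρ (s k) = PTab.sig good k) : 4089470473293004800 * Nat.card (fixer ρ base) ≤ Nat.card Γ := by
  have t0 := trans hρ
  have m0 := (PTab.orb_spec (s := s) good hρ (Sw := Sw) (by decide +kernel) (lo := 0) (hi := 1) (by decide) orb0).1
  have t1 := (PTab.orb_spec (s := s) good hρ (Sw := Sw) (by decide +kernel) (lo := 1) (hi := 28161) (by decide) orb1).2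
  have hfix := fix_of_orb m0
  have h0 : 31671 * Nat.card (fixer ρ [0]) ≤ Nat.card (fixer ρ []) :=
    level_lower [] 0 31671 (fun t => t) (fun _ _ _ _ h => h) (fun t ht => by
      obtain ⟨g, hg⟩ := t0 t ht
      exact ⟨g, by rw [fixer_nil]; trivial, hg⟩)
  have h0' : 28160 * Nat.card (fixer ρ [1, 0]) ≤ Nat.card (fixer ρ [0]) :=
    level_lower [0] 1 28160 (fun t => 1 + t) (fun _ _ _ _ h => by omega) (fun t ht => by
      obtain ⟨g, hg1, hg⟩ := t1 (1 + t) (by omega) (by omega)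
      refine ⟨g, ?_, hg⟩
      intro b hb
      simp only [List.mem_cons, List.not_mem_nil, or_false] at hb
      rw [hb]; exact hfix g hg1)
  have h1 : 3159 * Nat.card (fixer ρ [2, 1, 0]) ≤ Nat.card (fixer ρ [1, 0]) := PTab.lvl_lower good hρ [1, 0] Lv0_ok
  have h2 : 288 * Nat.card (fixer ρ [3, 2, 1, 0]) ≤ Nat.card (fixer ρ [2, 1, 0]) := PTab.lvl_lower good hρ [2, 1, 0] Lv1_ok
  have h3 : 35 * Nat.card (fixer ρ [4, 3, 2, 1, 0]) ≤ Nat.card (fixer ρ [3, 2, 1, 0]) := PTab.lvl_lower good hρ [3, 2, 1, 0] Lv2_ok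
  have h4 : 12 * Nat.card (fixer ρ [5, 4, 3, 2, 1, 0]) ≤ Nat.card (fixer ρ [4, 3, 2, 1, 0]) := PTab.lvl_lower good hρ [4, 3, 2, 1, 0] Lv3_ok
  have h5 : 3 * Nat.card (fixer ρ [6, 5, 4, 3, 2, 1, 0]) ≤ Nat.card (fixer ρ [5, 4, 3, 2, 1, 0]) := PTab.lvl_lower good hρ [5, 4, 3, 2, 1, 0] Lv4_ok
  have h6 : 2 * Nat.card (fixer ρ [10, 6, 5, 4, 3, 2, 1, 0]) ≤ Nat.card (fixer ρ [6, 5, 4, 3, 2, 1, 0]) := PTab.lvl_lower good hρ [6, 5, 4, 3, 2, 1, 0] Lv5_ok
  have h7 : 2 * Nat.card (fixer ρ [9, 10, 6, 5, 4, 3, 2, 1, 0]) ≤ Nat.card (fixer ρ [10, 6, 5, 4, 3, 2, 1, 0]) := PTab.lvl_lower good hρ [10, 6, 5, 4, 3, 2, 1, 0] Lv6_ok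
  have e : Nat.card (fixer ρ []) = Nat.card Γ := by rw [fixer_nil]; exact Nat.card_congr Subgroup.topEquiv.toEquiv
  rw [← e]
  show 4089470473293004800 * Nat.card (fixer ρ [9, 10, 6, 5, 4, 3, 2, 1, 0]) ≤ _
  generalize Nat.card (fixer ρ []) = c0 at *
  generalize Nat.card (fixer ρ [0]) = c0' at *
  generalize Nat.card (fixer ρ [1, 0]) = c1 at *
  generalize Nat.card (fixer ρ [2, 1, 0]) = c2 at *
  generalize Nat.card (fixer ρ [3, 2, 1, 0]) = c3 at *
  generalize Nat.card (fixer ρ [4, 3, 2, 1, 0]) = c4 at *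
  generalize Nat.card (fixer ρ [5, 4, 3, 2, 1, 0]) = c5 at *
  generalize Nat.card (fixer ρ [6, 5, 4, 3, 2, 1, 0]) = c6 at *
  generalize Nat.card (fixer ρ [10, 6, 5, 4, 3, 2, 1, 0]) = c7 at *
  generalize Nat.card (fixer ρ [9, 10, 6, 5, 4, 3, 2, 1, 0]) = c8 at *
  omega
noncomputable def mov_p : ℕ → Bool := fun i => (P.movOK 9) (Nat.add 1 i)
theorem mov_c0 : allB (fun i => mov_p (Nat.add 0 i)) 4000 = true := by decide +kernel
theorem mov_c1 : allB (fun i => mov_p (Nat.add 4000 i)) 4000 = true := by decide +kernel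
theorem mov_c2 : allB (fun i => mov_p (Nat.add 8000 i)) 4000 = true := by decide +kernel
theorem mov_c3 : allB (fun i => mov_p (Nat.add 12000 i)) 4000 = true := by decide +kernel
theorem mov_c4 : allB (fun i => mov_p (Nat.add 16000 i)) 4000 = true := by decide +kernel
theorem mov_c5 : allB (fun i => mov_p (Nat.add 20000 i)) 4000 = true := by decide +kernel
theorem mov_c6 : allB (fun i => mov_p (Nat.add 24000 i)) 4000 = true := by decide +kernel
theorem mov_c7 : allB (fun i => mov_p (Nat.add 28000 i)) 3670 = true := by decide +kernel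
theorem mov_a0 : ∀ u < 0, mov_p u = true := allB_base
theorem mov_a1 : ∀ u < 4000, mov_p u = true := allB_extend (p := mov_p) mov_a0 mov_c0
theorem mov_a2 : ∀ u < 8000, mov_p u = true := allB_extend (p := mov_p) mov_a1 mov_c1
theorem mov_a3 : ∀ u < 12000, mov_p u = true := allB_extend (p := mov_p) mov_a2 mov_c2
theorem mov_a4 : ∀ u < 16000, mov_p u = true := allB_extend (p := mov_p) mov_a3 mov_c3
theorem mov_a5 : ∀ u < 20000, mov_p u = true := allB_extend (p := mov_p) mov_a4 mov_c4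
theorem mov_a6 : ∀ u < 24000, mov_p u = true := allB_extend (p := mov_p) mov_a5 mov_c5
theorem mov_a7 : ∀ u < 28000, mov_p u = true := allB_extend (p := mov_p) mov_a6 mov_c6
theorem mov_a8 : ∀ u < 31670, mov_p u = true := allB_extend (p := mov_p) mov_a7 mov_c7
theorem mov : ∀ u, 1 ≤ u → u < 31671 → (P.movOK 9) u = true := by
  intro u h1 h2
  have h3 := mov_a8 (u - 1) (by omega)
  have e : Nat.add 1 (u - 1) = u := by show 1 + (u - 1) = u; omega
  unfold mov_p at h3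
  rw [e] at h3; exact h3
theorem fix0 : ∀ k < 9, P.pe 0 k = 0 := by decide +kernel
end Cfsg.Agent.Lib.Helper40.PE.F23P
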