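import Cfsg.Agent.Lib.Helper40.Fi.F23P
set_option autoImplicit false
set_option maxRecDepth 100000
namespace Cfsg.Agent.Lib.Helper40.PE.F23P
noncomputable def pt2_p : ℕ → Bool := fun i => (P.ptOK F23.B) (Nat.add 7918 i)
theorem pt2_c0 : allB (fun i => pt2_p (Nat.add 0 i)) 800 = true := by decide +kernel
theorem pt2_c1 : allB (fun i => pt2_p (Nat.add 800 i)) 800 = true := by decide +kernel
theorem pt2_c2 : allB (fun i => pt2_p (Nat.add 1600 i)) 800 = true := by decide +kernel
theorem pt2_c3 : allB (fun i => pt2_p (Nat.add 2400 i)) 800 = true := by decide +kernel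
theorem pt2_c4 : allB (fun i => pt2_p (Nat.add 3200 i)) 759 = true := by decide +kernel
theorem pt2_a0 : ∀ u < 0, pt2_p u = true := allB_base
theorem pt2_a1 : ∀ u < 800, pt2_p u = true := allB_extend (p := pt2_p) pt2_a0 pt2_c0
theorem pt2_a2 : ∀ u < 1600, pt2_p u = true := allB_extend (p := pt2_p) pt2_a1 pt2_c1
theorem pt2_a3 : ∀ u < 2400, pt2_p u = true := allB_extend (p := pt2_p) pt2_a2 pt2_c2
theorem pt2_a4 : ∀ u < 3200, pt2_p u = true := allB_extend (p := pt2_p) pt2_a3 pt2_c3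
theorem pt2_a5 : ∀ u < 3959, pt2_p u = true := allB_extend (p := pt2_p) pt2_a4 pt2_c4
theorem pt2 : ∀ u, 7918 ≤ u → u < 11877 → (P.ptOK F23.B) u = true := by
  intro u h1 h2
  have h3 := pt2_a5 (u - 7918) (by omega)
  have e : Nat.add 7918 (u - 7918) = u := by show 7918 + (u - 7918) = u; omega
  unfold pt2_p at h3
  rw [e] at h3; exact h3
end Cfsg.Agent.Lib.Helper40.PE.F23P
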