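import Cfsg.Agent.Lib.Helper40.Fi.F23P
set_option autoImplicit false
set_option maxRecDepth 100000
namespace Cfsg.Agent.Lib.Helper40.PE.F23P
noncomputable def pt4_p : ℕ → Bool := fun i => (P.ptOK F23.B) (Nat.add 15836 i)
theorem pt4_c0 : allB (fun i => pt4_p (Nat.add 0 i)) 800 = true := by decide +kernel
theorem pt4_c1 : allB (fun i => pt4_p (Nat.add 800 i)) 800 = true := by decide +kernel
theorem pt4_c2 : allB (fun i => pt4_p (Nat.add 1600 i)) 800 = true := by decide +kernel
theorem pt4_c3 : allB (fun i => pt4_p (Nat.add 2400 i)) 800 = true := by decide +kernel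
theorem pt4_c4 : allB (fun i => pt4_p (Nat.add 3200 i)) 759 = true := by decide +kernel
theorem pt4_a0 : ∀ u < 0, pt4_p u = true := allB_base
theorem pt4_a1 : ∀ u < 800, pt4_p u = true := allB_extend (p := pt4_p) pt4_a0 pt4_c0
theorem pt4_a2 : ∀ u < 1600, pt4_p u = true := allB_extend (p := pt4_p) pt4_a1 pt4_c1
theorem pt4_a3 : ∀ u < 2400, pt4_p u = true := allB_extend (p := pt4_p) pt4_a2 pt4_c2
theorem pt4_a4 : ∀ u < 3200, pt4_p u = true := allB_extend (p := pt4_p) pt4_a3 pt4_c3
theorem pt4_a5 : ∀ u < 3959, pt4_p u = true := allB_extend (p := pt4_p) pt4_a4 pt4_c4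
theorem pt4 : ∀ u, 15836 ≤ u → u < 19795 → (P.ptOK F23.B) u = true := by
  intro u h1 h2
  have h3 := pt4_a5 (u - 15836) (by omega)
  have e : Nat.add 15836 (u - 15836) = u := by show 15836 + (u - 15836) = u; omega
  unfold pt4_p at h3
  rw [e] at h3; exact h3
end Cfsg.Agent.Lib.Helper40.PE.F23P
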