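import Cfsg.Agent.Lib.Helper40.Fi.F23Pc0
import Cfsg.Agent.Lib.Helper40.Fi.F23Pc1
import Cfsg.Agent.Lib.Helper40.Fi.F23Pc2
import Cfsg.Agent.Lib.Helper40.Fi.F23Pc3
import Cfsg.Agent.Lib.Helper40.Fi.F23Pc4
import Cfsg.Agent.Lib.Helper40.Fi.F23Pc5
import Cfsg.Agent.Lib.Helper40.Fi.F23Pc6
import Cfsg.Agent.Lib.Helper40.Fi.F23Pc7
set_option autoImplicit false
set_option maxRecDepth 100000
namespace Cfsg.Agent.Lib.Helper40.PE.F23P
theorem ptAll : ∀ x < P.N, P.ptOK F23.B x = true := by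
  intro u hu
  have hu' : u < 31671 := hu
  by_cases h0 : u < 3959
  · exact pt0 u (by omega) h0
  by_cases h1 : u < 7918
  · exact pt1 u (by omega) h1
  by_cases h2 : u < 11877
  · exact pt2 u (by omega) h2
  by_cases h3 : u < 15836
  · exact pt3 u (by omega) h3
  by_cases h4 : u < 19795
  · exact pt4 u (by omega) h4
  by_cases h5 : u < 23754
  · exact pt5 u (by omega) h5
  by_cases h6 : u < 27713
  · exact pt6 u (by omega) h6
  exact pt7 u (by omega) hu'
end Cfsg.Agent.Lib.Helper40.PE.F23P
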