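/-
helper40: the presented group Fi22 with numbered generators (order c d e h f b i g a).
-/
import Cfsg.Prelude.Def_Spor_Fi22
import Cfsg.Agent.Lib.Helper40.PresCox
import Cfsg.Agent.Lib.Helper40.PresY

set_option autoImplicit false

namespace Cfsg.Agent.Lib.Helper40.PE.F22

open Cfsg.Spor

def gen : ℕ → Fi22.Gen
  | 0 => .c | 1 => .d | 2 => .e | 3 => .h | 4 => .f | 5 => .b | 6 => .i | 7 => .g | _ => .a

def idx : Fi22.Gen → ℕ
  | .c => 0 | .d => 1 | .e => 2 | .h => 3 | .f => 4 | .b => 5 | .i => 6 | .g => 7 | .a => 8

theorem gen_idx (x : Fi22.Gen) : gen (idx x) = x := by cases x <;> rfl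

theorem idx_lt (x : Fi22.Gen) : idx x < 9 := by cases x <;> decide

theorem gen_node (k : ℕ) : gen k ∈ coxNodes Fi22.edges := by
  have : ∀ x : Fi22.Gen, x ∈ coxNodes Fi22.edges := by intro x; cases x <;> decide
  exact this _

theorem label_eq (x y : Fi22.Gen) : coxLabel Fi22.edges x y = mY (idx x) (idx y) := by
  cases x <;> cases y <;> decide

/-- the numbered generators -/
abbrev s : ℕ → Spor.Fi22 := sG Fi22.edges Fi22.extra gen

theorem idx_gen {k : ℕ} (hk : k < 9) : idx (gen k) = k := by
  interval_cases k <;> rfl

theorem s_cox : ∀ i < 9, ∀ j < 9, (s i * s j) ^ mY i j = 1 := by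
  intro i hi j hj
  have := sG_cox Fi22.edges Fi22.extra gen i j (gen_node i) (gen_node j)
  rwa [label_eq, idx_gen hi, idx_gen hj] at this

theorem s_inv (k : ℕ) : s k * s k = 1 := by
  have := sG_cox Fi22.edges Fi22.extra gen k k (gen_node k) (gen_node k)
  rw [label_eq] at this
  have h1 : mY (idx (gen k)) (idx (gen k)) = 1 := by simp [mY]
  rwa [h1, pow_one] at this

theorem pre_top : pre s 9 = ⊤ :=
  pre_sG_top _ _ _ 9 fun x => ⟨idx x, idx_lt x, gen_idx x⟩

/-- the relators of Fi22 -/
def B : List (List ℕ) := coxB 9 mY ++ [(List.replicate 10 [1, 0, 5, 1, 2, 4, 1, 3, 6]).flatten,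
  (List.replicate 9 [8, 5, 0, 1, 2, 4, 3]).flatten, (List.replicate 9 [5, 0, 1, 2, 4, 7, 3]).flatten]

theorem s_B : ∀ b ∈ B, wp s b = 1 := by
  intro b hb
  rcases List.mem_append.mp hb with hb | hb
  · exact wp_coxB s s_cox b hb
  · simp only [List.mem_cons, List.not_mem_nil, or_false] at hb
    rcases hb with rfl | rfl | rfl
    · rw [wp_flatten_replicate]
      have := mk_extra Fi22.edges Fi22.extra _ (show _ ∈ Fi22.extra from List.mem_cons_self)
      simp only [map_pow, map_mul, mul_assoc] at this
      simp only [wp_cons, wp_nil, mul_one]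
      exact this
    · rw [wp_flatten_replicate]
      have := mk_extra Fi22.edges Fi22.extra _
        (show _ ∈ Fi22.extra from List.mem_cons_of_mem _ List.mem_cons_self)
      simp only [map_pow, map_mul, mul_assoc] at this
      simp only [wp_cons, wp_nil, mul_one]
      exact this
    · rw [wp_flatten_replicate]
      have := mk_extra Fi22.edges Fi22.extra _
        (show _ ∈ Fi22.extra from List.mem_cons_of_mem _ (List.mem_cons_of_mem _ List.mem_cons_self))
      simp only [map_pow, map_mul, mul_assoc] at this
      simp only [wp_cons, wp_nil, mul_one]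
      exact this

theorem B_letters : ∀ b ∈ B, ∀ k ∈ b, k < 9 := by decide +kernel

theorem B_kk : ∀ k < 9, [k, k] ∈ B := by decide +kernel

/-- a table satisfying the relators gives a permutation representation -/
theorem exists_rho {p : PTab} (hA : p.A = 9) (h : p.Good B) :
    ∃ ρ : Spor.Fi22 →* Equiv.Perm ℕ, ∀ k < p.A, ρ (s k) = PTab.sig h k := by
  obtain ⟨ρ, hρ⟩ := exists_hom Fi22.edges Fi22.extra (PTab.sig h) idx
    (by
      intro x _ y _
      rw [label_eq]
      have := wp_coxB (PTab.sig h) (A := 9) (m := mY) (fun i hi j hj => by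
        have h1 := PTab.wp_sig_rel h ((List.replicate (mY i j) [i, j]).flatten)
          (List.mem_append_left _ (by
            simp only [coxB, List.mem_flatMap, List.mem_map, List.mem_range]
            exact ⟨i, hi, j, hj, rfl⟩))
        rw [wp_flatten_replicate] at h1
        simpa using h1)
      have h2 := this ((List.replicate (mY (idx x) (idx y)) [idx x, idx y]).flatten) (by
        simp only [coxB, List.mem_flatMap, List.mem_map, List.mem_range]
        exact ⟨idx x, idx_lt x, idx y, idx_lt y, rfl⟩)
      rw [wp_flatten_replicate] at h2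
      simpa using h2)
    (by
      intro r hr
      simp only [Fi22.extra, List.mem_cons, List.not_mem_nil, or_false] at hr
      rcases hr with rfl | rfl | rfl
      · have h1 := PTab.wp_sig_rel h _ (show (List.replicate 10 [1, 0, 5, 1, 2, 4, 1, 3, 6]).flatten ∈ B from
          List.mem_append_right _ (by simp))
        rw [wp_flatten_replicate] at h1
        simp only [wp_cons, wp_nil, mul_one] at h1
        simp only [map_pow, map_mul, FreeGroup.lift_apply_of, mul_assoc]
        exact h1
      · have h1 := PTab.wp_sig_rel h _ (show (List.replicate 9 [8, 5, 0, 1, 2, 4, 3]).flatten ∈ B from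
          List.mem_append_right _ (by simp))
        rw [wp_flatten_replicate] at h1
        simp only [wp_cons, wp_nil, mul_one] at h1
        simp only [map_pow, map_mul, FreeGroup.lift_apply_of, mul_assoc]
        exact h1
      · have h1 := PTab.wp_sig_rel h _ (show (List.replicate 9 [5, 0, 1, 2, 4, 7, 3]).flatten ∈ B from
          List.mem_append_right _ (by simp))
        rw [wp_flatten_replicate] at h1
        simp only [wp_cons, wp_nil, mul_one] at h1
        simp only [map_pow, map_mul, FreeGroup.lift_apply_of, mul_assoc]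
        exact h1)
  refine ⟨ρ, fun k hk => ?_⟩
  rw [hA] at hk
  show ρ (PresentedGroup.of (gen k)) = _
  rw [hρ, idx_gen hk]

end Cfsg.Agent.Lib.Helper40.PE.F22
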