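import Cfsg.Agent.Lib.Helper40.Fi.L10
set_option autoImplicit false
set_option maxRecDepth 100000
namespace Cfsg.Agent.Lib.Helper40.PE.L10
noncomputable def ck0_p : ℕ → Bool := fun i => cert.nodeOK (Nat.add 0 i)
theorem ck0_c0 : allB (fun i => ck0_p (Nat.add 0 i)) 1500 = true := by decide +kernel
theorem ck0_c1 : allB (fun i => ck0_p (Nat.add 1500 i)) 1500 = true := by decide +kernel
theorem ck0_c2 : allB (fun i => ck0_p (Nat.add 3000 i)) 1500 = true := by decide +kernel
theorem ck0_c3 : allB (fun i => ck0_p (Nat.add 4500 i)) 1500 = true := by decide +kernel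
theorem ck0_c4 : allB (fun i => ck0_p (Nat.add 6000 i)) 1374 = true := by decide +kernel
theorem ck0_a0 : ∀ u < 0, ck0_p u = true := allB_base
theorem ck0_a1 : ∀ u < 1500, ck0_p u = true := allB_extend (p := ck0_p) ck0_a0 ck0_c0
theorem ck0_a2 : ∀ u < 3000, ck0_p u = true := allB_extend (p := ck0_p) ck0_a1 ck0_c1
theorem ck0_a3 : ∀ u < 4500, ck0_p u = true := allB_extend (p := ck0_p) ck0_a2 ck0_c2
theorem ck0_a4 : ∀ u < 6000, ck0_p u = true := allB_extend (p := ck0_p) ck0_a3 ck0_c3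
theorem ck0_a5 : ∀ u < 7374, ck0_p u = true := allB_extend (p := ck0_p) ck0_a4 ck0_c4
theorem ck0 : ∀ u, 0 ≤ u → u < 7374 → cert.nodeOK u = true := by
  intro u h1 h2
  have h3 := ck0_a5 (u - 0) (by omega)
  have e : Nat.add 0 (u - 0) = u := by show 0 + (u - 0) = u; omega
  unfold ck0_p at h3
  rw [e] at h3; exact h3
end Cfsg.Agent.Lib.Helper40.PE.L10
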