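import Cfsg.Agent.Lib.Helper40.Fi.L10
set_option autoImplicit false
set_option maxRecDepth 100000
namespace Cfsg.Agent.Lib.Helper40.PE.L10
noncomputable def ck1_p : ℕ → Bool := fun i => cert.nodeOK (Nat.add 7374 i)
theorem ck1_c0 : allB (fun i => ck1_p (Nat.add 0 i)) 1500 = true := by decide +kernel
theorem ck1_c1 : allB (fun i => ck1_p (Nat.add 1500 i)) 1500 = true := by decide +kernel
theorem ck1_c2 : allB (fun i => ck1_p (Nat.add 3000 i)) 1500 = true := by decide +kernel
theorem ck1_c3 : allB (fun i => ck1_p (Nat.add 4500 i)) 1500 = true := by decide +kernel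
theorem ck1_c4 : allB (fun i => ck1_p (Nat.add 6000 i)) 1374 = true := by decide +kernel
theorem ck1_a0 : ∀ u < 0, ck1_p u = true := allB_base
theorem ck1_a1 : ∀ u < 1500, ck1_p u = true := allB_extend (p := ck1_p) ck1_a0 ck1_c0
theorem ck1_a2 : ∀ u < 3000, ck1_p u = true := allB_extend (p := ck1_p) ck1_a1 ck1_c1
theorem ck1_a3 : ∀ u < 4500, ck1_p u = true := allB_extend (p := ck1_p) ck1_a2 ck1_c2
theorem ck1_a4 : ∀ u < 6000, ck1_p u = true := allB_extend (p := ck1_p) ck1_a3 ck1_c3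
theorem ck1_a5 : ∀ u < 7374, ck1_p u = true := allB_extend (p := ck1_p) ck1_a4 ck1_c4
theorem ck1 : ∀ u, 7374 ≤ u → u < 14748 → cert.nodeOK u = true := by
  intro u h1 h2
  have h3 := ck1_a5 (u - 7374) (by omega)
  have e : Nat.add 7374 (u - 7374) = u := by show 7374 + (u - 7374) = u; omega
  unfold ck1_p at h3
  rw [e] at h3; exact h3
end Cfsg.Agent.Lib.Helper40.PE.L10
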