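import Cfsg.Agent.Lib.Helper40.Fi.L10
set_option autoImplicit false
set_option maxRecDepth 100000
namespace Cfsg.Agent.Lib.Helper40.PE.L10
noncomputable def ck4_p : ℕ → Bool := fun i => cert.nodeOK (Nat.add 29496 i)
theorem ck4_c0 : allB (fun i => ck4_p (Nat.add 0 i)) 1500 = true := by decide +kernel
theorem ck4_c1 : allB (fun i => ck4_p (Nat.add 1500 i)) 1500 = true := by decide +kernel
theorem ck4_c2 : allB (fun i => ck4_p (Nat.add 3000 i)) 1500 = true := by decide +kernel
theorem ck4_c3 : allB (fun i => ck4_p (Nat.add 4500 i)) 1500 = true := by decide +kernel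
theorem ck4_c4 : allB (fun i => ck4_p (Nat.add 6000 i)) 1374 = true := by decide +kernel
theorem ck4_a0 : ∀ u < 0, ck4_p u = true := allB_base
theorem ck4_a1 : ∀ u < 1500, ck4_p u = true := allB_extend (p := ck4_p) ck4_a0 ck4_c0
theorem ck4_a2 : ∀ u < 3000, ck4_p u = true := allB_extend (p := ck4_p) ck4_a1 ck4_c1
theorem ck4_a3 : ∀ u < 4500, ck4_p u = true := allB_extend (p := ck4_p) ck4_a2 ck4_c2
theorem ck4_a4 : ∀ u < 6000, ck4_p u = true := allB_extend (p := ck4_p) ck4_a3 ck4_c3
theorem ck4_a5 : ∀ u < 7374, ck4_p u = true := allB_extend (p := ck4_p) ck4_a4 ck4_c4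
theorem ck4 : ∀ u, 29496 ≤ u → u < 36870 → cert.nodeOK u = true := by
  intro u h1 h2
  have h3 := ck4_a5 (u - 29496) (by omega)
  have e : Nat.add 29496 (u - 29496) = u := by show 29496 + (u - 29496) = u; omega
  unfold ck4_p at h3
  rw [e] at h3; exact h3
end Cfsg.Agent.Lib.Helper40.PE.L10
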