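import Cfsg.Agent.Lib.Helper40.Fi.L10c0
import Cfsg.Agent.Lib.Helper40.Fi.L10c1
import Cfsg.Agent.Lib.Helper40.Fi.L10c2
import Cfsg.Agent.Lib.Helper40.Fi.L10c3
import Cfsg.Agent.Lib.Helper40.Fi.L10c4
import Cfsg.Agent.Lib.Helper40.Fi.L10c5
set_option autoImplicit false
set_option maxRecDepth 100000
namespace Cfsg.Agent.Lib.Helper40.PE.L10
theorem chk : ∀ u < cert.M, cert.nodeOK u = true := by
  intro u hu
  have hu' : u < 44241 := hu
  by_cases h0 : u < 7374
  · exact ck0 u (by omega) h0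
  by_cases h1 : u < 14748
  · exact ck1 u (by omega) h1
  by_cases h2 : u < 22122
  · exact ck2 u (by omega) h2
  by_cases h3 : u < 29496
  · exact ck3 u (by omega) h3
  by_cases h4 : u < 36870
  · exact ck4 u (by omega) h4
  exact ck5 u (by omega) hu'
theorem cov {G : Type*} [Group G] {s : ℕ → G} (hinv : ∀ k, s k * s k = 1) (hB : ∀ b ∈ B, wp s b = 1) (H : Subgroup G) (hH : ∀ w ∈ Sw, wp s w ∈ H) (g : G) (hg : g ∈ pre s 10) : ∃ u < 31671, (g : G ⧸ H) = cert.cos s H u :=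
  cover' (c := cert) (B := B) (Sw := Sw) rfl rfl (by decide) (by decide) (by decide) chk hinv hB hH g hg
end Cfsg.Agent.Lib.Helper40.PE.L10
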